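import Mathlib
import Cfsg.Agent.SectRankFour.C2.BThreeF_m3
import Cfsg.Agent.Lib.ProductSet
import Cfsg.Agent.SectRankFour.C2.Fin64_mg
import Cfsg.Agent.MinSimple.CaseD9_m3
import Cfsg.Agent.Lib.CoprimeCommutator
import Cfsg.Agent.FastGrp
import Cfsg.Agent.Prune
set_option linter.all false

section
prune_inst 0x7ffcfefbaff8bddfffff7e7fffffdffe39d4dfffffdffb4bffedfbffffff23673be5fbaf9de4d8ffdef7e2be30b87853f9ffceffef6bdc7ffffd5ff45ffbee1ff7ffbf8c71d6bc341ffe6ffffbf37fffffffffffffffffffffffffffffffffffffffffffffff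

-- part: SectRankFour/C2/BTwoCGlue
section
prune_inst 0x100000502200000018000000001c4292000000000b00010000000004c88c0020000620800002000000084400300020031000000010000000000000411c0080000210021000a000000000008000000000000000000000000000000000000000000000000
set_option linter.all false
open scoped Cfsg.Agent.FastGrp

/-!
# S0517, C2, section (2c): from the pair to the data
-/

set_option autoImplicit false

namespace Cfsg.Agent.SectRankFour.C2.BTwoCGlue

open Subgroup Cfsg Cfsg.Agent.ZN Cfsg.Agent.MinSimple.MinParabolic Cfsg.Agent.MinSimple.VModule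
open Cfsg.Agent.SectRankFour.C2.Defs Cfsg.Agent.SectRankFour.C2.BOneFacts
open Cfsg.Agent.SectRankFour.C2.BThreeA Cfsg.Agent.SectRankFour.C2.BTwoCData

universe u

variable {G : Type u} [Group G]

theorem half_of {S Q : Subgroup G} {y : G} (hQS : Q ≤ S) (hyQ : ∀ q ∈ Q, y * q * y⁻¹ ∈ Q)
    (hyQ' : ∀ q ∈ Q, y⁻¹ * q * y ∈ Q) (h3 : y * y * y = 1) (hyS : y ∉ S)
    (hS : ∀ s ∈ S, (∃ q ∈ Q, s * y * s⁻¹ = q * y) ∨ (∃ q ∈ Q, s * y * s⁻¹ = q * y⁻¹)) :
    Half S y := by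
  refine ⟨h3, hyS, fun s hs => ?_⟩
  rcases hS s hs with ⟨q, hq, e⟩ | ⟨q, hq, e⟩
  · left
    constructor
    · have e1 : y⁻¹ * s * y = (y⁻¹ * q * y) * s := by
        calc y⁻¹ * s * y = y⁻¹ * (s * y * s⁻¹) * s := by group
          _ = _ := by rw [e]; group
      rw [e1]; exact mul_mem (hQS (hyQ' q hq)) hs
    · have e1 : y * s * y⁻¹ = q⁻¹ * s := by
        calc y * s * y⁻¹ = y * (s * y * s⁻¹)⁻¹ * s := by group
          _ = _ := by rw [e]; group
      rw [e1]; exact mul_mem (hQS (inv_mem hq)) hs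
  · right
    constructor
    · have e1 : y * s * y = (y * q * y⁻¹) * s := by
        calc y * s * y = y * (s * y * s⁻¹) * s := by group
          _ = _ := by rw [e]; group
      rw [e1]; exact mul_mem (hQS (hyQ q hq)) hs
    · have e1 : y⁻¹ * s * y⁻¹ = q⁻¹ * s := by
        calc y⁻¹ * s * y⁻¹ = y⁻¹ * (s * y * s⁻¹)⁻¹ * s := by group
          _ = _ := by rw [e]; group
      rw [e1]; exact mul_mem (hQS (inv_mem hq)) hs

theorem half_inv {S : Subgroup G} {y : G} (h : Half S y) : Half S y⁻¹ := by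
  refine ⟨?_, fun e => h.notmem (by simpa using inv_mem e), fun s hs => ?_⟩
  · have := h.cube
    calc y⁻¹ * y⁻¹ * y⁻¹ = (y * y * y)⁻¹ := by group
      _ = 1 := by rw [this, inv_one]
  · rw [inv_inv]
    rcases h.dich s hs with ⟨h1, h2⟩ | ⟨h1, h2⟩
    · exact Or.inl ⟨h2, h1⟩
    · exact Or.inr ⟨h2, h1⟩

variable [Finite G] {S P1 P2 : Subgroup G}

/-- `|R| = 3`: elements of `S ∖ O₂(P)` invert `R` modulo `O₂(P)`. -/
theorem conj_R {P R : Subgroup G} {p : ℕ} (hR : Par S P R p) (hc : Nat.card R = 3) {s : G}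
    (hs : s ∈ S) : s ∈ o2 P ∨ ∀ r ∈ R, ∃ q ∈ o2 P, s * r * s⁻¹ = q * r⁻¹ := by
  obtain ⟨q, hq, n, hn, rfl⟩ := ParFacts.exists_mul hR hs
  have hnR : ∀ x ∈ R, n * x * n⁻¹ ∈ R := fun x hx =>
    (mem_normalizer_iff.1 (mem_inf.1 hn).2 x).1 hx
  have hQn : P ≤ normalizer (o2 P : Set G) := le_normalizer_o2 P
  rcases ParIndex.cent_or_inv hc hnR with h1 | h1
  · left
    exact mul_mem hq (ParFacts.mem_o2_of_comm hR (mem_inf.1 hn).1 h1)
  · right
    intro r hr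
    refine ⟨q * (r⁻¹ * q⁻¹ * r⁻¹⁻¹), mul_mem hq ?_, ?_⟩
    · exact conj_mem hQn (inv_mem (hR.R_le hr)) (inv_mem hq)
    · calc q * n * r * (q * n)⁻¹ = q * (n * r * n⁻¹) * q⁻¹ := by group
        _ = q * r⁻¹ * q⁻¹ := by rw [h1 r hr]
        _ = _ := by group

theorem not_mem_S {P R : Subgroup G} {p : ℕ} (hR : Par S P R p) {q r : G} (hq : q ∈ o2 P)
    (hr : r ∈ R) (hr1 : r ≠ 1) : q * r ∉ S := by
  intro hs
  have h1 : r ∈ S := by
    have := mul_mem (inv_mem (ParFacts.o2_le_S hR hq)) hs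
    rwa [inv_mul_cancel_left] at this
  have h2 : r ∈ S ⊓ (o2 P ⊔ R) := ⟨h1, mem_sup_right hr⟩
  rw [hR.inf_eq] at h2
  have h3 : r ∈ o2 P ⊓ R := ⟨h2, hr⟩
  rw [ParFacts.o2_inf_R hR, mem_bot] at h3
  exact hr1 h3

theorem half_mul {P R : Subgroup G} {p : ℕ} (hR : Par S P R p) (hc : Nat.card R = 3) {q r : G}
    (hq : q ∈ o2 P) (hr : r ∈ R) (hr1 : r ≠ 1) (h3 : (q * r) * (q * r) * (q * r) = 1) :
    Half S (q * r) := by
  have hQP : o2 P ≤ P := o2_le P
  have hyP : q * r ∈ P := mul_mem (hQP hq) (hR.R_le hr)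
  have hQn : P ≤ normalizer (o2 P : Set G) := le_normalizer_o2 P
  have hSQ : ∀ s ∈ S, ∀ a ∈ o2 P, s * a * s⁻¹ ∈ o2 P := fun s hs a ha =>
    conj_mem hQn (hR.le hs) ha
  refine half_of (ParFacts.o2_le_S hR) (fun a ha => conj_mem hQn hyP ha)
    (fun a ha => conj_mem' hQn hyP ha) h3 (not_mem_S hR hq hr hr1) ?_
  intro s hs
  set y := q * r with hy
  rcases conj_R hR hc hs with h1 | h1
  · left
    refine ⟨s * (y * s⁻¹ * y⁻¹), mul_mem h1 (conj_mem hQn hyP (inv_mem h1)), by group⟩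
  · right
    obtain ⟨b, hb, e⟩ := h1 r hr
    refine ⟨(s * q * s⁻¹) * b * (y⁻¹ * q * y), mul_mem (mul_mem (hSQ s hs q hq) hb)
      (conj_mem' hQn hyP hq), ?_⟩
    calc s * y * s⁻¹ = (s * q * s⁻¹) * (s * r * s⁻¹) := by rw [hy]; group
      _ = (s * q * s⁻¹) * (b * r⁻¹) := by rw [e]
      _ = _ := by rw [hy]; group

/-- an element of order 3 inverted by a given involution of `S` -/
theorem exists_y {P R : Subgroup G} {p : ℕ} (hR : Par S P R p) (hc : Nat.card R = 3) (hp : p = 3)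
    {t : G} (ht : t ∈ S) (ht2 : t * t = 1) (htQ : t ∉ o2 P) :
    ∃ y ∈ P, Half S y ∧ t * y * t⁻¹ = y⁻¹ := by
  have hQP : o2 P ≤ P := o2_le P
  have hQn : P ≤ normalizer (o2 P : Set G) := le_normalizer_o2 P
  obtain ⟨r, hr, hr1⟩ : ∃ r ∈ R, r ≠ 1 := by
    by_contra hcon
    push Not at hcon
    rw [(eq_bot_iff_forall _).2 hcon, Subgroup.card_bot] at hc
    norm_num at hc
  have hr3 : r ^ 3 = 1 := by rw [← hp]; exact hR.pow_R r hr
  have hti : t⁻¹ = t := inv_eq_of_mul_eq_one_left ht2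
  obtain ⟨q, hq, e⟩ := (conj_R hR hc ht).resolve_left htQ r hr
  set g := t * r * t⁻¹ * r⁻¹ with hg
  have hrr : r⁻¹ * r⁻¹ = r := by
    have h1 : r * r * r = 1 := by
      rw [← hr3, pow_succ, pow_two]
    calc r⁻¹ * r⁻¹ = r⁻¹ * r⁻¹ * (r * r * r) := by rw [h1, mul_one]
      _ = r := by group
  have hgq : g = q * r := by rw [hg, e, mul_assoc, hrr]
  have htg : t * g * t⁻¹ = g⁻¹ := by
    rw [hg]
    calc t * (t * r * t⁻¹ * r⁻¹) * t⁻¹ = (t * t) * r * t⁻¹ * r⁻¹ * t⁻¹ := by group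
      _ = r * t * r⁻¹ * t⁻¹ := by rw [ht2, hti, one_mul]
      _ = _ := by group
  have hgn : ∀ n : ℕ, ∃ a ∈ o2 P, g ^ n = a * r ^ n := by
    intro n
    induction n with
    | zero => exact ⟨1, one_mem _, by simp⟩
    | succ n ih =>
      obtain ⟨a, ha, e1⟩ := ih
      refine ⟨a * (r ^ n * q * (r ^ n)⁻¹), mul_mem ha
        (conj_mem hQn (pow_mem (hR.R_le hr) n) hq), ?_⟩
      rw [pow_succ, e1, hgq, pow_succ]
      group
  obtain ⟨a3, ha3, e3⟩ := hgn 3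
  rw [hr3, mul_one] at e3
  obtain ⟨k, hk⟩ := o2_isPGroup P ⟨a3, ha3⟩
  have hk' : a3 ^ 2 ^ k = 1 := by
    have := congrArg Subtype.val hk
    simpa using this
  set N := 4 ^ k with hN
  obtain ⟨a, ha, ea⟩ := hgn N
  have hrN : r ^ N = r := by
    have h1 : N % 3 = 1 := by
      rw [hN, Nat.pow_mod]; norm_num
    have h2 : N = 3 * (N / 3) + 1 := by omega
    rw [h2, pow_add, pow_mul, hr3, one_pow, one_mul, pow_one]
  rw [hrN] at ea
  have hy3 : (g ^ N) ^ 3 = 1 := by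
    have h4 : (4 : ℕ) ^ k = 2 ^ k * 2 ^ k := by rw [← mul_pow]; norm_num
    rw [← pow_mul, mul_comm, pow_mul, e3, hN, h4, pow_mul, hk', one_pow]
  refine ⟨g ^ N, ?_, ?_, ?_⟩
  · rw [ea]; exact mul_mem (hQP ha) (hR.R_le hr)
  · rw [ea]
    apply half_mul hR hc ha hr hr1
    rw [← ea]
    have : g ^ N * g ^ N * g ^ N = (g ^ N) ^ 3 := by rw [pow_succ, pow_two]
    rw [this, hy3]
  · have h1 : ∀ n : ℕ, t * g ^ n * t⁻¹ = (g ^ n)⁻¹ := by
      intro n
      induction n with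
      | zero => simp
      | succ n ih =>
        have h2 : t * g ^ (n + 1) * t⁻¹ = (t * g ^ n * t⁻¹) * (t * g * t⁻¹) := by
          rw [pow_succ]; group
        rw [h2, ih, htg, ← mul_inv_rev, ← pow_succ']
    exact h1 N

/-- `C_{P1}(z) = S` -/
theorem stab (h : Pair S P1 P2) {z : G} (hZ : ∀ a, a ∈ zc S ↔ a = 1 ∨ a = z) :
    ∀ g ∈ P1, g * z = z * g → g ∈ S := by
  obtain ⟨R1, p1, hR1⟩ := h.par1
  have hzc : z ∈ zc S := (hZ z).2 (Or.inr rfl)
  have hSz : ∀ s ∈ S, s * z = z * s := fun s hs => P2_Z h (le2 h hs) hzc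
  have h1 := hR1.max (P1 ⊓ centralizer {z})
    (le_inf (le1 h) fun s hs => mem_centralizer_singleton_iff.2 (hSz s hs)) inf_le_left
  rcases h1 with e | e
  · intro g hg hgz
    rw [← e]
    exact mem_inf.2 ⟨hg, mem_centralizer_singleton_iff.2 hgz⟩
  · exfalso
    apply not_norm h
    apply BOneFacts.le_normalizer_of
    intro g hg a ha
    rw [← e] at hg
    have hgz : g * z = z * g := mem_centralizer_singleton_iff.1 (mem_inf.1 hg).2
    rcases (hZ a).1 ha with e' | e' <;> rw [e']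
    · rw [mul_one, mul_inv_cancel]; exact one_mem _
    · rw [hgz, mul_inv_cancel_right]; exact hzc

/-- `|R1| = 3` if `|V| = 4` -/
theorem card_R1 (h : Pair S P1 P2) {R1 : Subgroup G} {p1 : ℕ} (hR1 : Par S P1 R1 p1) {z v : G}
    (hz1 : z ≠ 1) (hZ : ∀ a, a ∈ zc S ↔ a = 1 ∨ a = z)
    (hVm : ∀ a, a ∈ zl S P1 ↔ a = 1 ∨ a = z ∨ a = v ∨ a = v * z) :
    Nat.card R1 = 3 ∧ p1 = 3 := by
  have hinj : Function.Injective (fun r : R1 => (r : G) * z * (r : G)⁻¹) := by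
    rintro ⟨r, hr⟩ ⟨r', hr'⟩ e
    have e1 : r * z * r⁻¹ = r' * z * r'⁻¹ := e
    have e2 : (r'⁻¹ * r) * z = z * (r'⁻¹ * r) := by
      calc (r'⁻¹ * r) * z = r'⁻¹ * (r * z * r⁻¹) * r := by group
        _ = r'⁻¹ * (r' * z * r'⁻¹) * r := by rw [e1]
        _ = z * (r'⁻¹ * r) := by group
    have hm : r'⁻¹ * r ∈ R1 := mul_mem (inv_mem hr') hr
    have e3 := stab h hZ _ (hR1.R_le hm) e2
    apply Subtype.ext
    change r = r'
    by_contra hne
    have e4 : r'⁻¹ * r ≠ 1 := fun e5 => hne (inv_mul_eq_one.1 e5).symm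
    apply not_mem_S hR1 (one_mem _) hm e4
    rw [one_mul]; exact e3
  have hsub : Set.range (fun r : R1 => (r : G) * z * (r : G)⁻¹) ⊆ ({z, v, v * z} : Set G) := by
    rintro _ ⟨r, rfl⟩
    have hzV : z ∈ zl S P1 := (hVm z).2 (Or.inr (Or.inl rfl))
    have h1 := (hVm _).1 (conj_mem (P1_V h) (hR1.R_le r.2) hzV)
    rcases h1 with e | e | e | e
    · exfalso
      apply hz1
      calc z = (r : G)⁻¹ * ((r : G) * z * (r : G)⁻¹) * r := by group
        _ = 1 := by rw [e]; group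
    · exact Or.inl e
    · exact Or.inr (Or.inl e)
    · exact Or.inr (Or.inr e)
  have h1 : Nat.card R1 ≤ 3 := by
    have h2 : Nat.card R1 = (Set.range (fun r : R1 => (r : G) * z * (r : G)⁻¹)).ncard := by
      rw [← Nat.card_coe_set_eq]
      exact (Nat.card_range_of_injective hinj).symm
    rw [h2]
    refine (Set.ncard_le_ncard hsub (Set.toFinite _)).trans ?_
    exact (Set.ncard_insert_le _ _).trans (Nat.succ_le_succ ((Set.ncard_insert_le _ _).trans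
      (by rw [Set.ncard_singleton])))
  rcases hR1.card_R with e | ⟨e1, e2⟩
  · rcases hR1.p_eq with e' | e'
    · exact ⟨e.trans e', e'⟩
    · omega
  · omega

theorem exists_data (h : Pair S P1 P2) (hV : zl S P1 ≤ o2 P2)
    (hna : ¬ ∀ x ∈ vh S P1 P2, ∀ y ∈ vh S P1 P2, x * y = y * x)
    (h4 : Nat.card (zl S P1) = 4) (h3 : S.relIndex P2 = 3) :
    ∃ z z1 z2 v1 v2 y w, Data S z z1 z2 v1 v2 y w ∧ P1 = closure (insert y (S : Set G)) := by
  obtain ⟨R1, p1, hR1⟩ := h.par1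
  obtain ⟨R2, p2, hR2⟩ := h.par2
  obtain ⟨z, v, hz1, hv1, hvz, hz2, hv2, hZ, hVm⟩ := BTwoB.exists_zv h h4
  have hzV : z ∈ zl S P1 := (hVm z).2 (Or.inr (Or.inl rfl))
  have hvV : v ∈ zl S P1 := (hVm v).2 (Or.inr (Or.inr (Or.inl rfl)))
  have hzc : z ∈ zc S := (hZ z).2 (Or.inr rfl)
  have hzP : ∀ g ∈ P2, g * z = z * g := fun g hg => P2_Z h hg hzc
  have hSz : ∀ s ∈ S, s * z = z * s := fun s hs => hzP s (le2 h hs)
  have hQP : o2 P2 ≤ P2 := o2_le P2
  have hcR2 : Nat.card R2 = 3 := by rw [← hR2.relIndex]; exact h3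
  have hp2 : p2 = 3 := by
    rcases hR2.card_R with e | ⟨e1, e2⟩
    · omega
    · omega
  obtain ⟨hcR1, hp1⟩ := card_R1 h hR1 hz1 hZ hVm
  -- `w`
  obtain ⟨w, hw, hw1⟩ : ∃ r ∈ R2, r ≠ 1 := by
    by_contra hcon
    push Not at hcon
    rw [(eq_bot_iff_forall _).2 hcon, Subgroup.card_bot] at hcR2
    norm_num at hcR2
  have hw3 : w * w * w = 1 := by
    have := hR2.pow_R w hw
    rw [hp2, pow_succ, pow_two] at this
    exact this
  have hwP : w ∈ P2 := hR2.R_le hw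
  have hhw : Half S w := by
    have := half_mul hR2 hcR2 (one_mem _) hw hw1 (by simpa using hw3)
    simpa using this
  have hSv : ∀ s ∈ S, s * v * s⁻¹ = v ∨ s * v * s⁻¹ = v * z := by
    intro q hq
    have hqz : q * z = z * q := hSz q hq
    rcases (hVm _).1 (conj_mem (S_V h) hq hvV) with e | e | e | e
    · exfalso
      apply hv1
      calc v = q⁻¹ * (q * v * q⁻¹) * q := by group
        _ = 1 := by rw [e]; group
    · exfalso
      apply hvz
      calc v = q⁻¹ * (q * v * q⁻¹) * q := by group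
        _ = q⁻¹ * (z * q) := by rw [e, mul_assoc]
        _ = z := by rw [← hqz]; group
    · exact Or.inl e
    · exact Or.inr e
  -- `v1`, `v2`
  set v1 := w * v * w⁻¹ with hv1d
  set v2 := w * v1 * w⁻¹ with hv2d
  have hv1Q : v1 ∈ o2 P2 := conj_mem (P2_Q2 h) hwP (hV hvV)
  have hv2Q : v2 ∈ o2 P2 := conj_mem (P2_Q2 h) hwP hv1Q
  have hv1S : v1 ∈ S := Q2_le h hv1Q
  have hv2S : v2 ∈ S := Q2_le h hv2Q
  have hwv2 : w * v2 * w⁻¹ = v := by
    calc w * v2 * w⁻¹ = (w * w * w) * v * (w * w * w)⁻¹ := by rw [hv2d, hv1d]; group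
      _ = v := by rw [hw3]; group
  -- noncommutativity
  have hnc : ¬ v1 * v = v * v1 := by
    intro hc
    apply hna
    have hc' : v1 * v2 = v2 * v1 := by
      calc v1 * v2 = w * (v * v1) * w⁻¹ := by rw [hv2d]; simp only [hv1d]; group
        _ = w * (v1 * v) * w⁻¹ := by rw [hc]
        _ = v2 * v1 := by rw [hv2d]; simp only [hv1d]; group
    have hc'' : v2 * v = v * v2 := by
      calc v2 * v = w * (v1 * v2) * w⁻¹ := by
            rw [← hwv2]; simp only [hv2d]; group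
        _ = w * (v2 * v1) * w⁻¹ := by rw [hc']
        _ = v * v2 := by
            conv_rhs => rw [← hwv2]
            simp only [hv2d]; group
    let X : Set G := {z, v, v1, v2}
    have hXc : ∀ a ∈ X, ∀ b ∈ X, a * b = b * a := by
      have hzv := hzP v (hQP (hV hvV))
      have hzv1 := hzP v1 (hQP hv1Q)
      have hzv2 := hzP v2 (hQP hv2Q)
      intro a ha b hb
      simp only [X, Set.mem_insert_iff, Set.mem_singleton_iff] at ha hb
      rcases ha with ha | ha | ha | ha <;> rcases hb with hb | hb | hb | hb <;> rw [ha, hb] <;>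
        first
        | exact hzv | exact hzv.symm | exact hzv1 | exact hzv1.symm | exact hzv2
        | exact hzv2.symm | exact hc | exact hc.symm | exact hc' | exact hc'.symm | exact hc''
        | exact hc''.symm
    have CG := isMulCommutative_closure hXc
    have hcl : ∀ a ∈ closure X, ∀ b ∈ closure X, a * b = b * a := fun a ha b hb =>
      congrArg Subtype.val (CG.is_comm.comm ⟨a, ha⟩ ⟨b, hb⟩)
    have hVX : ∀ r ∈ ({1, w, w⁻¹} : Set G), ∀ a ∈ zl S P1, r * a * r⁻¹ ∈ closure X := by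
      have key : ∀ r ∈ P2, r * v * r⁻¹ ∈ closure X → ∀ a ∈ zl S P1, r * a * r⁻¹ ∈ closure X := by
        intro r hr hrv a ha
        have hrz : r * z * r⁻¹ ∈ closure X := by
          rw [hzP r hr, mul_inv_cancel_right]
          exact subset_closure (Or.inl rfl)
        rcases (hVm a).1 ha with e | e | e | e <;> rw [e]
        · rw [mul_one, mul_inv_cancel]; exact one_mem _
        · exact hrz
        · exact hrv
        · have : r * (v * z) * r⁻¹ = (r * v * r⁻¹) * (r * z * r⁻¹) := by group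
          rw [this]; exact mul_mem hrv hrz
      rintro r (rfl | rfl | hr)
      · apply key 1 (one_mem _)
        have : (1 : G) * v * 1⁻¹ = v := by group
        rw [this]; exact subset_closure (Or.inr (Or.inl rfl))
      · apply key _ hwP
        exact subset_closure (Or.inr (Or.inr (Or.inl rfl)))
      · rw [Set.mem_singleton_iff.1 hr]
        apply key _ (inv_mem hwP)
        have : w⁻¹ * v * w⁻¹⁻¹ = v2 := by
          calc w⁻¹ * v * w⁻¹⁻¹ = w⁻¹ * (w * v2 * w⁻¹) * w⁻¹⁻¹ := by rw [hwv2]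
            _ = v2 := by group
        rw [this]; exact subset_closure (Or.inr (Or.inr (Or.inr rfl)))
    have hle : vh S P1 P2 ≤ closure X := by
      rw [vh, cl, closure_le]
      rintro _ ⟨x, hx, a, ha, rfl⟩
      -- `x = r s`
      have hx' : x ∈ (o2 P2 ⊔ R2) ⊔ S := by rw [hR2.sup_eq]; exact hx
      have hn : S ≤ normalizer ((o2 P2 ⊔ R2 : Subgroup G) : Set G) :=
        (le2 h).trans hR2.norm_QR
      rw [← SetLike.mem_coe, coe_mul_of_right_le_normalizer_left _ _ hn] at hx'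
      obtain ⟨m, hm, s, hs, rfl⟩ := Set.mem_mul.1 hx'
      rw [coe_mul_of_right_le_normalizer_left _ _ (hR2.R_le.trans (P2_Q2 h))] at hm
      obtain ⟨q, hq, r, hr, rfl⟩ := Set.mem_mul.1 hm
      have hb : (r⁻¹ * q * r * s) * a * (r⁻¹ * q * r * s)⁻¹ ∈ zl S P1 :=
        conj_mem (S_V h) (mul_mem (Q2_le h (conj_mem' (P2_Q2 h) (hR2.R_le hr) hq)) hs) ha
      have e : q * r * s * a * (q * r * s)⁻¹ =
          r * ((r⁻¹ * q * r * s) * a * (r⁻¹ * q * r * s)⁻¹) * r⁻¹ := by group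
      rw [e]
      refine hVX r ?_ _ hb
      -- `r ∈ {1, w, w⁻¹}`
      have hsub : ({1, w, w⁻¹} : Set G) ⊆ (R2 : Set G) := by
        rintro a (rfl | rfl | ha)
        · exact one_mem _
        · exact hw
        · rw [Set.mem_singleton_iff.1 ha]; exact inv_mem hw
      have hww : w ≠ w⁻¹ := by
        intro e
        have e2 : w * w = 1 := by
          nth_rewrite 2 [e]; exact mul_inv_cancel w
        rw [e2, one_mul] at hw3
        exact hw1 hw3
      have hcard : ({1, w, w⁻¹} : Set G).ncard = 3 := by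
        rw [Set.ncard_insert_of_notMem, Set.ncard_pair hww]
        rintro (e | e)
        · exact hw1 e.symm
        · exact hw1 (inv_eq_one.1 (Set.mem_singleton_iff.1 e).symm)
      have he : ({1, w, w⁻¹} : Set G) = (R2 : Set G) := by
        apply Set.eq_of_subset_of_ncard_le hsub _ (Set.toFinite _)
        rw [hcard, ← Nat.card_coe_set_eq]
        exact hcR2.le
      rw [he]; exact hr
    intro x hx y hy
    exact hcl x (hle hx) y (hle hy)
  have hv1sq : v1 * v1 = 1 := by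
    calc v1 * v1 = w * (v * v) * w⁻¹ := by rw [hv1d]; group
      _ = 1 := by rw [hv2]; group
  have hv1Q1 : v1 ∉ o2 P1 := fun e => hnc (V_Q1 h v1 e v hvV)
  obtain ⟨y0, hy0P, hy0, hty0⟩ := exists_y hR1 hcR1 hp1 hv1S hv1sq hv1Q1
  -- replace `y0` by its inverse if necessary
  obtain ⟨y, hyP, hy, hty, hyz⟩ : ∃ y ∈ P1, Half S y ∧ v1 * y * v1⁻¹ = y⁻¹ ∧
      y * z * y⁻¹ = v := by
    rcases (hVm _).1 (conj_mem (P1_V h) hy0P hzV) with e | e | e | e
    · exfalso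
      apply hz1
      calc z = y0⁻¹ * (y0 * z * y0⁻¹) * y0 := by group
        _ = 1 := by rw [e]; group
    · exact absurd (stab h hZ y0 hy0P (mul_inv_eq_iff_eq_mul.1 e)) hy0.notmem
    · exact ⟨y0, hy0P, hy0, hty0, e⟩
    · refine ⟨y0⁻¹, inv_mem hy0P, half_inv hy0, ?_, ?_⟩
      · calc v1 * y0⁻¹ * v1⁻¹ = (v1 * y0 * v1⁻¹)⁻¹ := by group
          _ = y0⁻¹⁻¹ := by rw [hty0]
      · rw [inv_inv]
        -- `y0 v y0⁻¹ = z`
        have hzv : z * v = v * z := (hzP v (hQP (hV hvV))).symm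
        rcases (hVm _).1 (conj_mem (P1_V h) hy0P hvV) with e' | e' | e' | e'
        · exfalso
          apply hv1
          calc v = y0⁻¹ * (y0 * v * y0⁻¹) * y0 := by group
            _ = 1 := by rw [e']; group
        · rw [← e']; group
        · exfalso
          -- then `y0²` centralises `z`
          have e2 : y0 * (y0 * z * y0⁻¹) * y0⁻¹ = z := by
            calc y0 * (y0 * z * y0⁻¹) * y0⁻¹ = y0 * (v * z) * y0⁻¹ := by rw [e]
              _ = (y0 * v * y0⁻¹) * (y0 * z * y0⁻¹) := by group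
              _ = v * (v * z) := by rw [e, e']
              _ = z := by rw [← mul_assoc, hv2, one_mul]
          have e3 : (y0 * y0) * z = z * (y0 * y0) := by
            apply mul_inv_eq_iff_eq_mul.1
            calc (y0 * y0) * z * (y0 * y0)⁻¹ = y0 * (y0 * z * y0⁻¹) * y0⁻¹ := by group
              _ = z := e2
          have e4 := stab h hZ _ (mul_mem hy0P hy0P) e3
          rw [sq_eq_inv hy0.cube] at e4
          exact hy0.notmem (by simpa using inv_mem e4)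
        · exfalso
          apply hvz
          have := e'.trans e.symm
          simpa using this
  set z2 := y * v * y⁻¹ with hz2d
  have hz2V : z2 ∈ zl S P1 := conj_mem (P1_V h) hyP hvV
  have hVS : zl S P1 ≤ S := V_le h
  have hyz2 : y * z2 * y⁻¹ = z := by
    calc y * z2 * y⁻¹ = (y * y * y) * z * (y * y * y)⁻¹ := by
          rw [hz2d]
          conv_lhs => rw [← hyz]
          group
      _ = z := by rw [hy.cube]; group
  have hP1 : P1 = closure (insert y (S : Set G)) := by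
    have h1 : S ≤ closure (insert y (S : Set G)) := fun s hs => subset_closure (Or.inr hs)
    have h2 : closure (insert y (S : Set G)) ≤ P1 := by
      rw [closure_le]
      rintro a (rfl | ha)
      · exact hyP
      · exact le1 h ha
    rcases hR1.max _ h1 h2 with e | e
    · exfalso
      apply hy.notmem
      have : y ∈ closure (insert y (S : Set G)) := subset_closure (Or.inl rfl)
      rwa [e] at this
    · exact e.symm
  have hP2 : P2 = closure (insert w (S : Set G)) := by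
    have h1 : S ≤ closure (insert w (S : Set G)) := fun s hs => subset_closure (Or.inr hs)
    have h2 : closure (insert w (S : Set G)) ≤ P2 := by
      rw [closure_le]
      rintro a (rfl | ha)
      · exact hwP
      · exact le2 h ha
    rcases hR2.max _ h1 h2 with e | e
    · exfalso
      apply hhw.notmem
      have : w ∈ closure (insert w (S : Set G)) := subset_closure (Or.inl rfl)
      rwa [e] at this
    · exact e.symm
  refine ⟨z, v, z2, v1, v2, y, w, ?_, hP1⟩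
  refine
    { two := isPGroup h
      hy := hy
      hw := hhw
      z_mem := hVS hzV
      z1_mem := hVS hvV
      z2_mem := hVS hz2V
      v1_mem := hv1S
      v2_mem := hv2S
      yz := hyz
      yz1 := rfl
      yz2 := hyz2
      wz := by rw [hzP w hwP, mul_inv_cancel_right]
      wz1 := rfl
      wv1 := rfl
      wv2 := hwv2
      z_sq := hz2
      z_ne := hz1
      z_comm := hSz
      z_uniq := fun g hg hg2 hgc => (hZ g).1
        (Cfsg.Agent.MinSimple.VModule.mem_zc.mpr ⟨hg, hgc, by rw [pow_two]; exact hg2⟩)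
      ne := hvz
      nab := ?_
      ty := hty
      core := ?_
      big := ?_ }
  · rcases hSv v1 hv1S with e | e
    · exact absurd (mul_inv_eq_iff_eq_mul.1 e) hnc
    · have e1 : v1 * v = v * z * v1 := mul_inv_eq_iff_eq_mul.1 e
      have hzv : v * z = z * v := hzP v (hQP (hV hvV))
      rw [e1, hzv]
      calc v * v1 = (z * z) * (v * v1) := by rw [hz2, one_mul]
        _ = _ := by simp only [mul_assoc]
  · intro U hU hUS hUy hUw
    apply h.nonlocal U ((isPGroup h).to_le hU)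
    · rw [hP1, closure_le]
      rintro a (rfl | ha)
      · apply mem_normalizer_of_map_le
        rintro _ ⟨u, hu, rfl⟩
        exact hUy u hu
      · apply mem_normalizer_of_map_le
        rintro _ ⟨u, hu, rfl⟩
        exact hUS a ha u hu
    · rw [hP2, closure_le]
      rintro a (rfl | ha)
      · apply mem_normalizer_of_map_le
        rintro _ ⟨u, hu, rfl⟩
        exact hUw u hu
      · apply mem_normalizer_of_map_le
        rintro _ ⟨u, hu, rfl⟩
        exact hUS a ha u hu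
  · have hbig := h.hyp.big
    rw [PRankLE] at hbig
    push Not at hbig
    obtain ⟨A, -, hA2, hAc⟩ := hbig
    have hAp : IsPGroup 2 A := fun a => ⟨1, Subtype.ext (by simpa using hA2 a a.2)⟩
    obtain ⟨T, hT⟩ := h.syl
    obtain ⟨T', hT'⟩ := hAp.exists_le_sylow
    obtain ⟨g, hg⟩ := MulAction.exists_smul_eq G T' T
    refine ⟨A.map (MulAut.conj g).toMonoidHom, ?_, ?_, ?_⟩
    · rw [← hT, ← hg]
      rintro _ ⟨a, ha, rfl⟩
      exact Subgroup.smul_mem_pointwise_smul a (MulAut.conj g) T' (hT' ha)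
    · rintro _ ⟨a, ha, rfl⟩
      rw [← map_mul, ← pow_two, hA2 a ha, map_one]
    · rw [card_map_of_injective (MulAut.conj g).injective]
      exact hAc

end Cfsg.Agent.SectRankFour.C2.BTwoCGlue

private theorem dce_9a196cfe66b9 : _root_.True := by
  try have : _root_.True := by simp only [_root_.Cfsg.PRankLE.eq_1]
  exact _root_.True.intro
end

-- part: SectRankFour/C2/DA_mg
section
prune_inst 0x2200000000000000001c4292000002004b00010000000004808c400000062080000010000008042030000000000000000000000000000001180080000210021000a000000000000000000000000000000000000000000000000000000000000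
set_option linter.all false
open scoped Cfsg.Agent.FastGrp

-- part: SectRankFour/C2/DA
section
/-!
# S0517, section 1: two conjugates of an elementary abelian subgroup

`P` acts on its normal 2-subgroup `Q`, `V ≤ P` is elementary abelian, normalised by `Q`,
`D = V ∩ Q`, `V = D⟨a⟩`, and `a` inverts `r` modulo `Q`, `r` of odd order `n` modulo `Q`.
Then some `x ∈ rQ` with `x ^ n = 1` lies in `L = ⟨V, V^x⟩`; `F = D D^x` is normal in `L Q`,
`[Q, L] ≤ F`, `I = D ∩ D^x` is central in `L`, `F/I` is elementary abelian and `x` acts on `F/I`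
without fixed points.
-/

set_option autoImplicit false

namespace Cfsg.Agent.SectRankFour.C2.DA

open Subgroup Pointwise

variable {G : Type*} [Group G]

/-- the fixed point free action, abstractly -/
theorem fpf_abs {M : Type*} [Group M] (D : Subgroup M) (A X : MulAut M) {n : ℕ} (hn : Odd n)
    (hX : X ^ n = 1) (hAX : A * X * A⁻¹ = X⁻¹)
    (hsup : ∀ m : M, ∃ d ∈ D, ∃ e ∈ D, m = d * X e) (hdisj : ∀ d ∈ D, ∀ e ∈ D, d = X e → d = 1)
    (hA : ∀ d ∈ D, A d = d) (hAD : ∀ m, A m * m⁻¹ ∈ D) (m : M) (hm : X m = m) : m = 1 := by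
  -- elements of `D` fixed by `X` are trivial
  have hfix : ∀ d ∈ D, X d = d → d = 1 := fun d hd h => hdisj d hd d hd h.symm
  -- `A` maps `X`-fixed elements to `X`-fixed elements
  have hXA : ∀ y : M, X (A y) = A (X⁻¹ y) := by
    intro y
    have h1 : X * A = A * X⁻¹ := by
      have h5 : (A * X * A⁻¹)⁻¹ = X := by rw [hAX, inv_inv]
      have h6 : (A * X * A⁻¹)⁻¹ = A * X⁻¹ * A⁻¹ := by simp only [mul_assoc, _root_.mul_inv_rev, _root_.inv_inv]
      have h7 : A * X⁻¹ * A⁻¹ = X := h6.symm.trans h5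
      calc X * A = (A * X⁻¹ * A⁻¹) * A := by rw [h7]
        _ = A * X⁻¹ := by rw [inv_mul_cancel_right]
    exact congrArg (fun f : MulAut M => f y) h1
  have hXi : X⁻¹ m = m := by
    have := congrArg (fun y => X⁻¹ y) hm
    simpa using this.symm
  have hAm : A m = m := by
    have h1 : X (A m * m⁻¹) = A m * m⁻¹ := by
      rw [map_mul, map_inv, hXA, hXi, hm]
    exact mul_inv_eq_one.mp (hfix _ (hAD m) h1)
  obtain ⟨d, hd, e, he, rfl⟩ := hsup m
  have hAXe : A (X e) = X⁻¹ e := by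
    have h1 : A (X e) = X⁻¹ (A e) := by
      have h2 : A * X = X⁻¹ * A := by rw [← hAX, inv_mul_cancel_right]
      exact congrArg (fun f : MulAut M => f e) h2
    rw [h1, hA e he]
  have h1 : X⁻¹ e = X e := by
    rw [map_mul, hA d hd, hAXe] at hAm
    exact mul_left_cancel hAm
  have h2 : (X ^ 2) e = e := by
    have := congrArg (fun y => X y) h1
    simp only [MulAut.apply_inv_self] at this
    rw [pow_two]
    exact this.symm
  have h3 : X e = e := by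
    obtain ⟨k, hk⟩ := hn
    have h4 : ∀ j : ℕ, (X ^ (2 * j)) e = e := by
      intro j
      induction j with
      | zero => simp
      | succ j ih =>
        rw [Nat.mul_succ, pow_add]
        show (X ^ (2 * j)) ((X ^ 2) e) = e
        rw [h2, ih]
    have h5 : (X ^ n) e = e := by rw [hX]; rfl
    rw [hk, pow_succ'] at h5
    change X ((X ^ (2 * k)) e) = e at h5
    rwa [h4 k] at h5
  have h6 : e = 1 := hfix e he h3
  subst h6
  rw [map_one, mul_one] at hm ⊢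
  exact hfix d hd hm

/-- The input. -/
structure Inp (P Q V : Subgroup G) (a r : G) (n : ℕ) : Prop where
  QP : Q ≤ P
  PQ : P ≤ normalizer (Q : Set G)
  two : IsPGroup 2 Q
  VP : V ≤ P
  comm : ∀ v ∈ V, ∀ w ∈ V, v * w = w * v
  sq : ∀ v ∈ V, v ^ 2 = 1
  QV : Q ≤ normalizer (V : Set G)
  ha : a ∈ V
  hVa : ∀ v ∈ V, v ∈ Q ∨ v * a ∈ Q
  hr : r ∈ P
  odd : Odd n
  hrn : r ^ n ∈ Q
  har : a * r * a⁻¹ * r ∈ Q

/-- conjugate subgroup `x V x⁻¹` -/
def cj (x : G) (V : Subgroup G) : Subgroup G := V.map (MulAut.conj x).toMonoidHom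

theorem mem_cj {x : G} {V : Subgroup G} {g : G} : g ∈ cj x V ↔ x⁻¹ * g * x ∈ V := by
  constructor
  · rintro ⟨v, hv, rfl⟩
    have : x⁻¹ * (x * v * x⁻¹) * x = v := by group
    show x⁻¹ * (x * v * x⁻¹) * x ∈ V
    rwa [this]
  · intro h
    exact ⟨_, h, by show x * (x⁻¹ * g * x) * x⁻¹ = g; group⟩

theorem conj_mem_cj {x : G} {V : Subgroup G} {v : G} (hv : v ∈ V) : x * v * x⁻¹ ∈ cj x V :=
  ⟨v, hv, rfl⟩

/-- The choice of `x`. -/
theorem Inp.exists_x [Finite G] {P Q V : Subgroup G} {a r : G} {n : ℕ} (h : Inp P Q V a r n) :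
    ∃ x ∈ P, x * r⁻¹ ∈ Q ∧ x ^ n = 1 ∧ x ∈ V ⊔ cj x V := by
  classical
  -- choose `y ∈ rQ` with `⟨V, V^y⟩` minimal
  have hex : ∃ k : ℕ, ∃ y ∈ P, y * r⁻¹ ∈ Q ∧ Nat.card (V ⊔ cj y V : Subgroup G) = k :=
    ⟨_, r, h.hr, by rw [mul_inv_cancel]; exact one_mem _, rfl⟩
  obtain ⟨y, hy, hyr, hk⟩ := Nat.find_spec hex
  have hmin : ∀ z ∈ P, z * r⁻¹ ∈ Q →
      Nat.card (V ⊔ cj y V : Subgroup G) ≤ Nat.card (V ⊔ cj z V : Subgroup G) := by
    intro z hz hzr
    rw [hk]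
    exact Nat.find_min' hex ⟨z, hz, hzr, rfl⟩
  -- the quotient `P / Q`
  have hN : (Q.subgroupOf P).Normal := normal_subgroupOf_of_le_normalizer h.PQ
  let π : P →* P ⧸ Q.subgroupOf P := QuotientGroup.mk' _
  have hπ : ∀ u v : P, π u = π v ↔ (u : G) * (v : G)⁻¹ ∈ Q := by
    intro u v
    show (QuotientGroup.mk' (Q.subgroupOf P)) u = (QuotientGroup.mk' (Q.subgroupOf P)) v ↔ _
    rw [QuotientGroup.mk'_apply, QuotientGroup.mk'_apply, eq_comm, QuotientGroup.eq_iff_div_mem,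
      mem_subgroupOf]
    constructor
    · intro h1
      have := Q.inv_mem h1
      simpa only [div_eq_mul_inv, _root_.Subgroup.coe_mul, _root_.InvMemClass.coe_inv, _root_.mul_inv_rev, _root_.inv_inv] using this
    · intro h1
      have := Q.inv_mem h1
      simpa only [div_eq_mul_inv, _root_.Subgroup.coe_mul, _root_.InvMemClass.coe_inv, _root_.mul_inv_rev, _root_.inv_inv] using this
  have hπ1 : ∀ u : P, π u = 1 ↔ (u : G) ∈ Q := by
    intro u
    have := hπ u 1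
    simpa only [_root_.map_one, _root_.OneMemClass.coe_one, _root_.inv_one, _root_.mul_one] using this
  set a' : P := ⟨a, h.VP h.ha⟩ with ha'
  set r' : P := ⟨r, h.hr⟩ with hr'
  set y' : P := ⟨y, hy⟩ with hy'
  have hyr' : π y' = π r' := (hπ _ _).mpr hyr
  have ha2 : a' * a' = 1 := Subtype.ext (by
    show a * a = 1
    rw [← pow_two]; exact h.sq a h.ha)
  have hπa : π a' * π r' * (π a')⁻¹ * π r' = 1 := by
    rw [← map_inv, ← map_mul, ← map_mul, ← map_mul]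
    exact (hπ1 _).mpr h.har
  have hrn : π r' ^ n = 1 := by
    rw [← map_pow]
    exact (hπ1 _).mpr h.hrn
  -- `w = (b a)^((n+1)/2)`, `b = y a y⁻¹`
  have hba : π (y' * a' * y'⁻¹ * a') = π r' ^ 2 := by
    have h1 : (π a')⁻¹ = π a' := by
      rw [inv_eq_iff_mul_eq_one, ← map_mul, ha2, map_one]
    have h2 : π a' * (π r')⁻¹ * π a' = π r' := by
      have h3 : π a' * π r' * π a' = (π r')⁻¹ := by
        rw [← h1] at hπa ⊢
        rw [eq_inv_iff_mul_eq_one]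
        rw [inv_inv] at hπa
        simpa only [h1] using hπa
      have h4 := congrArg (fun t => t⁻¹) h3
      simp only [mul_inv_rev, inv_inv, h1] at h4
      rw [← mul_assoc] at h4
      exact h4
    calc π (y' * a' * y'⁻¹ * a') = π r' * (π a' * (π r')⁻¹ * π a') := by
          simp only [map_mul, map_inv, hyr']; group
      _ = π r' ^ 2 := by rw [h2, pow_two]
  obtain ⟨m, hm⟩ := h.odd
  set w : P := (y' * a' * y'⁻¹ * a') ^ (m + 1) with hw
  have hwr : π w = π r' := by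
    rw [hw, map_pow, hba, ← pow_mul]
    have : 2 * (m + 1) = n + 1 := by omega
    rw [this, pow_succ, hrn, one_mul]
  -- make the order odd
  obtain ⟨k, hk2⟩ : ∃ k : ℕ, ((w : G) ^ n) ^ 2 ^ k = 1 := by
    have h1 : (w : G) ^ n ∈ Q := by
      have h2 : π (w ^ n) = 1 := by rw [map_pow, hwr, hrn]
      exact (hπ1 _).mp h2
    obtain ⟨k, hk⟩ := h.two ⟨_, h1⟩
    exact ⟨k, congrArg Subtype.val hk⟩
  have hcop : Nat.Coprime n (2 ^ k) :=
    Nat.Coprime.pow_right k (Nat.coprime_two_right.mpr h.odd)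
  obtain ⟨e, he1, he2⟩ := Nat.chineseRemainder hcop 1 0
  set x' : P := w ^ e with hx'
  have hxr : π x' = π r' := by
    rw [hx', map_pow, hwr]
    have h1 : π r' ^ e = π r' ^ 1 := by
      rw [pow_eq_pow_iff_modEq]
      exact he1.of_dvd (orderOf_dvd_of_pow_eq_one hrn)
    rw [h1, pow_one]
  have hxn : (x' : G) ^ n = 1 := by
    have h1 : 2 ^ k ∣ e := (Nat.modEq_zero_iff_dvd).mp he2
    obtain ⟨c, hc⟩ := h1
    have h2 : (x' : G) = (w : G) ^ e := by rw [hx']; rfl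
    rw [h2, ← pow_mul, mul_comm e n, pow_mul, hc, pow_mul, hk2, one_pow]
  have hL : (x' : G) ∈ V ⊔ cj y V := by
    have hb : y * a * y⁻¹ * a ∈ V ⊔ cj y V :=
      mul_mem (mem_sup_right (conj_mem_cj h.ha)) (mem_sup_left h.ha)
    have h2 : (x' : G) = ((y * a * y⁻¹ * a) ^ (m + 1)) ^ e := by rw [hx', hw]; rfl
    rw [h2]
    exact pow_mem (pow_mem hb _) _
  refine ⟨x', x'.2, (hπ _ _).mp hxr, hxn, ?_⟩
  have hle : V ⊔ cj (x' : G) V ≤ V ⊔ cj y V := by
    refine sup_le le_sup_left ?_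
    rintro _ ⟨v, hv, rfl⟩
    exact mul_mem (mul_mem hL (mem_sup_left hv)) (inv_mem hL)
  have heq := eq_of_le_of_card_ge hle (hmin x' x'.2 ((hπ _ _).mp hxr))
  rw [heq]
  exact hL

/-- The configuration `(P, Q, V, a, r, n)` with a choice of `x`. -/
structure Ch (P Q V : Subgroup G) (a r : G) (n : ℕ) (x : G) : Prop extends Inp P Q V a r n where
  xP : x ∈ P
  xr : x * r⁻¹ ∈ Q
  xn : x ^ n = 1
  xL : x ∈ V ⊔ cj x V

theorem Inp.exists_ch [Finite G] {P Q V : Subgroup G} {a r : G} {n : ℕ} (h : Inp P Q V a r n) :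
    ∃ x, Ch P Q V a r n x := by
  obtain ⟨x, h1, h2, h3, h4⟩ := h.exists_x
  exact ⟨x, h, h1, h2, h3, h4⟩

/-- `L = ⟨V, V^x⟩` -/
def LL (V : Subgroup G) (x : G) : Subgroup G := V ⊔ cj x V

/-- `F = D D^x`, `D = V ∩ Q` -/
def FF (Q V : Subgroup G) (x : G) : Subgroup G := (V ⊓ Q) ⊔ cj x (V ⊓ Q)

/-- `I = D ∩ D^x` -/
def II (Q V : Subgroup G) (x : G) : Subgroup G := (V ⊓ Q) ⊓ cj x (V ⊓ Q)

namespace Ch

variable {P Q V : Subgroup G} {a r : G} {n : ℕ} {x : G}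

theorem conj_Q (h : Ch P Q V a r n x) {g q : G} (hg : g ∈ P) (hq : q ∈ Q) : g * q * g⁻¹ ∈ Q :=
  (mem_normalizer_iff.mp (h.PQ hg) q).mp hq

theorem conj_Q' (h : Ch P Q V a r n x) {g q : G} (hg : g ∈ P) (hq : q ∈ Q) : g⁻¹ * q * g ∈ Q := by
  have := h.conj_Q (P.inv_mem hg) hq
  rwa [inv_inv] at this

theorem cj_inf (h : Ch P Q V a r n x) : cj x (V ⊓ Q) = cj x V ⊓ Q := by
  ext g
  rw [mem_inf, mem_cj, mem_cj, mem_inf]
  refine and_congr_right fun _ => ⟨fun h1 => ?_, fun h1 => h.conj_Q' h.xP h1⟩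
  have h2 := h.conj_Q h.xP h1
  have h3 : x * (x⁻¹ * g * x) * x⁻¹ = g := by group
  rwa [h3] at h2

theorem cjV_le (h : Ch P Q V a r n x) : cj x V ≤ P := by
  rintro _ ⟨v, hv, rfl⟩
  exact mul_mem (mul_mem h.xP (h.VP hv)) (inv_mem h.xP)

theorem L_le (h : Ch P Q V a r n x) : LL V x ≤ P := sup_le h.VP h.cjV_le

theorem xLL (h : Ch P Q V a r n x) : x ∈ LL V x := h.xL

/-- `Q` normalises `V^x` -/
theorem Q_cj (h : Ch P Q V a r n x) : Q ≤ normalizer (cj x V : Set G) := by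
  intro q hq
  rw [mem_normalizer_iff]
  have key : ∀ q ∈ Q, ∀ g : G, g ∈ cj x V → q * g * q⁻¹ ∈ cj x V := by
    intro q hq g hg
    rw [mem_cj] at hg ⊢
    have h1 := (mem_normalizer_iff.mp (h.QV (h.conj_Q' h.xP hq)) _).mp hg
    have h2 : x⁻¹ * q * x * (x⁻¹ * g * x) * (x⁻¹ * q * x)⁻¹ = x⁻¹ * (q * g * q⁻¹) * x := by group
    rwa [h2] at h1
  intro g
  refine ⟨key q hq g, fun h1 => ?_⟩
  have h2 := key q⁻¹ (Q.inv_mem hq) _ h1
  have h3 : q⁻¹ * (q * g * q⁻¹) * q⁻¹⁻¹ = g := by group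
  rwa [h3] at h2

/-- `[Q, V] ≤ D` -/
theorem comm_V (h : Ch P Q V a r n x) {v q : G} (hv : v ∈ V) (hq : q ∈ Q) :
    v * q * v⁻¹ * q⁻¹ ∈ V ⊓ Q := by
  refine mem_inf.mpr ⟨?_, mul_mem (h.conj_Q (h.VP hv) hq) (inv_mem hq)⟩
  have h1 := (mem_normalizer_iff.mp (h.QV hq) v⁻¹).mp (inv_mem hv)
  have h2 : v * q * v⁻¹ * q⁻¹ = v * (q * v⁻¹ * q⁻¹) := by group
  rw [h2]
  exact mul_mem hv h1

theorem comm_cjV (h : Ch P Q V a r n x) {v q : G} (hv : v ∈ cj x V) (hq : q ∈ Q) :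
    v * q * v⁻¹ * q⁻¹ ∈ cj x (V ⊓ Q) := by
  rw [h.cj_inf]
  refine mem_inf.mpr ⟨?_, mul_mem (h.conj_Q (h.cjV_le hv) hq) (inv_mem hq)⟩
  have h1 := (mem_normalizer_iff.mp (h.Q_cj hq) v⁻¹).mp (inv_mem hv)
  have h2 : v * q * v⁻¹ * q⁻¹ = v * (q * v⁻¹ * q⁻¹) := by group
  rw [h2]
  exact mul_mem hv h1

theorem Q_D (h : Ch P Q V a r n x) : Q ≤ normalizer ((V ⊓ Q : Subgroup G) : Set G) := by
  intro q hq
  rw [mem_normalizer_iff]
  intro g
  rw [mem_inf, mem_inf]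
  exact and_congr (mem_normalizer_iff.mp (h.QV hq) g) (mem_normalizer_iff.mp (le_normalizer hq) g)

theorem Q_cjD (h : Ch P Q V a r n x) : Q ≤ normalizer (cj x (V ⊓ Q) : Set G) := by
  rw [h.cj_inf]
  intro q hq
  rw [mem_normalizer_iff]
  intro g
  rw [mem_inf, mem_inf]
  exact and_congr (mem_normalizer_iff.mp (h.Q_cj hq) g) (mem_normalizer_iff.mp (le_normalizer hq) g)

theorem cjD_le (h : Ch P Q V a r n x) : cj x (V ⊓ Q) ≤ Q := by
  rw [h.cj_inf]; exact inf_le_right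

theorem F_le_Q (h : Ch P Q V a r n x) : FF Q V x ≤ Q := sup_le inf_le_right h.cjD_le

theorem D_le_F : V ⊓ Q ≤ FF Q V x := le_sup_left

theorem cjD_le_F : cj x (V ⊓ Q) ≤ FF Q V x := le_sup_right

theorem I_le_D : II Q V x ≤ V ⊓ Q := inf_le_left

theorem I_le_cjD : II Q V x ≤ cj x (V ⊓ Q) := inf_le_right

theorem I_le_F : II Q V x ≤ FF Q V x := I_le_D.trans D_le_F

theorem V_le_L : V ≤ LL V x := le_sup_left

theorem cjV_le_L : cj x V ≤ LL V x := le_sup_right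

theorem F_le_L (h : Ch P Q V a r n x) : FF Q V x ≤ LL V x := by
  refine sup_le (inf_le_left.trans V_le_L) ?_
  rw [h.cj_inf]
  exact inf_le_left.trans cjV_le_L

theorem mem_F (h : Ch P Q V a r n x) {f : G} (hf : f ∈ FF Q V x) :
    ∃ d ∈ V ⊓ Q, ∃ e ∈ V ⊓ Q, f = d * (x * e * x⁻¹) := by
  have hn : cj x (V ⊓ Q) ≤ normalizer ((V ⊓ Q : Subgroup G) : Set G) := h.cjD_le.trans h.Q_D
  have h1 : ∀ g ∈ FF Q V x, ∃ d ∈ V ⊓ Q, ∃ e ∈ cj x (V ⊓ Q), g = d * e := by
    intro g hg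
    have h2 : (g : G) ∈ ((V ⊓ Q ⊔ cj x (V ⊓ Q) : Subgroup G) : Set G) := hg
    rw [coe_mul_of_right_le_normalizer_left _ _ hn] at h2
    obtain ⟨d, hd, e, he, rfl⟩ := h2
    exact ⟨d, hd, e, he, rfl⟩
  obtain ⟨d, hd, e, he, rfl⟩ := h1 f hf
  obtain ⟨e', he', rfl⟩ := he
  exact ⟨d, hd, e', he', rfl⟩

theorem Q_F (h : Ch P Q V a r n x) : Q ≤ normalizer (FF Q V x : Set G) := by
  intro q hq
  rw [mem_normalizer_iff]
  have key : ∀ q ∈ Q, ∀ g ∈ FF Q V x, q * g * q⁻¹ ∈ FF Q V x := by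
    intro q hq g hg
    obtain ⟨d, hd, e, he, rfl⟩ := h.mem_F hg
    have h1 := (mem_normalizer_iff.mp (h.Q_D hq) _).mp hd
    have h2 := (mem_normalizer_iff.mp (h.Q_cjD hq) _).mp (conj_mem_cj (x := x) he)
    have h3 : q * (d * (x * e * x⁻¹)) * q⁻¹ = (q * d * q⁻¹) * (q * (x * e * x⁻¹) * q⁻¹) := by group
    rw [h3]
    exact mul_mem (D_le_F h1) (cjD_le_F h2)
  intro g
  refine ⟨key q hq g, fun h1 => ?_⟩
  have h2 := key q⁻¹ (Q.inv_mem hq) _ h1
  have h3 : q⁻¹ * (q * g * q⁻¹) * q⁻¹⁻¹ = g := by group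
  rwa [h3] at h2

/-- `[Q, L] ≤ F` -/
theorem comm_L (h : Ch P Q V a r n x) {l q : G} (hl : l ∈ LL V x) (hq : q ∈ Q) :
    l * q * l⁻¹ * q⁻¹ ∈ FF Q V x := by
  -- the elements acting trivially modulo `F`
  have hL : LL V x ≤ P := h.L_le
  -- induction over the generators
  have hcl : LL V x = _root_.Subgroup.closure ((V : Set G) ∪ (cj x V : Set G)) := by
    rw [Subgroup.closure_union, closure_eq, closure_eq]; rfl
  rw [hcl] at hl
  suffices H : ∀ q ∈ Q, l * q * l⁻¹ * q⁻¹ ∈ FF Q V x from H q hq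
  refine Subgroup.closure_induction (p := fun l _ => ∀ q ∈ Q, l * q * l⁻¹ * q⁻¹ ∈ FF Q V x)
    ?_ ?_ ?_ ?_ hl
  · rintro v (hv | hv) q hq
    · exact D_le_F (h.comm_V hv hq)
    · exact cjD_le_F (h.comm_cjV hv hq)
  · intro q hq
    simp only [one_mul, inv_one, mul_one, mul_inv_cancel]
    exact one_mem _
  · intro u w hu hw hu' hw' q hq
    rw [← hcl] at hu hw
    have h1 := hw' q hq
    have h2 := hu' (w * q * w⁻¹) (h.conj_Q (hL hw) hq)
    have h3 : u * w * q * (u * w)⁻¹ * q⁻¹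
        = (u * (w * q * w⁻¹) * u⁻¹ * (w * q * w⁻¹)⁻¹) * (w * q * w⁻¹ * q⁻¹) := by group
    rw [h3]
    exact mul_mem h2 h1
  · intro u hu hu' q hq
    rw [← hcl] at hu
    have h1 := hu' (u⁻¹ * q * u) (h.conj_Q' (hL hu) hq)
    have h3 : u⁻¹ * q * u⁻¹⁻¹ * q⁻¹ = (u * (u⁻¹ * q * u) * u⁻¹ * (u⁻¹ * q * u)⁻¹)⁻¹ := by group
    rw [h3]
    exact inv_mem h1

theorem L_F (h : Ch P Q V a r n x) : LL V x ≤ normalizer (FF Q V x : Set G) := by
  intro l hl
  rw [mem_normalizer_iff]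
  have key : ∀ l ∈ LL V x, ∀ g ∈ FF Q V x, l * g * l⁻¹ ∈ FF Q V x := by
    intro l hl g hg
    have h1 := mul_mem (h.comm_L hl (h.F_le_Q hg)) hg
    have h2 : l * g * l⁻¹ * g⁻¹ * g = l * g * l⁻¹ := by group
    rwa [h2] at h1
  intro g
  refine ⟨key l hl g, fun h1 => ?_⟩
  have h2 := key l⁻¹ (inv_mem hl) _ h1
  have h3 : l⁻¹ * (l * g * l⁻¹) * l⁻¹⁻¹ = g := by group
  rwa [h3] at h2

/-- `L` centralises `I` -/
theorem centI (h : Ch P Q V a r n x) {l i : G} (hl : l ∈ LL V x) (hi : i ∈ II Q V x) :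
    l * i = i * l := by
  have h1 : LL V x ≤ centralizer ({i} : Set G) := by
    refine sup_le ?_ ?_
    · intro v hv
      rw [mem_centralizer_singleton_iff]
      exact h.comm v hv i (mem_inf.mp (I_le_D hi)).1
    · rintro _ ⟨v, hv, rfl⟩
      rw [mem_centralizer_singleton_iff]
      have h2 := (mem_inf.mp (mem_cj.mp (I_le_cjD hi))).1
      have h3 := h.comm v hv _ h2
      show x * v * x⁻¹ * i = i * (x * v * x⁻¹)
      have h4 : x * v * x⁻¹ * i = x * (v * (x⁻¹ * i * x)) * x⁻¹ := by group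
      rw [h4, h3]; group
  exact mem_centralizer_singleton_iff.mp (h1 hl)

theorem comm_D (h : Ch P Q V a r n x) {d e : G} (hd : d ∈ V ⊓ Q) (he : e ∈ V ⊓ Q) :
    d * e = e * d := h.comm d (mem_inf.mp hd).1 e (mem_inf.mp he).1

/-- `[D, D^x] ≤ I` -/
theorem comm_DD (h : Ch P Q V a r n x) {d e : G} (hd : d ∈ V ⊓ Q) (he : e ∈ cj x (V ⊓ Q)) :
    d * e * d⁻¹ * e⁻¹ ∈ II Q V x := by
  refine mem_inf.mpr ⟨?_, ?_⟩
  · have h1 := (mem_normalizer_iff.mp (h.Q_D (h.cjD_le he)) _).mp (inv_mem hd)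
    have h2 : d * e * d⁻¹ * e⁻¹ = d * (e * d⁻¹ * e⁻¹) := by group
    rw [h2]; exact mul_mem hd h1
  · have h1 := (mem_normalizer_iff.mp (h.Q_cjD (mem_inf.mp hd).2) _).mp he
    exact mul_mem h1 (inv_mem he)

/-- `F/I` is abelian -/
theorem comm_F (h : Ch P Q V a r n x) {f g : G} (hf : f ∈ FF Q V x) (hg : g ∈ FF Q V x) :
    f * g * f⁻¹ * g⁻¹ ∈ II Q V x := by
  have hIc : ∀ i ∈ II Q V x, ∀ f ∈ FF Q V x, f * i = i * f := fun i hi f hf =>
    h.centI (h.F_le_L hf) hi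
  -- generators
  have hx1 : ∀ e ∈ V ⊓ Q, ∀ e' ∈ V ⊓ Q, x * e * x⁻¹ * (x * e' * x⁻¹) =
      x * e' * x⁻¹ * (x * e * x⁻¹) := by
    intro e he e' he'
    have := h.comm_D he he'
    calc x * e * x⁻¹ * (x * e' * x⁻¹) = x * (e * e') * x⁻¹ := by group
      _ = x * (e' * e) * x⁻¹ := by rw [this]
      _ = _ := by group
  -- the centraliser of an element modulo `I`
  have hmul : ∀ u v w : G, u ∈ FF Q V x → v ∈ FF Q V x → w ∈ FF Q V x →
      u * w * u⁻¹ * w⁻¹ ∈ II Q V x → v * w * v⁻¹ * w⁻¹ ∈ II Q V x →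
      (u * v) * w * (u * v)⁻¹ * w⁻¹ ∈ II Q V x := by
    intro u v w hu hv hw h1 h2
    have h3 : (u * v) * w * (u * v)⁻¹ * w⁻¹ =
        (u * (v * w * v⁻¹ * w⁻¹) * u⁻¹) * (u * w * u⁻¹ * w⁻¹) := by group
    rw [h3, hIc _ h2 u hu, mul_inv_cancel_right]
    exact mul_mem h2 h1
  have hinv : ∀ u w : G, u * w * u⁻¹ * w⁻¹ ∈ II Q V x → w * u * w⁻¹ * u⁻¹ ∈ II Q V x := by
    intro u w h1
    have h2 : w * u * w⁻¹ * u⁻¹ = (u * w * u⁻¹ * w⁻¹)⁻¹ := by group
    rw [h2]; exact inv_mem h1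
  have hgen : ∀ d ∈ V ⊓ Q, ∀ g ∈ FF Q V x, d * g * d⁻¹ * g⁻¹ ∈ II Q V x := by
    intro d hd g hg
    obtain ⟨d', hd', e', he', rfl⟩ := h.mem_F hg
    apply hinv
    refine hmul _ _ _ (D_le_F hd') (cjD_le_F (conj_mem_cj he')) (D_le_F hd) ?_ ?_
    · rw [h.comm_D hd' hd, mul_inv_cancel_right, mul_inv_cancel]; exact one_mem _
    · exact hinv _ _ (h.comm_DD hd (conj_mem_cj he'))
  have hgen' : ∀ e ∈ V ⊓ Q, ∀ g ∈ FF Q V x,
      (x * e * x⁻¹) * g * (x * e * x⁻¹)⁻¹ * g⁻¹ ∈ II Q V x := by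
    intro e he g hg
    obtain ⟨d', hd', e', he', rfl⟩ := h.mem_F hg
    apply hinv
    refine hmul _ _ _ (D_le_F hd') (cjD_le_F (conj_mem_cj he')) (cjD_le_F (conj_mem_cj he)) ?_ ?_
    · exact h.comm_DD hd' (conj_mem_cj he)
    · rw [hx1 e' he' e he, mul_inv_cancel_right, mul_inv_cancel]; exact one_mem _
  obtain ⟨d, hd, e, he, rfl⟩ := h.mem_F hf
  exact hmul _ _ _ (D_le_F hd) (cjD_le_F (conj_mem_cj he)) hg (hgen d hd g hg) (hgen' e he g hg)

/-- `F/I` has exponent two -/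
theorem sq_F (h : Ch P Q V a r n x) {f : G} (hf : f ∈ FF Q V x) : f * f ∈ II Q V x := by
  obtain ⟨d, hd, e, he, rfl⟩ := h.mem_F hf
  set e' := x * e * x⁻¹ with he'
  have hd2 : d * d = 1 := by rw [← pow_two]; exact h.sq d (mem_inf.mp hd).1
  have he2 : e' * e' = 1 := by
    have h1 : e * e = 1 := by rw [← pow_two]; exact h.sq e (mem_inf.mp he).1
    rw [he']
    calc x * e * x⁻¹ * (x * e * x⁻¹) = x * (e * e) * x⁻¹ := by group
      _ = 1 := by rw [h1]; group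
  have h1 : d * e' * (d * e') = d * e' * d⁻¹ * e'⁻¹ := by
    rw [inv_eq_of_mul_eq_one_left hd2, inv_eq_of_mul_eq_one_left he2]; group
  rw [h1]
  exact h.comm_DD hd (conj_mem_cj he)

theorem card_F [Finite G] (h : Ch P Q V a r n x) :
    Nat.card (FF Q V x) * Nat.card (II Q V x) = Nat.card (V ⊓ Q : Subgroup G) ^ 2 := by
  have h1 := Cfsg.Agent.Lib.ProductSet.card_mul_card_inf (V ⊓ Q) (cj x (V ⊓ Q))
  have hn : cj x (V ⊓ Q) ≤ normalizer ((V ⊓ Q : Subgroup G) : Set G) := h.cjD_le.trans h.Q_D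
  have h2 : ((V ⊓ Q : Subgroup G) : Set G) * (cj x (V ⊓ Q) : Set G) = (FF Q V x : Set G) :=
    (coe_mul_of_right_le_normalizer_left _ _ hn).symm
  have h3 : Nat.card (cj x (V ⊓ Q)) = Nat.card (V ⊓ Q : Subgroup G) :=
    Nat.card_congr ((V ⊓ Q).equivMapOfInjective _ (MulAut.conj x).injective).symm.toEquiv
  rw [h2, h3] at h1
  rw [pow_two, ← h1]
  rfl

end Ch

/-! ### The action on `F / I` -/

section Act

variable {L : Type*} [Group L] (I F : Subgroup L) [I.Normal] [F.Normal]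

instance map_mk_normal : (F.map (QuotientGroup.mk' I)).Normal :=
  Subgroup.Normal.map inferInstance _ (QuotientGroup.mk'_surjective I)

/-- conjugation on `F I / I` -/
noncomputable def act : L →* MulAut (F.map (QuotientGroup.mk' I)) :=
  MulAut.conjNormal.comp (QuotientGroup.mk' I)

theorem act_apply (l f : L) (hf : f ∈ F) :
    ((act I F l ⟨QuotientGroup.mk' I f, mem_map_of_mem _ hf⟩ : F.map (QuotientGroup.mk' I)) : L ⧸ I)
      = QuotientGroup.mk' I (l * f * l⁻¹) := by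
  show _ * _ * _ = _
  simp only [_root_.MulEquiv.toMonoidHom_eq_coe, _root_.QuotientGroup.mk'_apply, _root_.MonoidHom.coe_coe, _root_.ConjAct.ofConjAct_toConjAct, _root_.QuotientGroup.mk_mul, _root_.QuotientGroup.mk_inv]

theorem act_eq_iff (l l' : L) :
    act I F l = act I F l' ↔ ∀ f ∈ F, (l * f * l⁻¹) * (l' * f * l'⁻¹)⁻¹ ∈ I := by
  constructor
  · intro h1 f hf
    have h2 : QuotientGroup.mk' I (l * f * l⁻¹) = QuotientGroup.mk' I (l' * f * l'⁻¹) := by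
      rw [← act_apply I F l f hf, ← act_apply I F l' f hf, h1]
    rw [← QuotientGroup.ker_mk' I, MonoidHom.mem_ker, map_mul, map_inv, h2, mul_inv_cancel]
  · intro h1
    ext ⟨_, f, hf, rfl⟩
    have h2 := h1 f hf
    rw [← QuotientGroup.ker_mk' I, MonoidHom.mem_ker, map_mul, map_inv, mul_inv_eq_one] at h2
    rw [act_apply I F l f hf, act_apply I F l' f hf, h2]

end Act

namespace Ch

variable {P Q V : Subgroup G} {a r : G} {n : ℕ} {x : G}

theorem I_normal (h : Ch P Q V a r n x) : ((II Q V x).subgroupOf (LL V x)).Normal := by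
  refine ⟨fun i hi g => ?_⟩
  rw [mem_subgroupOf] at hi ⊢
  have h1 := h.centI g.2 hi
  show (g : G) * i * (g : G)⁻¹ ∈ II Q V x
  rw [h1, mul_inv_cancel_right]
  exact hi

theorem F_normal (h : Ch P Q V a r n x) : ((FF Q V x).subgroupOf (LL V x)).Normal :=
  normal_subgroupOf_of_le_normalizer h.L_F

theorem act_one (h : Ch P Q V a r n x) [((II Q V x).subgroupOf (LL V x)).Normal]
    [((FF Q V x).subgroupOf (LL V x)).Normal] {k x1 : LL V x} (hk : (k : G) ∈ Q)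
    (h1 : x1 ^ n = 1) (h2 : (k * x1) ^ n = 1) :
    act ((II Q V x).subgroupOf (LL V x)) ((FF Q V x).subgroupOf (LL V x)) k = 1 := by
  set φ := act ((II Q V x).subgroupOf (LL V x)) ((FF Q V x).subgroupOf (LL V x)) with hφ
  have hF : ∀ f : LL V x, (f : G) ∈ FF Q V x → φ f = 1 := by
    intro f hf
    rw [hφ, ← map_one (act ((II Q V x).subgroupOf (LL V x)) ((FF Q V x).subgroupOf (LL V x))),
      act_eq_iff]
    intro g hg
    rw [mem_subgroupOf] at hg ⊢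
    have h3 := h.comm_F hf hg
    simpa only [_root_.one_mul, _root_.inv_one, _root_.mul_one, _root_.Subgroup.coe_mul, _root_.InvMemClass.coe_inv] using h3
  have hc : φ (x1 * k * x1⁻¹ * k⁻¹) = 1 := hF _ (h.comm_L x1.2 hk)
  have hcomm : Commute (φ k) (φ x1) := by
    rw [map_mul, map_mul, map_mul, map_inv, map_inv] at hc
    have h3 : φ x1 * φ k = φ k * φ x1 := by
      have h4 := congrArg (fun t => t * φ k * φ x1) hc
      simp only [one_mul, inv_mul_cancel_right] at h4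
      exact h4
    exact h3.symm
  have h3 : φ k ^ n = 1 := by
    have h4 : φ ((k * x1) ^ n) = 1 := by rw [h2, map_one]
    rw [map_pow, map_mul, hcomm.mul_pow, ← map_pow φ x1, h1, map_one, mul_one] at h4
    exact h4
  obtain ⟨m, hm⟩ := h.two ⟨_, hk⟩
  have h5 : φ k ^ 2 ^ m = 1 := by
    rw [← map_pow]
    have h6 : k ^ 2 ^ m = 1 := by
      apply Subtype.ext
      have h8 : (k : G) ^ 2 ^ m = 1 := congrArg (fun t : Q => (t : G)) hm
      exact h8
    rw [h6, map_one]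
  have h7 : orderOf (φ k) ∣ 1 := by
    rw [← Nat.Coprime.gcd_eq_one (Nat.Coprime.pow_right m (Nat.coprime_two_right.mpr h.odd))]
    exact Nat.dvd_gcd (orderOf_dvd_of_pow_eq_one h3) (orderOf_dvd_of_pow_eq_one h5)
  exact orderOf_eq_one_iff.mp (Nat.dvd_one.mp h7)

/-- `x` acts fixed point freely on `F/I` -/
theorem fpf (h : Ch P Q V a r n x) {f : G} (hf : f ∈ FF Q V x)
    (hfx : x * f * x⁻¹ * f⁻¹ ∈ II Q V x) : f ∈ II Q V x := by
  have := h.I_normal
  have := h.F_normal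
  set I' := (II Q V x).subgroupOf (LL V x) with hI'
  set F' := (FF Q V x).subgroupOf (LL V x) with hF'
  set φ := act I' F' with hφ
  set xl : LL V x := ⟨x, h.xL⟩ with hxl
  set al : LL V x := ⟨a, V_le_L h.ha⟩ with hal
  have ha2 : a * a = 1 := by rw [← pow_two]; exact h.sq a h.ha
  -- `a` inverts the action of `x`
  have hAX : φ al * φ xl * (φ al)⁻¹ = (φ xl)⁻¹ := by
    have h1 : φ (al * xl * al⁻¹ * xl) = 1 := by
      apply h.act_one (x1 := xl⁻¹)
      · show a * x * a⁻¹ * x ∈ Q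
        -- modulo `Q`
        have h2 : x * r⁻¹ ∈ Q := h.xr
        have h3 := h.har
        have h4 : a * x * a⁻¹ * x = (a * (x * r⁻¹) * a⁻¹) * (a * r * a⁻¹ * r) *
            (r⁻¹ * (x * r⁻¹) * r) := by group
        rw [h4]
        refine mul_mem (mul_mem (h.conj_Q (h.VP h.ha) h2) h3) (h.conj_Q' h.hr h2)
      · rw [inv_pow, inv_eq_one]; exact Subtype.ext h.xn
      · rw [mul_inv_cancel_right]
        have h5 : (al * xl * al⁻¹) ^ n = al * xl ^ n * al⁻¹ := conj_pow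
        rw [h5]
        have h6 : xl ^ n = 1 := Subtype.ext h.xn
        rw [h6]; group
    rw [map_mul, map_mul, map_mul, map_inv] at h1
    exact eq_inv_of_mul_eq_one_left h1
  have hX : φ xl ^ n = 1 := by
    rw [← map_pow]
    have h6 : xl ^ n = 1 := Subtype.ext h.xn
    rw [h6, map_one]
  -- the subgroup `D`
  set D' : Subgroup (F'.map (QuotientGroup.mk' I')) :=
    (((V ⊓ Q).subgroupOf (LL V x)).map (QuotientGroup.mk' I')).subgroupOf _ with hD'
  have hmemD : ∀ (d : LL V x) (hd : (d : G) ∈ V ⊓ Q) (hdF : d ∈ F'),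
      (⟨QuotientGroup.mk' I' d, mem_map_of_mem _ hdF⟩ : F'.map (QuotientGroup.mk' I')) ∈ D' := by
    intro d hd hdF
    rw [hD', mem_subgroupOf]
    exact ⟨d, by rw [SetLike.mem_coe, mem_subgroupOf]; exact hd, rfl⟩
  have hofD : ∀ y ∈ D', ∃ (d : LL V x) (hd : (d : G) ∈ V ⊓ Q) (hdF : d ∈ F'),
      y = (⟨QuotientGroup.mk' I' d, mem_map_of_mem _ hdF⟩ : F'.map (QuotientGroup.mk' I')) := by
    intro y hy
    rw [hD', mem_subgroupOf] at hy
    obtain ⟨d, hd, hdy⟩ := hy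
    rw [SetLike.mem_coe, mem_subgroupOf] at hd
    exact ⟨d, hd, by rw [hF', mem_subgroupOf]; exact D_le_F hd, Subtype.ext hdy.symm⟩
  have hactm : ∀ (l f : LL V x) (hf : f ∈ F') (hlf : l * f * l⁻¹ ∈ F'),
      φ l ⟨QuotientGroup.mk' I' f, mem_map_of_mem _ hf⟩ =
        ⟨QuotientGroup.mk' I' (l * f * l⁻¹), mem_map_of_mem _ hlf⟩ := by
    intro l f hf hlf
    exact Subtype.ext (act_apply I' F' l f hf)
  have hconjF : ∀ (l f : LL V x), f ∈ F' → l * f * l⁻¹ ∈ F' := fun l f hf =>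
    Subgroup.Normal.conj_mem inferInstance f hf l
  set fl : LL V x := ⟨f, h.F_le_L hf⟩ with hfl
  have hflF : fl ∈ F' := by rw [hF', mem_subgroupOf]; exact hf
  have key := fpf_abs D' (φ al) (φ xl) h.odd hX hAX ?_ ?_ ?_ ?_
    ⟨QuotientGroup.mk' I' fl, mem_map_of_mem _ hflF⟩ ?_
  · have h1 := congrArg Subtype.val key
    have h2 : fl ∈ I' := by
      rw [← QuotientGroup.ker_mk' I', MonoidHom.mem_ker]
      exact h1
    rw [hI', mem_subgroupOf] at h2
    exact h2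
  · rintro ⟨_, g, hg, rfl⟩
    have hg' : (g : G) ∈ FF Q V x := by
      rw [SetLike.mem_coe, hF', mem_subgroupOf] at hg; exact hg
    obtain ⟨d, hd, e, he, hde⟩ := h.mem_F hg'
    have hdL : d ∈ LL V x := h.F_le_L (D_le_F hd)
    have heL : e ∈ LL V x := h.F_le_L (D_le_F he)
    have hdF : (⟨d, hdL⟩ : LL V x) ∈ F' := by rw [hF', mem_subgroupOf]; exact D_le_F hd
    have heF : (⟨e, heL⟩ : LL V x) ∈ F' := by rw [hF', mem_subgroupOf]; exact D_le_F he
    refine ⟨_, hmemD ⟨d, hdL⟩ hd hdF, _, hmemD ⟨e, heL⟩ he heF, ?_⟩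
    rw [hactm xl _ heF (hconjF _ _ heF)]
    apply Subtype.ext
    show QuotientGroup.mk' I' g = QuotientGroup.mk' I' _ * QuotientGroup.mk' I' _
    rw [← map_mul]
    congr 1
    exact Subtype.ext hde
  · intro y hy y' hy' hyy
    obtain ⟨d, hd, hdF, rfl⟩ := hofD y hy
    obtain ⟨e, he, heF, rfl⟩ := hofD y' hy'
    rw [hactm xl _ heF (hconjF _ _ heF)] at hyy
    have h1 := congrArg Subtype.val hyy
    have h2 : (xl * e * xl⁻¹)⁻¹ * d ∈ I' := by
      rw [← QuotientGroup.ker_mk' I', MonoidHom.mem_ker, map_mul, map_inv, inv_mul_eq_one]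
      exact h1.symm
    have h3 : (x * (e : G) * x⁻¹)⁻¹ * d ∈ II Q V x := by
      rw [hI', mem_subgroupOf] at h2; exact h2
    -- so `d ∈ I`
    have h4 : (d : G) ∈ cj x (V ⊓ Q) := by
      have h5 := mul_mem (conj_mem_cj (x := x) he) (I_le_cjD h3)
      rwa [mul_inv_cancel_left] at h5
    have h5 : d ∈ I' := by
      rw [hI', mem_subgroupOf]; exact mem_inf.mpr ⟨hd, h4⟩
    apply Subtype.ext
    show QuotientGroup.mk' I' d = 1
    rw [← MonoidHom.mem_ker, QuotientGroup.ker_mk']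
    exact h5
  · intro y hy
    obtain ⟨d, hd, hdF, rfl⟩ := hofD y hy
    rw [hactm al _ hdF (hconjF _ _ hdF)]
    apply Subtype.ext
    show QuotientGroup.mk' I' _ = QuotientGroup.mk' I' _
    congr 1
    apply Subtype.ext
    show a * (d : G) * a⁻¹ = d
    rw [h.comm a h.ha d (mem_inf.mp hd).1, mul_inv_cancel_right]
  · rintro ⟨_, g, hg, rfl⟩
    have hg' : (g : G) ∈ FF Q V x := by
      rw [SetLike.mem_coe, hF', mem_subgroupOf] at hg; exact hg
    rw [hactm al g hg (hconjF _ _ hg)]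
    rw [hD', mem_subgroupOf]
    refine ⟨al * g * al⁻¹ * g⁻¹, ?_, ?_⟩
    · rw [SetLike.mem_coe, mem_subgroupOf]
      exact h.comm_V h.ha (h.F_le_Q hg')
    · show QuotientGroup.mk' I' _ = QuotientGroup.mk' I' _ * (QuotientGroup.mk' I' _)⁻¹
      rw [map_mul, map_inv]
  · rw [hactm xl _ hflF (hconjF _ _ hflF)]
    apply Subtype.ext
    show QuotientGroup.mk' I' _ = QuotientGroup.mk' I' _
    have h2 : xl * fl * xl⁻¹ * fl⁻¹ ∈ I' := by
      rw [hI', mem_subgroupOf]; exact hfx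
    rw [← QuotientGroup.ker_mk' I', MonoidHom.mem_ker, map_mul, map_inv, mul_inv_eq_one] at h2
    exact h2

end Ch

end Cfsg.Agent.SectRankFour.C2.DA
end

-- part: SectRankFour/C2/BThreeG
section
/-!
# From the relations of `W` to the configurations `Conf64` and `Conf128`

`Nf S z z1 z2 x0 x1 x2 y`: `S` is a 2-group, `P₁ = S ∪ yS ∪ y⁻¹S` a group, `Q₁ = qq S y` its largest
subgroup in `S`, `V = {1, z, z1, z2}` normal in `P₁`, `x0, x1, x2` three involutions of `Q₁` permuted by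
`y` with `[x_i, x_{i+1}] = z_{i+2}`, and `[S, x0] ≤ V`.

* `Nf.conf64`: if `Q₁ = W := ⟨V, x0, x1, x2⟩` (and no element `t` of `S ∖ Q₁` inverting `y` has
  `t² = x0 x1 x2 z1`) then `Conf64`;
* `Nf.conf128`: if `C_{Q₁}(W) = V` and `|Q₁ : W| = 2` then `Conf128`.
-/

set_option autoImplicit false

namespace Cfsg.Agent.SectRankFour.C2.BThreeG

open Cfsg.Agent.SectRankFour.C2.BThreeA

variable {G : Type*} [Group G]

/-- See the module docstring. -/
structure Nf (S : Subgroup G) (z z1 z2 x0 x1 x2 y : G) : Prop where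
  two : IsPGroup 2 S
  hy : Half S y
  z_sq : z * z = 1
  z_ne : z ≠ 1
  ne : z1 ≠ z
  zz1 : z * z1 = z2
  yz : y * z * y⁻¹ = z1
  yz1 : y * z1 * y⁻¹ = z2
  yz2 : y * z2 * y⁻¹ = z
  z_qq : z ∈ qq S y
  z_comm : ∀ s ∈ S, s * z = z * s
  x0_qq : x0 ∈ qq S y
  x0_sq : x0 * x0 = 1
  yx0 : y * x0 * y⁻¹ = x1
  yx1 : y * x1 * y⁻¹ = x2
  yx2 : y * x2 * y⁻¹ = x0
  x1x0 : x1 * x0 = z2 * (x0 * x1)
  comm_x0 : ∀ s ∈ S, s * x0 * s⁻¹ * x0⁻¹ = 1 ∨ s * x0 * s⁻¹ * x0⁻¹ = z ∨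
    s * x0 * s⁻¹ * x0⁻¹ = z1 ∨ s * x0 * s⁻¹ * x0⁻¹ = z2

theorem conj_inv {y a b : G} (h : y * a * y⁻¹ = b) : y⁻¹ * b * y = a := by
  rw [← h]
  group

theorem cmul (y a b : G) : y * (a * b) * y⁻¹ = (y * a * y⁻¹) * (y * b * y⁻¹) := by group

theorem cmul' (y a b : G) : y⁻¹ * (a * b) * y = (y⁻¹ * a * y) * (y⁻¹ * b * y) := by group

theorem inv_eq_self {a : G} (h : a * a = 1) : a⁻¹ = a := by
  rw [inv_eq_iff_mul_eq_one]
  exact h

theorem conj_sq {y a b : G} (h : y * a * y⁻¹ = b) (ha : a * a = 1) : b * b = 1 := by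
  rw [← h, ← cmul, ha]
  group

theorem conj_comm {y a b a' b' : G} (h : y * a * y⁻¹ = a') (h' : y * b * y⁻¹ = b')
    (hab : a * b = b * a) : a' * b' = b' * a' := by
  rw [← h, ← h', ← cmul, ← cmul, hab]

theorem comm_of_phi {x q : G} (h1 : q * x * q⁻¹ * x⁻¹ = 1) : q * x = x * q := by
  calc q * x = q * x * q⁻¹ * x⁻¹ * (x * q) := by group
    _ = x * q := by rw [h1, one_mul]

theorem phi_of_comm {x q : G} (h1 : q * x = x * q) : q * x * q⁻¹ * x⁻¹ = 1 := by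
  rw [h1]; group

namespace Nf

variable {S : Subgroup G} {z z1 z2 x0 x1 x2 y : G}

theorem z1_qq (h : Nf S z z1 z2 x0 x1 x2 y) : z1 ∈ qq S y := h.yz ▸ h.hy.conj h.z_qq
theorem z2_qq (h : Nf S z z1 z2 x0 x1 x2 y) : z2 ∈ qq S y := h.yz1 ▸ h.hy.conj h.z1_qq
theorem x1_qq (h : Nf S z z1 z2 x0 x1 x2 y) : x1 ∈ qq S y := h.yx0 ▸ h.hy.conj h.x0_qq
theorem x2_qq (h : Nf S z z1 z2 x0 x1 x2 y) : x2 ∈ qq S y := h.yx1 ▸ h.hy.conj h.x1_qq

theorem z_mem (h : Nf S z z1 z2 x0 x1 x2 y) : z ∈ S := qq_le _ _ h.z_qq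
theorem z1_mem (h : Nf S z z1 z2 x0 x1 x2 y) : z1 ∈ S := qq_le _ _ h.z1_qq
theorem z2_mem (h : Nf S z z1 z2 x0 x1 x2 y) : z2 ∈ S := qq_le _ _ h.z2_qq
theorem x0_mem (h : Nf S z z1 z2 x0 x1 x2 y) : x0 ∈ S := qq_le _ _ h.x0_qq
theorem x1_mem (h : Nf S z z1 z2 x0 x1 x2 y) : x1 ∈ S := qq_le _ _ h.x1_qq
theorem x2_mem (h : Nf S z z1 z2 x0 x1 x2 y) : x2 ∈ S := qq_le _ _ h.x2_qq

theorem z1_sq (h : Nf S z z1 z2 x0 x1 x2 y) : z1 * z1 = 1 := conj_sq h.yz h.z_sq
theorem z2_sq (h : Nf S z z1 z2 x0 x1 x2 y) : z2 * z2 = 1 := conj_sq h.yz1 h.z1_sq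
theorem x1_sq (h : Nf S z z1 z2 x0 x1 x2 y) : x1 * x1 = 1 := conj_sq h.yx0 h.x0_sq
theorem x2_sq (h : Nf S z z1 z2 x0 x1 x2 y) : x2 * x2 = 1 := conj_sq h.yx1 h.x1_sq

theorem yinv_z (h : Nf S z z1 z2 x0 x1 x2 y) : y⁻¹ * z * y = z2 := conj_inv h.yz2

theorem z1z (h : Nf S z z1 z2 x0 x1 x2 y) : z1 * z = z2 := by
  rw [h.z_comm z1 h.z1_mem, h.zz1]

theorem z1z2 (h : Nf S z z1 z2 x0 x1 x2 y) : z1 * z2 = z := by
  have h1 := cmul y z z1
  rw [h.zz1, h.yz2, h.yz, h.yz1] at h1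
  exact h1.symm

theorem z2z (h : Nf S z z1 z2 x0 x1 x2 y) : z2 * z = z1 := by
  have h1 := cmul y z1 z2
  rw [h.z1z2, h.yz, h.yz1, h.yz2] at h1
  exact h1.symm

theorem zz2 (h : Nf S z z1 z2 x0 x1 x2 y) : z * z2 = z1 := by
  rw [← h.z_comm z2 h.z2_mem, h.z2z]

theorem z2z1 (h : Nf S z z1 z2 x0 x1 x2 y) : z2 * z1 = z := by
  have h1 := cmul y z1 z
  rw [h.z1z, h.yz2, h.yz1, h.yz] at h1
  exact h1.symm

theorem qq_comm1 (h : Nf S z z1 z2 x0 x1 x2 y) {q : G} (hq : q ∈ qq S y) : q * z1 = z1 * q := by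
  have h1 := h.z_comm _ (mem_qq.1 hq).2.1
  rw [← h.yz]
  calc q * (y * z * y⁻¹) = y * (y⁻¹ * q * y * z) * y⁻¹ := by group
    _ = y * (z * (y⁻¹ * q * y)) * y⁻¹ := by rw [h1]
    _ = y * z * y⁻¹ * q := by group

theorem qq_comm2 (h : Nf S z z1 z2 x0 x1 x2 y) {q : G} (hq : q ∈ qq S y) : q * z2 = z2 * q := by
  have h1 := h.z_comm _ (mem_qq.1 hq).2.2
  rw [← h.yinv_z]
  calc q * (y⁻¹ * z * y) = y⁻¹ * (y * q * y⁻¹ * z) * y := by group
    _ = y⁻¹ * (z * (y * q * y⁻¹)) * y := by rw [h1]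
    _ = y⁻¹ * z * y * q := by group

theorem swap1 (h : Nf S z z1 z2 x0 x1 x2 y) {s : G} (hs : s ∈ S) (hq : s ∉ qq S y) :
    s * z1 = z2 * s := by
  have h1 := h.z_comm _ (h.hy.not_qq hs hq).1
  rw [← h.yz, ← h.yinv_z]
  calc s * (y * z * y⁻¹) = y⁻¹ * (y * s * y * z) * y⁻¹ := by group
    _ = y⁻¹ * (z * (y * s * y)) * y⁻¹ := by rw [h1]
    _ = y⁻¹ * z * y * s := by group

theorem swap2 (h : Nf S z z1 z2 x0 x1 x2 y) {s : G} (hs : s ∈ S) (hq : s ∉ qq S y) :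
    s * z2 = z1 * s := by
  have h1 := h.z_comm _ (h.hy.not_qq hs hq).2
  rw [← h.yz, ← h.yinv_z]
  calc s * (y⁻¹ * z * y) = y * (y⁻¹ * s * y⁻¹ * z) * y := by group
    _ = y * (z * (y⁻¹ * s * y⁻¹)) * y := by rw [h1]
    _ = y * z * y⁻¹ * s := by group

theorem z1_ne (h : Nf S z z1 z2 x0 x1 x2 y) : z1 ≠ 1 := by
  intro h1
  apply h.z_ne
  have h2 := conj_inv h.yz
  rw [h1] at h2
  rw [← h2]
  group

theorem z2_ne (h : Nf S z z1 z2 x0 x1 x2 y) : z2 ≠ 1 := by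
  intro h1
  apply h.z1_ne
  have h2 := conj_inv h.yz1
  rw [h1] at h2
  rw [← h2]
  group

theorem z2_ne_z (h : Nf S z z1 z2 x0 x1 x2 y) : z2 ≠ z := by
  intro h1
  apply h.z1_ne
  have h2 := h.zz1
  rw [h1] at h2
  simpa using h2

theorem z1_ne_z2 (h : Nf S z z1 z2 x0 x1 x2 y) : z1 ≠ z2 := by
  intro h1
  have h2 := h.yz1
  rw [← h1] at h2
  exact h.ne ((conj_inv h2).symm.trans (conj_inv h.yz))

theorem x2x1 (h : Nf S z z1 z2 x0 x1 x2 y) : x2 * x1 = z * (x1 * x2) := by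
  have h1 := cmul y x1 x0
  rw [h.x1x0, cmul, cmul, h.yz2, h.yx0, h.yx1] at h1
  exact h1.symm

theorem x0x2 (h : Nf S z z1 z2 x0 x1 x2 y) : x0 * x2 = z1 * (x2 * x0) := by
  have h1 := cmul y x2 x1
  rw [h.x2x1, cmul, cmul, h.yz, h.yx1, h.yx2] at h1
  exact h1.symm

theorem x2x0 (h : Nf S z z1 z2 x0 x1 x2 y) : x2 * x0 = z1 * (x0 * x2) := by
  rw [h.x0x2, ← mul_assoc, h.z1_sq, one_mul]

/-- Rewriting rules in `W`. -/
theorem rules (h : Nf S z z1 z2 x0 x1 x2 y) :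
    (z * z = 1) ∧
    (∀ g : G, z * (z * g) = g) ∧
    (z * z1 = z2) ∧
    (∀ g : G, z * (z1 * g) = z2 * g) ∧
    (z * z2 = z1) ∧
    (∀ g : G, z * (z2 * g) = z1 * g) ∧
    (z1 * z = z2) ∧
    (∀ g : G, z1 * (z * g) = z2 * g) ∧
    (z1 * z1 = 1) ∧
    (∀ g : G, z1 * (z1 * g) = g) ∧
    (z1 * z2 = z) ∧
    (∀ g : G, z1 * (z2 * g) = z * g) ∧
    (z2 * z = z1) ∧
    (∀ g : G, z2 * (z * g) = z1 * g) ∧
    (z2 * z1 = z) ∧
    (∀ g : G, z2 * (z1 * g) = z * g) ∧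
    (z2 * z2 = 1) ∧
    (∀ g : G, z2 * (z2 * g) = g) ∧
    (x0 * z = z * x0) ∧
    (∀ g : G, x0 * (z * g) = z * (x0 * g)) ∧
    (x0 * z1 = z1 * x0) ∧
    (∀ g : G, x0 * (z1 * g) = z1 * (x0 * g)) ∧
    (x0 * z2 = z2 * x0) ∧
    (∀ g : G, x0 * (z2 * g) = z2 * (x0 * g)) ∧
    (x1 * z = z * x1) ∧
    (∀ g : G, x1 * (z * g) = z * (x1 * g)) ∧
    (x1 * z1 = z1 * x1) ∧
    (∀ g : G, x1 * (z1 * g) = z1 * (x1 * g)) ∧
    (x1 * z2 = z2 * x1) ∧
    (∀ g : G, x1 * (z2 * g) = z2 * (x1 * g)) ∧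
    (x2 * z = z * x2) ∧
    (∀ g : G, x2 * (z * g) = z * (x2 * g)) ∧
    (x2 * z1 = z1 * x2) ∧
    (∀ g : G, x2 * (z1 * g) = z1 * (x2 * g)) ∧
    (x2 * z2 = z2 * x2) ∧
    (∀ g : G, x2 * (z2 * g) = z2 * (x2 * g)) ∧
    (x0 * x0 = 1) ∧
    (∀ g : G, x0 * (x0 * g) = g) ∧
    (x1 * x1 = 1) ∧
    (∀ g : G, x1 * (x1 * g) = g) ∧
    (x2 * x2 = 1) ∧
    (∀ g : G, x2 * (x2 * g) = g) ∧
    (x1 * x0 = z2 * (x0 * x1)) ∧
    (∀ g : G, x1 * (x0 * g) = z2 * (x0 * (x1 * g))) ∧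
    (x2 * x1 = z * (x1 * x2)) ∧
    (∀ g : G, x2 * (x1 * g) = z * (x1 * (x2 * g))) ∧
    (x2 * x0 = z1 * (x0 * x2)) ∧
    (∀ g : G, x2 * (x0 * g) = z1 * (x0 * (x2 * g))) ∧
    (z⁻¹ = z) ∧
    (z1⁻¹ = z1) ∧
    (z2⁻¹ = z2) ∧
    (x0⁻¹ = x0) ∧
    (x1⁻¹ = x1) ∧
    (x2⁻¹ = x2) := by
  have e1 : ∀ {a b c : G}, a * b = c → ∀ g : G, a * (b * g) = c * g := by
    intro a b c e g
    rw [← mul_assoc, e]
  have e2 : ∀ {a b : G}, a * b = 1 → ∀ g : G, a * (b * g) = g := by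
    intro a b e g
    rw [← mul_assoc, e, one_mul]
  have e3 : ∀ {a b : G}, a * b = b * a → ∀ g : G, a * (b * g) = b * (a * g) := by
    intro a b e g
    rw [← mul_assoc, e, mul_assoc]
  have e4 : ∀ {a b c : G}, a * b = c * (b * a) → ∀ g : G, a * (b * g) = c * (b * (a * g)) := by
    intro a b c e g
    rw [← mul_assoc, e, mul_assoc, mul_assoc]
  refine ⟨h.z_sq,
    e2 h.z_sq,
    h.zz1,
    e1 h.zz1,
    h.zz2,
    e1 h.zz2,
    h.z1z,
    e1 h.z1z,
    h.z1_sq,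
    e2 h.z1_sq,
    h.z1z2,
    e1 h.z1z2,
    h.z2z,
    e1 h.z2z,
    h.z2z1,
    e1 h.z2z1,
    h.z2_sq,
    e2 h.z2_sq,
    h.z_comm _ h.x0_mem,
    e3 (h.z_comm _ h.x0_mem),
    h.qq_comm1 h.x0_qq,
    e3 (h.qq_comm1 h.x0_qq),
    h.qq_comm2 h.x0_qq,
    e3 (h.qq_comm2 h.x0_qq),
    h.z_comm _ h.x1_mem,
    e3 (h.z_comm _ h.x1_mem),
    h.qq_comm1 h.x1_qq,
    e3 (h.qq_comm1 h.x1_qq),
    h.qq_comm2 h.x1_qq,
    e3 (h.qq_comm2 h.x1_qq),
    h.z_comm _ h.x2_mem,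
    e3 (h.z_comm _ h.x2_mem),
    h.qq_comm1 h.x2_qq,
    e3 (h.qq_comm1 h.x2_qq),
    h.qq_comm2 h.x2_qq,
    e3 (h.qq_comm2 h.x2_qq),
    h.x0_sq,
    e2 h.x0_sq,
    h.x1_sq,
    e2 h.x1_sq,
    h.x2_sq,
    e2 h.x2_sq,
    h.x1x0,
    e4 h.x1x0,
    h.x2x1,
    e4 h.x2x1,
    h.x2x0,
    e4 h.x2x0,
    inv_eq_self h.z_sq,
    inv_eq_self h.z1_sq,
    inv_eq_self h.z2_sq,
    inv_eq_self h.x0_sq,
    inv_eq_self h.x1_sq,
    inv_eq_self h.x2_sq⟩

end Nf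

end Cfsg.Agent.SectRankFour.C2.BThreeG
end

-- part: SectRankFour/C2/BThreeH
section
/-!
# The groups `V` and `W` in the situation `Nf`; fixed points of `y`; the element `t`
-/

set_option autoImplicit false

namespace Cfsg.Agent.SectRankFour.C2.BThreeH

open Cfsg.Agent.SectRankFour.C2.BThreeA Cfsg.Agent.SectRankFour.C2.BThreeG

variable {G : Type*} [Group G]

/-- An element of order 3 acting on a coset of a 2-group has a fixed point. -/
theorem exists_fixed_coset [Finite G] {A B : Subgroup G} (hA : IsPGroup 2 A) (hAB : A ≤ B) {p : G}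
    (hp : p ∈ B) (hp' : p ∉ A) (hB : ∀ b ∈ B, b ∈ A ∨ p⁻¹ * b ∈ A) (τ : G → G)
    (hτ : ∀ b ∈ B, b ∉ A → τ b ∈ B ∧ τ b ∉ A) (h3 : ∀ b ∈ B, b ∉ A → τ (τ (τ b)) = b) :
    ∃ b ∈ B, b ∉ A ∧ τ b = b := by
  have hcard : Nat.card {b : G | b ∈ B ∧ b ∉ A} = Nat.card A := by
    symm
    refine Nat.card_eq_of_bijective
      (fun a : A => (⟨p * a, B.mul_mem hp (hAB a.2), fun h1 => hp' ?_⟩ : {b : G | b ∈ B ∧ b ∉ A}))
      ⟨?_, ?_⟩
    · have h2 := A.mul_mem h1 (A.inv_mem a.2)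
      rwa [mul_inv_cancel_right] at h2
    · intro a a' haa
      have h1 : p * (a : G) = p * a' := congrArg Subtype.val haa
      exact Subtype.ext (mul_left_cancel h1)
    · rintro ⟨b, hb, hb'⟩
      refine ⟨⟨p⁻¹ * b, (hB b hb).resolve_left hb'⟩, Subtype.ext ?_⟩
      show p * (p⁻¹ * b) = b
      rw [mul_inv_cancel_left]
  have hn3 : ¬ 3 ∣ Nat.card {b : G | b ∈ B ∧ b ∉ A} := by
    rw [hcard]
    have := Fact.mk Nat.prime_two
    obtain ⟨n, hn⟩ := IsPGroup.iff_card.1 hA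
    rw [hn]
    intro h1
    have h2 := Nat.Prime.dvd_of_dvd_pow Nat.prime_three h1
    norm_num at h2
  obtain ⟨b, hb, hb'⟩ := exists_fixed_set {b : G | b ∈ B ∧ b ∉ A} τ (fun b hb => hτ b hb.1 hb.2)
    (fun b hb => h3 b hb.1 hb.2) hn3
  exact ⟨b, hb.1, hb.2, hb'⟩

theorem card_ex [Finite G] {A : Subgroup G} {p : G} {h1 : ∀ a ∈ A, p * a * p⁻¹ ∈ A}
    {h2 : p * p ∈ A} (hp : p ∉ A) : Nat.card (ex A p h1 h2) = 2 * Nat.card A := by
  refine card_eq_two_mul (fun a ha => Or.inl ha) (p := p) (Or.inr h2) hp ?_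
  rintro b (hb | hb)
  · exact Or.inl hb
  · right
    have h3 := A.mul_mem (A.mul_mem (A.inv_mem h2) (h1 _ hb)) h2
    have e : (p * p)⁻¹ * (p * (p * b) * p⁻¹) * (p * p) = b * p := by group
    rwa [e] at h3

section

variable {S : Subgroup G} {z z1 z2 x0 x1 x2 y : G}

/-- The four-group `V = {1, z, z1, z2}`. -/
def V (h : Nf S z z1 z2 x0 x1 x2 y) : Subgroup G where
  carrier := {g | g = 1 ∨ g = z ∨ g = z1 ∨ g = z2}
  one_mem' := Or.inl rfl
  mul_mem' := by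
    rintro a b (rfl | rfl | rfl | rfl) (rfl | rfl | rfl | rfl) <;>
      simp only [Set.mem_ofPred_eq, one_mul, mul_one, h.zz1, h.zz2, h.z1z, h.z1z2, h.z2z, h.z2z1,
        h.z_sq, h.z1_sq, h.z2_sq, true_or, or_true]
  inv_mem' := by
    rintro a (rfl | rfl | rfl | rfl)
    · left; simp
    · right; left; exact inv_eq_self h.z_sq
    · right; right; left; exact inv_eq_self h.z1_sq
    · right; right; right; exact inv_eq_self h.z2_sq

variable (h : Nf S z z1 z2 x0 x1 x2 y)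

theorem mem_V {g : G} : g ∈ V h ↔ g = 1 ∨ g = z ∨ g = z1 ∨ g = z2 := Iff.rfl

theorem z_V : z ∈ V h := Or.inr (Or.inl rfl)
theorem z1_V : z1 ∈ V h := Or.inr (Or.inr (Or.inl rfl))
theorem z2_V : z2 ∈ V h := Or.inr (Or.inr (Or.inr rfl))

theorem V_le : V h ≤ qq S y := by
  rintro g (rfl | rfl | rfl | rfl)
  exacts [(qq S y).one_mem, h.z_qq, h.z1_qq, h.z2_qq]

theorem V_sq : ∀ g ∈ V h, g * g = 1 := by
  rintro g (rfl | rfl | rfl | rfl)
  exacts [mul_one 1, h.z_sq, h.z1_sq, h.z2_sq]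

theorem qq_comm_V {q : G} (hq : q ∈ qq S y) : ∀ v ∈ V h, q * v = v * q := by
  rintro g (rfl | rfl | rfl | rfl)
  exacts [by simp, h.z_comm q (qq_le S y hq), h.qq_comm1 hq, h.qq_comm2 hq]

theorem S_conj_V {s : G} (hs : s ∈ S) {v : G} (hv : v ∈ V h) : s * v * s⁻¹ ∈ V h := by
  by_cases hq : s ∈ qq S y
  · rw [qq_comm_V h hq v hv]
    simpa using hv
  · rcases hv with rfl | rfl | rfl | rfl
    · simp [(V h).one_mem]
    · rw [h.z_comm s hs]; simpa using z_V h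
    · rw [h.swap1 hs hq]; simpa using z2_V h
    · rw [h.swap2 hs hq]; simpa using z1_V h

theorem y_conj_V {v : G} (hv : v ∈ V h) : y * v * y⁻¹ ∈ V h := by
  rcases hv with rfl | rfl | rfl | rfl
  · simp [(V h).one_mem]
  · rw [h.yz]; exact z1_V h
  · rw [h.yz1]; exact z2_V h
  · rw [h.yz2]; exact z_V h

theorem yinv_conj_V {v : G} (hv : v ∈ V h) : y⁻¹ * v * y ∈ V h := by
  rcases hv with rfl | rfl | rfl | rfl
  · simp [(V h).one_mem]
  · rw [conj_inv h.yz2]; exact z2_V h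
  · rw [conj_inv h.yz]; exact z_V h
  · rw [conj_inv h.yz1]; exact z1_V h

theorem fix_V {v : G} (hv : v ∈ V h) (hy : y * v * y⁻¹ = v) : v = 1 := by
  rcases hv with rfl | rfl | rfl | rfl
  · rfl
  · exact absurd (h.yz.symm.trans hy) h.ne
  · exact absurd (h.yz1.symm.trans hy).symm h.z1_ne_z2
  · exact absurd (h.yz2.symm.trans hy).symm h.z2_ne_z

theorem comm_x0 {s : G} (hs : s ∈ S) : s * x0 * s⁻¹ * x0⁻¹ ∈ V h := h.comm_x0 s hs

theorem comm_x1 {q : G} (hq : q ∈ qq S y) : q * x1 * q⁻¹ * x1⁻¹ ∈ V h := by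
  have h1 := y_conj_V h (comm_x0 h (mem_qq.1 hq).2.1)
  have e : y * (y⁻¹ * q * y * x0 * (y⁻¹ * q * y)⁻¹ * x0⁻¹) * y⁻¹ =
    q * (y * x0 * y⁻¹) * q⁻¹ * (y * x0 * y⁻¹)⁻¹ := by group
  rwa [e, h.yx0] at h1

theorem comm_x2 {q : G} (hq : q ∈ qq S y) : q * x2 * q⁻¹ * x2⁻¹ ∈ V h := by
  have h1 := y_conj_V h (comm_x1 h (h.hy.conj' hq))
  have e : y * (y⁻¹ * q * y * x1 * (y⁻¹ * q * y)⁻¹ * x1⁻¹) * y⁻¹ =
    q * (y * x1 * y⁻¹) * q⁻¹ * (y * x1 * y⁻¹)⁻¹ := by group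
  rwa [e, h.yx1] at h1

theorem phi_mul {x q q' v v' : G} (hv' : v' ∈ V h)
    (hq : q ∈ qq S y) (h1 : q * x * q⁻¹ * x⁻¹ = v)
    (h2 : q' * x * q'⁻¹ * x⁻¹ = v') : q * q' * x * (q * q')⁻¹ * x⁻¹ = v' * v := by
  have h3 := qq_comm_V h hq v' hv'
  calc q * q' * x * (q * q')⁻¹ * x⁻¹ = q * (q' * x * q'⁻¹ * x⁻¹) * x * q⁻¹ * x⁻¹ := by group
    _ = (q * v') * x * q⁻¹ * x⁻¹ := by rw [h2]
    _ = v' * (q * x * q⁻¹ * x⁻¹) := by rw [h3]; group
    _ = v' * v := by rw [h1]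

include h

theorem p10 : x1 * x0 * x1⁻¹ * x0⁻¹ = z2 := by rw [h.x1x0]; group
theorem p20 : x2 * x0 * x2⁻¹ * x0⁻¹ = z1 := by rw [h.x2x0]; group
theorem p01 : x0 * x1 * x0⁻¹ * x1⁻¹ = z2 := by
  have e : x0 * x1 * x0⁻¹ * x1⁻¹ = (x1 * x0 * x1⁻¹ * x0⁻¹)⁻¹ := by group
  rw [e, p10 h, inv_eq_self h.z2_sq]
theorem p21 : x2 * x1 * x2⁻¹ * x1⁻¹ = z := by rw [h.x2x1]; group
omit h
theorem pself (x : G) : x * x * x⁻¹ * x⁻¹ = 1 := by group
include h

theorem x0_not_V : x0 ∉ V h := by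
  intro h1
  have h2 := phi_of_comm (qq_comm_V h h.x1_qq x0 h1).symm
  rw [p01 h] at h2
  exact h.z2_ne h2

theorem norm0 : ∀ a ∈ V h, x0 * a * x0⁻¹ ∈ V h := fun _ ha => S_conj_V h h.x0_mem ha
theorem sq0 : x0 * x0 ∈ V h := by rw [h.x0_sq]; exact (V h).one_mem

end

section

variable {S : Subgroup G} {z z1 z2 x0 x1 x2 y : G} (h : Nf S z z1 z2 x0 x1 x2 y)

/-- `V⟨x0⟩` -/
def A0 : Subgroup G := ex (V h) x0 (norm0 h) (sq0 h)

theorem V_le_A0 : V h ≤ A0 h := fun _ hv => Or.inl hv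
theorem x0_A0 : x0 ∈ A0 h := Or.inr (sq0 h)
theorem S_conj_A0 {s : G} (hs : s ∈ S) {a : G} (ha : a ∈ A0 h) : s * a * s⁻¹ ∈ A0 h := by
  have hx : s * x0 * s⁻¹ ∈ A0 h := by
    have h1 := (A0 h).mul_mem (V_le_A0 h (comm_x0 h hs)) (x0_A0 h)
    rwa [inv_mul_cancel_right] at h1
  rcases ha with ha | ha
  · exact V_le_A0 h (S_conj_V h hs ha)
  · have h1 := (A0 h).mul_mem ((A0 h).inv_mem hx) (V_le_A0 h (S_conj_V h hs ha))
    have e : (s * x0 * s⁻¹)⁻¹ * (s * (x0 * a) * s⁻¹) = s * a * s⁻¹ := by group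
    rwa [e] at h1

theorem norm1 : ∀ a ∈ A0 h, x1 * a * x1⁻¹ ∈ A0 h := fun _ ha => S_conj_A0 h h.x1_mem ha
theorem sq1 : x1 * x1 ∈ A0 h := by rw [h.x1_sq]; exact (A0 h).one_mem

/-- `V⟨x0, x1⟩` -/
def A1 : Subgroup G := ex (A0 h) x1 (norm1 h) (sq1 h)

theorem A0_le_A1 : A0 h ≤ A1 h := fun _ hv => Or.inl hv
theorem x1_A1 : x1 ∈ A1 h := Or.inr (sq1 h)

theorem qq_conj_A1 {s : G} (hs : s ∈ qq S y) {a : G} (ha : a ∈ A1 h) : s * a * s⁻¹ ∈ A1 h := by
  have hsS := qq_le _ _ hs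
  have hx : s * x1 * s⁻¹ ∈ A1 h := by
    have h1 := (A1 h).mul_mem (A0_le_A1 h (V_le_A0 h (comm_x1 h hs))) (x1_A1 h)
    rwa [inv_mul_cancel_right] at h1
  rcases ha with ha | ha
  · exact A0_le_A1 h (S_conj_A0 h hsS ha)
  · have h1 := (A1 h).mul_mem ((A1 h).inv_mem hx) (A0_le_A1 h (S_conj_A0 h hsS ha))
    have e : (s * x1 * s⁻¹)⁻¹ * (s * (x1 * a) * s⁻¹) = s * a * s⁻¹ := by group
    rwa [e] at h1

theorem norm2 : ∀ a ∈ A1 h, x2 * a * x2⁻¹ ∈ A1 h := fun _ ha => qq_conj_A1 h h.x2_qq ha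
theorem sq2 : x2 * x2 ∈ A1 h := by rw [h.x2_sq]; exact (A1 h).one_mem

/-- `W = V⟨x0, x1, x2⟩` -/
def W : Subgroup G := ex (A1 h) x2 (norm2 h) (sq2 h)

theorem A1_le_W : A1 h ≤ W h := fun _ hv => Or.inl hv
theorem x2_W : x2 ∈ W h := Or.inr (sq2 h)
theorem x1_W : x1 ∈ W h := A1_le_W h (x1_A1 h)
theorem x0_W : x0 ∈ W h := A1_le_W h (A0_le_A1 h (x0_A0 h))
theorem V_le_W : V h ≤ W h := fun _ hv => A1_le_W h (A0_le_A1 h (V_le_A0 h hv))

theorem W_le_of {H : Subgroup G} (hz : z ∈ H) (hz1 : z1 ∈ H) (hx0 : x0 ∈ H) (hx1 : x1 ∈ H)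
    (hx2 : x2 ∈ H) : W h ≤ H := by
  have key : ∀ {K : Subgroup G} {x g : G}, (∀ a ∈ K, a ∈ H) → x ∈ H → (g ∈ K ∨ x * g ∈ K) → g ∈ H := by
    intro K x g hK hx hg
    rcases hg with hg | hg
    · exact hK g hg
    · have h1 := H.mul_mem (H.inv_mem hx) (hK _ hg)
      rwa [inv_mul_cancel_left] at h1
  have hV : ∀ a ∈ V h, a ∈ H := by
    rintro a (rfl | rfl | rfl | rfl)
    exacts [H.one_mem, hz, hz1, h.zz1 ▸ H.mul_mem hz hz1]
  have h0 : ∀ a ∈ A0 h, a ∈ H := fun a ha => key hV hx0 ha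
  have h1 : ∀ a ∈ A1 h, a ∈ H := fun a ha => key h0 hx1 ha
  exact fun a ha => key h1 hx2 ha

theorem W_le : W h ≤ qq S y := W_le_of h h.z_qq h.z1_qq h.x0_qq h.x1_qq h.x2_qq

theorem W_y {g : G} (hg : g ∈ W h) : y * g * y⁻¹ ∈ W h := by
  have h1 : W h ≤ cj y⁻¹ (W h) := by
    refine W_le_of h ?_ ?_ ?_ ?_ ?_ <;> rw [mem_cj_inv]
    · rw [h.yz]; exact V_le_W h (z1_V h)
    · rw [h.yz1]; exact V_le_W h (z2_V h)
    · rw [h.yx0]; exact x1_W h
    · rw [h.yx1]; exact x2_W h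
    · rw [h.yx2]; exact x0_W h
  exact mem_cj_inv.1 (h1 hg)

theorem swap_x1 {s : G} (hs : s ∈ S) (hq : s ∉ qq S y) : s * x1 * s⁻¹ * x2⁻¹ ∈ V h := by
  have h1 := yinv_conj_V h (comm_x0 h (h.hy.not_qq hs hq).1)
  have e : y⁻¹ * (y * s * y * x0 * (y * s * y)⁻¹ * x0⁻¹) * y =
    s * (y * x0 * y⁻¹) * s⁻¹ * (y⁻¹ * x0 * y)⁻¹ := by group
  rwa [e, h.yx0, conj_inv h.yx2] at h1

theorem swap_x2 {s : G} (hs : s ∈ S) (hq : s ∉ qq S y) : s * x2 * s⁻¹ * x1⁻¹ ∈ V h := by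
  have h1 := y_conj_V h (comm_x0 h (h.hy.not_qq hs hq).2)
  have e : y * (y⁻¹ * s * y⁻¹ * x0 * (y⁻¹ * s * y⁻¹)⁻¹ * x0⁻¹) * y⁻¹ =
    s * (y⁻¹ * x0 * y) * s⁻¹ * (y * x0 * y⁻¹)⁻¹ := by group
  rwa [e, h.yx0, conj_inv h.yx2] at h1

theorem W_S {s : G} (hs : s ∈ S) {g : G} (hg : g ∈ W h) : s * g * s⁻¹ ∈ W h := by
  have mv : ∀ {a b : G}, a * b⁻¹ ∈ V h → b ∈ W h → a ∈ W h := by
    intro a b h1 h2
    have h3 := (W h).mul_mem (V_le_W h h1) h2
    rwa [inv_mul_cancel_right] at h3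
  have h1 : W h ≤ cj s⁻¹ (W h) := by
    refine W_le_of h ?_ ?_ ?_ ?_ ?_ <;> rw [mem_cj_inv]
    · exact V_le_W h (S_conj_V h hs (z_V h))
    · exact V_le_W h (S_conj_V h hs (z1_V h))
    · exact mv (comm_x0 h hs) (x0_W h)
    · by_cases hq : s ∈ qq S y
      · exact mv (comm_x1 h hq) (x1_W h)
      · exact mv (swap_x1 h hs hq) (x2_W h)
    · by_cases hq : s ∈ qq S y
      · exact mv (comm_x2 h hq) (x2_W h)
      · exact mv (swap_x2 h hs hq) (x1_W h)
  exact mem_cj_inv.1 (h1 hg)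

/-! ### `σ = x0 x1 x2 z1` and the fixed points of `y` in `W` -/

include h

theorem y_σ : y * (x0 * (x1 * (x2 * z1))) * y⁻¹ = x0 * (x1 * (x2 * z1)) := by
  rw [cmul, cmul, cmul, h.yx0, h.yx1, h.yx2, h.yz1]
  simp only [h.rules]

theorem σ_sq : (x0 * (x1 * (x2 * z1))) * (x0 * (x1 * (x2 * z1))) = 1 := by
  simp only [mul_assoc, h.rules]

theorem σ_qq : x0 * (x1 * (x2 * z1)) ∈ qq S y :=
  (qq S y).mul_mem h.x0_qq ((qq S y).mul_mem h.x1_qq ((qq S y).mul_mem h.x2_qq h.z1_qq))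

theorem σ_x0 : (x0 * (x1 * (x2 * z1))) * x0 = z * x0 * (x0 * (x1 * (x2 * z1))) := by
  simp only [mul_assoc, h.rules]

theorem pσ0 : (x0 * (x1 * (x2 * z1))) * x0 * (x0 * (x1 * (x2 * z1)))⁻¹ * x0⁻¹ = z := by
  rw [σ_x0 h]; group

end

section

variable {S : Subgroup G} {z z1 z2 x0 x1 x2 y : G} (h : Nf S z z1 z2 x0 x1 x2 y)

theorem σ_W : x0 * (x1 * (x2 * z1)) ∈ W h :=
  (W h).mul_mem (x0_W h) ((W h).mul_mem (x1_W h) ((W h).mul_mem (x2_W h) (V_le_W h (z1_V h))))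

/-- The fixed points of `y` in `W` are `1` and `σ`. -/
theorem fix_W {g : G} (hg : g ∈ W h) (hy : y * g * y⁻¹ = g) :
    g = 1 ∨ g = x0 * (x1 * (x2 * z1)) := by
  have hgq := W_le h hg
  have key : ∀ {u a b : G}, u ∈ qq S y → a ∈ V h → b ∈ V h → u * x0 * u⁻¹ * x0⁻¹ = a →
      u * x1 * u⁻¹ * x1⁻¹ = b → u * g ∈ V h → y * a * y⁻¹ = b := by
    intro u a b hu ha hb h0 h1 hug
    have g0 : g * x0 * g⁻¹ * x0⁻¹ = a := by
      have e1 := phi_mul h (comm_x0 h (qq_le _ _ hgq)) hu h0 rfl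
      rw [phi_of_comm (qq_comm_V h h.x0_qq _ hug).symm] at e1
      rw [eq_inv_of_mul_eq_one_left e1.symm, inv_eq_self (V_sq h a ha)]
    have g1 : g * x1 * g⁻¹ * x1⁻¹ = b := by
      have e1 := phi_mul h (comm_x1 h hgq) hu h1 rfl
      rw [phi_of_comm (qq_comm_V h h.x1_qq _ hug).symm] at e1
      rw [eq_inv_of_mul_eq_one_left e1.symm, inv_eq_self (V_sq h b hb)]
    rw [← g0, ← g1]
    have e : y * (g * x0 * g⁻¹ * x0⁻¹) * y⁻¹ = (y * g * y⁻¹) * (y * x0 * y⁻¹) * (y * g * y⁻¹)⁻¹ *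
      (y * x0 * y⁻¹)⁻¹ := by group
    rw [e, hy, h.yx0]
  have q01 := phi_mul h (z2_V h) h.x0_qq (pself x0) (p10 h)
  have r01 := phi_mul h (V h).one_mem h.x0_qq (p01 h) (pself x1)
  have q02 := phi_mul h (z1_V h) h.x0_qq (pself x0) (p20 h)
  have r02 := phi_mul h (z_V h) h.x0_qq (p01 h) (p21 h)
  have q12 := phi_mul h (z1_V h) h.x1_qq (p10 h) (p20 h)
  have r12 := phi_mul h (z_V h) h.x1_qq (pself x1) (p21 h)
  rw [mul_one] at q01 q02 r12
  rw [one_mul] at r01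
  rw [h.zz2] at r02
  rw [h.z1z2] at q12
  have n01 := (qq S y).mul_mem h.x0_qq h.x1_qq
  have n02 := (qq S y).mul_mem h.x0_qq h.x2_qq
  have n12 := (qq S y).mul_mem h.x1_qq h.x2_qq
  rcases hg with ((hg | hg) | (hg | hg)) | ((hg | hg) | (hg | hg))
  · left; exact fix_V h hg hy
  · exfalso
    have h1 := key h.x0_qq (V h).one_mem (z2_V h) (pself x0) (p01 h) hg
    apply h.z2_ne
    rw [← h1]; group
  · exfalso
    have h1 := key h.x1_qq (z2_V h) (V h).one_mem (p10 h) (pself x1) hg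
    rw [h.yz2] at h1
    exact h.z_ne h1
  · exfalso
    rw [← mul_assoc] at hg
    have h1 := key n01 (z2_V h) (z2_V h) q01 r01 hg
    rw [h.yz2] at h1
    exact h.z2_ne_z h1.symm
  · exfalso
    have h1 := key h.x2_qq (z1_V h) (z_V h) (p20 h) (p21 h) hg
    rw [h.yz1] at h1
    exact h.z2_ne_z h1
  · exfalso
    rw [← mul_assoc] at hg
    have h1 := key n02 (z1_V h) (z1_V h) q02 r02 hg
    rw [h.yz1] at h1
    exact h.z1_ne_z2 h1.symm
  · exfalso
    rw [← mul_assoc] at hg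
    have h1 := key n12 (z_V h) (z_V h) q12 r12 hg
    rw [h.yz] at h1
    exact h.ne h1
  · right
    have h1 : x0 * (x1 * (x2 * z1)) * g ∈ V h := by
      have h2 := (V h).mul_mem (z1_V h) hg
      have e : x0 * (x1 * (x2 * z1)) * g = z1 * (x0 * (x1 * (x2 * g))) := by
        simp only [mul_assoc, h.rules]
      rwa [e]
    have h2 := fix_V h h1 (by rw [cmul, y_σ h, hy])
    rw [eq_inv_of_mul_eq_one_right h2, inv_eq_self (σ_sq h)]

theorem σ_not_V : x0 * (x1 * (x2 * z1)) ∉ V h := by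
  intro h1
  have h2 := phi_of_comm (qq_comm_V h h.x0_qq _ h1).symm
  rw [pσ0 h] at h2
  exact h.z_ne h2

include h in
/-- An element `t ∈ S ∖ Q₁` inverting `y`. -/
theorem exists_t [Finite G] (hns : ∃ t ∈ S, t ∉ qq S y) : ∃ t ∈ S, t ∉ qq S y ∧ y * t * y = t := by
  obtain ⟨p, hp, hp'⟩ := hns
  have hpi : p⁻¹ ∉ qq S y := fun h1 => hp' (by simpa using (qq S y).inv_mem h1)
  refine exists_fixed_coset (h.two.to_le (qq_le S y)) (qq_le S y) hp hp' ?_ (fun t => y * t * y) ?_ ?_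
  · intro b hb
    by_cases hbq : b ∈ qq S y
    · exact Or.inl hbq
    · exact Or.inr (h.hy.mul_not_qq (S.inv_mem hp) hb hpi hbq)
  · intro b hb hbq
    exact ⟨(h.hy.not_qq hb hbq).1, h.hy.not_qq_conj hb hbq⟩
  · intro b hb hbq
    show y * (y * (y * b * y) * y) * y = b
    calc y * (y * (y * b * y) * y) * y = (y * y * y) * b * (y * y * y) := by group
      _ = b := by rw [h.hy.cube, one_mul, mul_one]

theorem tt_fix {t : G} (hty : y * t * y = t) : y * (t * t) * y⁻¹ = t * t := by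
  have h1 : t * y⁻¹ = y * t := by
    calc t * y⁻¹ = y * t * y * y⁻¹ := by rw [hty]
      _ = y * t := by group
  have h2 : y * t * y⁻¹ = y * y * t := by
    calc y * t * y⁻¹ = y * (t * y⁻¹) := by group
      _ = y * y * t := by rw [h1]; group
  calc y * (t * t) * y⁻¹ = y * t * (t * y⁻¹) := by group
    _ = (y * t * y) * t := by rw [h1]; group
    _ = t * t := by rw [hty]

theorem card_V [Finite G] : Nat.card (V h) = 4 := by
  have e1 : Nat.card ({1, z, z1, z2} : Set G) = 4 := by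
    rw [Nat.card_coe_set_eq]
    rw [Set.ncard_insert_of_notMem, Set.ncard_insert_of_notMem, Set.ncard_insert_of_notMem,
      Set.ncard_singleton]
    · simp only [Set.mem_singleton_iff]; exact h.z1_ne_z2
    · simp only [Set.mem_insert_iff, Set.mem_singleton_iff, not_or]
      exact ⟨h.ne.symm, h.z2_ne_z.symm⟩
    · simp only [Set.mem_insert_iff, Set.mem_singleton_iff, not_or]
      exact ⟨h.z_ne.symm, h.z1_ne.symm, h.z2_ne.symm⟩
  exact e1

theorem card_W [Finite G] : Nat.card (W h) = 32 := by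
  have q01 := phi_mul h (z2_V h) h.x0_qq (pself x0) (p10 h)
  have q02 := phi_mul h (z1_V h) h.x0_qq (pself x0) (p20 h)
  have q12 := phi_mul h (z1_V h) h.x1_qq (p10 h) (p20 h)
  have n12 := (qq S y).mul_mem h.x1_qq h.x2_qq
  have q012 := phi_mul h (z_V h) h.x0_qq (pself x0) (q12.trans h.z1z2)
  rw [mul_one] at q01 q02 q012
  rw [h.z1z2] at q12
  have key : ∀ {u a : G}, u * x0 * u⁻¹ * x0⁻¹ = a → a ≠ 1 → u ∉ V h := by
    intro u a h1 h2 h3
    rw [phi_of_comm (qq_comm_V h h.x0_qq _ h3).symm] at h1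
    exact h2 h1.symm
  have e2 : Nat.card (W h) = 2 * Nat.card (A1 h) := card_ex (by
    rintro ((h1 | h1) | (h1 | h1))
    · exact key (p20 h) h.z1_ne h1
    · exact key q02 h.z1_ne h1
    · exact key q12 h.z_ne h1
    · exact key q012 h.z_ne h1)
  have e1 : Nat.card (A1 h) = 2 * Nat.card (A0 h) := card_ex (by
    rintro (h1 | h1)
    · exact key (p10 h) h.z2_ne h1
    · exact key q01 h.z2_ne h1)
  have e0 : Nat.card (A0 h) = 2 * Nat.card (V h) := card_ex (x0_not_V h)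
  rw [e2, e1, e0, card_V h]

include h in
theorem card_S [Finite G] (hns : ∃ t ∈ S, t ∉ qq S y) : Nat.card S = 2 * Nat.card (qq S y) := by
  obtain ⟨p, hp, hp'⟩ := hns
  refine card_eq_two_mul (qq_le S y) hp hp' ?_
  intro b hb
  by_cases hbq : b ∈ qq S y
  · exact Or.inl hbq
  · exact Or.inr (h.hy.mul_not_qq hb hp hbq hp')

end

end Cfsg.Agent.SectRankFour.C2.BThreeH
end

-- part: SectRankFour/C2/BThreeI
section
/-!
# The configurations `Conf64` and `Conf128` from `Nf`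

* `conf64`, `conf128`.
-/

set_option autoImplicit false

namespace Cfsg.Agent.SectRankFour.C2.BThreeI

open Cfsg.Agent.SectRankFour.C2.BThreeA Cfsg.Agent.SectRankFour.C2.BThreeG
  Cfsg.Agent.SectRankFour.C2.BThreeH Cfsg.Agent.SectRankFour.C2.Defs

variable {G : Type*} [Group G] {S : Subgroup G} {z z1 z2 x0 x1 x2 y t f : G}

theorem t_y (hty : y * t * y = t) : t * y = y⁻¹ * t := by
  calc t * y = y⁻¹ * (y * t * y) := by group
    _ = y⁻¹ * t := by rw [hty]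

theorem t_yinv (hty : y * t * y = t) : t * y⁻¹ = y * t := by
  calc t * y⁻¹ = (y * t * y) * y⁻¹ := by rw [hty]
    _ = y * t := by group

theorem t_x1 (h : Nf S z z1 z2 x0 x1 x2 y) (hty : y * t * y = t) (htx : t * x0 = x0 * t) :
    t * x1 = x2 * t := by
  have e1 := t_y hty
  have e2 := t_yinv hty
  calc t * x1 = t * (y * x0 * y⁻¹) := by rw [h.yx0]
    _ = (t * y) * x0 * y⁻¹ := by group
    _ = y⁻¹ * (t * x0) * y⁻¹ := by rw [e1]; group
    _ = y⁻¹ * x0 * (t * y⁻¹) := by rw [htx]; group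
    _ = (y⁻¹ * x0 * y) * t := by rw [e2]; group
    _ = x2 * t := by rw [conj_inv h.yx2]

theorem t_x2 (h : Nf S z z1 z2 x0 x1 x2 y) (hty : y * t * y = t) (htx : t * x0 = x0 * t) :
    t * x2 = x1 * t := by
  have e1 := t_y hty
  have e2 := t_yinv hty
  have e3 : y * x0 = x1 * y := by rw [← h.yx0]; group
  have e4 := conj_inv h.yx2
  calc t * x2 = t * (y⁻¹ * x0 * y) := by rw [e4]
    _ = (t * y⁻¹) * x0 * y := by group
    _ = y * (t * x0) * y := by rw [e2]; group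
    _ = y * x0 * (t * y) := by rw [htx]; group
    _ = x1 * t := by rw [e1, e3]; group

theorem trules (h : Nf S z z1 z2 x0 x1 x2 y) (ht : t ∈ S) (htq : t ∉ qq S y)
    (hty : y * t * y = t) (ht2 : t * t = 1) (htx : t * x0 = x0 * t) :
    (t * z = z * t) ∧ (∀ g : G, t * (z * g) = z * (t * g)) ∧
    (t * z1 = z2 * t) ∧ (∀ g : G, t * (z1 * g) = z2 * (t * g)) ∧
    (t * z2 = z1 * t) ∧ (∀ g : G, t * (z2 * g) = z1 * (t * g)) ∧
    (t * x0 = x0 * t) ∧ (∀ g : G, t * (x0 * g) = x0 * (t * g)) ∧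
    (t * x1 = x2 * t) ∧ (∀ g : G, t * (x1 * g) = x2 * (t * g)) ∧
    (t * x2 = x1 * t) ∧ (∀ g : G, t * (x2 * g) = x1 * (t * g)) ∧
    (t * t = 1) ∧ (∀ g : G, t * (t * g) = g) ∧ (t⁻¹ = t) := by
  have e : ∀ {a b c : G}, a * b = c * a → ∀ g : G, a * (b * g) = c * (a * g) := by
    intro a b c e g
    rw [← mul_assoc, e, mul_assoc]
  have e0 := h.z_comm t ht
  have e1 := h.swap1 ht htq
  have e2 := h.swap2 ht htq
  have e3 := t_x1 h hty htx
  have e4 := t_x2 h hty htx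
  refine ⟨e0, e e0, e1, e e1, e2, e e2, htx, e htx, e3, e e3, e4, e e4, ht2, ?_, inv_eq_self ht2⟩
  intro g
  rw [← mul_assoc, ht2, one_mul]

theorem yrules (h : Nf S z z1 z2 x0 x1 x2 y) :
    (y * z = z1 * y) ∧ (∀ g : G, y * (z * g) = z1 * (y * g)) ∧
    (y * z1 = z2 * y) ∧ (∀ g : G, y * (z1 * g) = z2 * (y * g)) ∧
    (y * z2 = z * y) ∧ (∀ g : G, y * (z2 * g) = z * (y * g)) ∧
    (y * x0 = x1 * y) ∧ (∀ g : G, y * (x0 * g) = x1 * (y * g)) ∧
    (y * x1 = x2 * y) ∧ (∀ g : G, y * (x1 * g) = x2 * (y * g)) ∧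
    (y * x2 = x0 * y) ∧ (∀ g : G, y * (x2 * g) = x0 * (y * g)) := by
  have e : ∀ {a b c : G}, a * b = c * a → ∀ g : G, a * (b * g) = c * (a * g) := by
    intro a b c e g
    rw [← mul_assoc, e, mul_assoc]
  have k : ∀ {b c : G}, y * b * y⁻¹ = c → y * b = c * y := by
    intro b c hbc
    rw [← hbc]; group
  exact ⟨k h.yz, e (k h.yz), k h.yz1, e (k h.yz1), k h.yz2, e (k h.yz2), k h.yx0, e (k h.yx0),
    k h.yx1, e (k h.yx1), k h.yx2, e (k h.yx2)⟩

/-- `W` is generated by `a = x2 x0`, `b = x0 x1`, `σ`. -/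
theorem W_le_of_ab (h : Nf S z z1 z2 x0 x1 x2 y) {H : Subgroup G} (ha : x2 * x0 ∈ H)
    (hb : x0 * x1 ∈ H) (hσ : x0 * (x1 * (x2 * z1)) ∈ H) : W h ≤ H := by
  have hz1 : z1 ∈ H := by
    have h1 := H.mul_mem ha ha
    have e : x2 * x0 * (x2 * x0) = z1 := by simp only [mul_assoc, h.rules, mul_one]
    rwa [e] at h1
  have hz2 : z2 ∈ H := by
    have h1 := H.mul_mem hb hb
    have e : x0 * x1 * (x0 * x1) = z2 := by simp only [mul_assoc, h.rules, mul_one]
    rwa [e] at h1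
  have hz : z ∈ H := h.z1z2 ▸ H.mul_mem hz1 hz2
  have hx2 : x2 ∈ H := by
    have h1 := H.mul_mem (H.mul_mem (H.inv_mem hb) hσ) hz1
    have e : (x0 * x1)⁻¹ * (x0 * (x1 * (x2 * z1))) * z1 = x2 := by
      simp only [mul_assoc, mul_inv_rev, h.rules]
    rwa [e] at h1
  have hx0 : x0 ∈ H := by
    have h1 := H.mul_mem hx2 ha
    have e : x2 * (x2 * x0) = x0 := by simp only [h.rules, mul_one]
    rwa [e] at h1
  have hx1 : x1 ∈ H := by
    have h1 := H.mul_mem hx0 hb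
    have e : x0 * (x0 * x1) = x1 := by simp only [h.rules]
    rwa [e] at h1
  exact W_le_of h hz hz1 hx0 hx1 hx2

theorem eqS_aux {X : Set G} (hX : ∀ g ∈ X, g ∈ S) (hq : qq S y ≤ Subgroup.closure X)
    (hy : Half S y) (ht : t ∈ S) (htq : t ∉ qq S y) (htX : t ∈ Subgroup.closure X) :
    S = Subgroup.closure X := by
  apply le_antisymm
  · intro g hg
    by_cases hgq : g ∈ qq S y
    · exact hq hgq
    · have h1 := hq (hy.mul_not_qq ht hg htq hgq)
      have h2 := (Subgroup.closure X).mul_mem ((Subgroup.closure X).inv_mem htX) h1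
      rwa [inv_mul_cancel_left] at h2
  · rw [Subgroup.closure_le]
    exact hX

theorem eqP_aux {X : Set G} {P1 : Subgroup G}
    (cov : ∀ g ∈ P1, g ∈ S ∨ y⁻¹ * g ∈ S ∨ y * g ∈ S) (hX : ∀ g ∈ X, g ∈ P1)
    (hS : S ≤ Subgroup.closure X) (hy : y ∈ Subgroup.closure X) :
    P1 = Subgroup.closure X := by
  apply le_antisymm
  · intro g hg
    rcases cov g hg with h1 | h1 | h1
    · exact hS h1
    · have h2 := (Subgroup.closure X).mul_mem hy (hS h1)
      rwa [mul_inv_cancel_left] at h2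
    · have h2 := (Subgroup.closure X).mul_mem ((Subgroup.closure X).inv_mem hy) (hS h1)
      rwa [inv_mul_cancel_left] at h2
  · rw [Subgroup.closure_le]
    exact hX

theorem mk64 [Finite G] (h : Nf S z z1 z2 x0 x1 x2 y) {P1 : Subgroup G} (hSP : S ≤ P1)
    (hyP : y ∈ P1) (cov : ∀ g ∈ P1, g ∈ S ∨ y⁻¹ * g ∈ S ∨ y * g ∈ S) (ht : t ∈ S)
    (htq : t ∉ qq S y) (hty : y * t * y = t) (ht2 : t * t = 1) (htx : t * x0 = x0 * t)
    (hQ : qq S y ≤ W h) :
    Conf64 S P1 (x2 * x0) (x0 * x1) (x0 * (x1 * (x2 * z1))) (t * (x0 * (x1 * (x2 * z1)))) y := by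
  have R := h.rules
  have T := trules h ht htq hty ht2 htx
  have Y := yrules h
  have hqW : qq S y = W h := le_antisymm hQ (W_le h)
  have haS : x2 * x0 ∈ S := S.mul_mem h.x2_mem h.x0_mem
  have hbS : x0 * x1 ∈ S := S.mul_mem h.x0_mem h.x1_mem
  have hσS : x0 * (x1 * (x2 * z1)) ∈ S := qq_le _ _ (σ_qq h)
  have hσ2 := σ_sq h
  have hS : S = Subgroup.closure {x2 * x0, x0 * x1, x0 * (x1 * (x2 * z1)),
      t * (x0 * (x1 * (x2 * z1)))} := by
    have hσ : x0 * (x1 * (x2 * z1)) ∈ Subgroup.closure {x2 * x0, x0 * x1, x0 * (x1 * (x2 * z1)),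
      t * (x0 * (x1 * (x2 * z1)))} := Subgroup.subset_closure (by simp only [_root_.Set.mem_insert_iff, _root_.mul_right_inj, _root_.mul_eq_left, _root_.Set.mem_singleton_iff, _root_.right_eq_mul, _root_.true_or, _root_.or_true])
    refine eqS_aux (y := y) (t := t) ?_ ?_ h.hy ht htq ?_
    · rintro g (rfl | rfl | rfl | rfl)
      exacts [haS, hbS, hσS, S.mul_mem ht hσS]
    · rw [hqW]
      exact W_le_of_ab h (Subgroup.subset_closure (by simp only [_root_.Set.mem_insert_iff, _root_.Set.mem_singleton_iff, _root_.true_or])) (Subgroup.subset_closure (by simp only [_root_.Set.mem_insert_iff, _root_.mul_right_inj, _root_.left_eq_mul, _root_.Set.mem_singleton_iff, _root_.true_or, _root_.or_true])) hσ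
    · have h1 : t * (x0 * (x1 * (x2 * z1))) ∈ Subgroup.closure {x2 * x0, x0 * x1,
        x0 * (x1 * (x2 * z1)), t * (x0 * (x1 * (x2 * z1)))} := Subgroup.subset_closure (by simp only [_root_.Set.mem_insert_iff, _root_.mul_eq_right, _root_.Set.mem_singleton_iff, _root_.or_true])
      have h2 := Subgroup.mul_mem _ h1 hσ
      rwa [mul_assoc, hσ2, mul_one] at h2
  refine
    { card := ?_
      eqS := hS
      eqP := ?_
      ab := ?_
      a4 := ?_
      b4 := ?_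
      u2 := ?_
      s2 := ?_
      x3 := ?_
      ua := ?_
      ub := ?_
      sa := ?_
      sb := ?_
      su := ?_
      xa := ?_
      xb := ?_
      xu := ?_
      sx := ?_ }
  · rw [card_S h ⟨t, ht, htq⟩, hqW, card_W h]
  · refine eqP_aux cov ?_ ?_ (Subgroup.subset_closure (by simp only [_root_.Set.mem_insert_iff, _root_.Set.mem_singleton_iff, _root_.or_true]))
    · rintro g (rfl | rfl | rfl | rfl | rfl)
      exacts [hSP haS, hSP hbS, hSP hσS, hSP (S.mul_mem ht hσS), hyP]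
    · conv_lhs => rw [hS]
      apply Subgroup.closure_mono
      intro g hg
      simp only [Set.mem_insert_iff, Set.mem_singleton_iff] at hg ⊢
      (clear * - hg; tauto)
  · simp only [mul_assoc, R]
  · simp only [pow_succ, pow_zero, one_mul, mul_assoc, R]
  · simp only [pow_succ, pow_zero, one_mul, mul_assoc, R]
  · rw [pow_two]; exact hσ2
  · simp only [pow_succ, pow_zero, one_mul, mul_assoc, R, T]
  · rw [pow_succ, pow_two]; exact h.hy.cube
  · rw [mul_inv_eq_iff_eq_mul]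
    simp only [mul_assoc, mul_inv_rev, R]
  · rw [mul_inv_eq_iff_eq_mul]
    simp only [mul_assoc, mul_inv_rev, R]
  · rw [mul_inv_eq_iff_eq_mul]
    simp only [mul_assoc, R, T]
  · rw [mul_inv_eq_iff_eq_mul]
    simp only [mul_assoc, R, T]
  · simp only [mul_assoc, R, T]
  · rw [mul_inv_eq_iff_eq_mul]
    simp only [mul_assoc, Y]
  · rw [mul_inv_eq_iff_eq_mul]
    simp only [mul_assoc, mul_inv_rev, R, Y]
  · simp only [mul_assoc, R, Y]
  · have hyσ : y * (x0 * (x1 * (x2 * z1))) = (x0 * (x1 * (x2 * z1))) * y := by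
      simp only [mul_assoc, R, Y]
    obtain ⟨σ, hσ⟩ : ∃ σ, σ = x0 * (x1 * (x2 * z1)) := ⟨_, rfl⟩
    rw [← hσ] at hyσ ⊢
    rw [mul_inv_eq_iff_eq_mul]
    have e1 := t_y hty
    calc t * σ * y = t * (σ * y) := by group
      _ = (t * y) * σ := by rw [← hyσ]; group
      _ = y⁻¹ * (t * σ) := by rw [e1]; group


/-- Change of `x0` by an element of `V`. -/
theorem shift (h : Nf S z z1 z2 x0 x1 x2 y) :
    Nf S z z1 z2 (x0 * z1) (x1 * z2) (x2 * z) y where
  two := h.two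
  hy := h.hy
  z_sq := h.z_sq
  z_ne := h.z_ne
  ne := h.ne
  zz1 := h.zz1
  yz := h.yz
  yz1 := h.yz1
  yz2 := h.yz2
  z_qq := h.z_qq
  z_comm := h.z_comm
  x0_qq := (qq S y).mul_mem h.x0_qq h.z1_qq
  x0_sq := by simp only [mul_assoc, h.rules]
  yx0 := by rw [cmul, h.yx0, h.yz1]
  yx1 := by rw [cmul, h.yx1, h.yz2]
  yx2 := by rw [cmul, h.yx2, h.yz]
  x1x0 := by simp only [mul_assoc, h.rules]
  comm_x0 := by
    intro s hs
    have h1 : s * (x0 * z1) * s⁻¹ * (x0 * z1)⁻¹ ∈ V h := by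
      have h2 := comm_x0 h hs
      have h3 := S_conj_V h hs (z1_V h)
      have h4 := qq_comm_V h h.x0_qq _ h3
      have e : s * (x0 * z1) * s⁻¹ * (x0 * z1)⁻¹ =
          (s * x0 * s⁻¹ * x0⁻¹) * ((s * z1 * s⁻¹) * z1⁻¹) := by
        have h5 := qq_comm_V h h.x0_qq _ ((V h).inv_mem (z1_V h))
        calc s * (x0 * z1) * s⁻¹ * (x0 * z1)⁻¹
            = (s * x0 * s⁻¹) * (s * z1 * s⁻¹) * (z1⁻¹ * x0⁻¹) := by group
          _ = (s * x0 * s⁻¹) * (s * z1 * s⁻¹) * (x0⁻¹ * (x0 * z1⁻¹)) * x0⁻¹ := by group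
          _ = (s * x0 * s⁻¹) * (s * z1 * s⁻¹) * (x0⁻¹ * (z1⁻¹ * x0)) * x0⁻¹ := by rw [h5]
          _ = (s * x0 * s⁻¹ * x0⁻¹) * ((x0 * (s * z1 * s⁻¹)) * x0⁻¹) * z1⁻¹ := by
            have h6 : x0⁻¹ * z1⁻¹ = z1⁻¹ * x0⁻¹ := by
              rw [inv_eq_self h.x0_sq, inv_eq_self h.z1_sq, h.qq_comm1 h.x0_qq]
            calc (s * x0 * s⁻¹) * (s * z1 * s⁻¹) * (x0⁻¹ * (z1⁻¹ * x0)) * x0⁻¹
                = (s * x0 * s⁻¹) * (s * z1 * s⁻¹) * (x0⁻¹ * z1⁻¹) := by group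
              _ = (s * x0 * s⁻¹ * x0⁻¹) * ((x0 * (s * z1 * s⁻¹)) * x0⁻¹) * z1⁻¹ := by
                group
          _ = (s * x0 * s⁻¹ * x0⁻¹) * ((s * z1 * s⁻¹) * z1⁻¹) := by rw [h4]; group
      rw [e]
      exact (V h).mul_mem h2 ((V h).mul_mem h3 ((V h).inv_mem (z1_V h)))
    exact h1

theorem σ_shift (h : Nf S z z1 z2 x0 x1 x2 y) :
    (x0 * z1) * ((x1 * z2) * ((x2 * z) * z1)) = x0 * (x1 * (x2 * z1)) := by
  simp only [mul_assoc, h.rules]

theorem W_shift (h : Nf S z z1 z2 x0 x1 x2 y) : W h ≤ W (shift h) := by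
  have h' := shift h
  have mv : ∀ {a v : G}, a * v ∈ W h' → v ∈ V h' → a ∈ W h' := by
    intro a v h1 h2
    have h3 := (W h').mul_mem h1 ((W h').inv_mem (V_le_W h' h2))
    rwa [mul_inv_cancel_right] at h3
  exact W_le_of h (V_le_W h' (z_V h')) (V_le_W h' (z1_V h')) (mv (x0_W h') (z1_V h'))
    (mv (x1_W h') (z2_V h')) (mv (x2_W h') (z_V h'))

/-- An involution `t ∈ S ∖ Q₁` centralises `x0` or `x0 z1`. -/
theorem t_x0 (h : Nf S z z1 z2 x0 x1 x2 y) (ht : t ∈ S) (htq : t ∉ qq S y) (ht2 : t * t = 1) :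
    t * x0 = x0 * t ∨ t * (x0 * z1) = (x0 * z1) * t := by
  obtain ⟨v, hv⟩ : ∃ v, v = t * x0 * t⁻¹ * x0⁻¹ := ⟨_, rfl⟩
  have hvV : v ∈ V h := hv ▸ comm_x0 h ht
  have e1 : t * x0 = v * x0 * t := by rw [hv]; group
  have e2 : t * v * t = v := by
    have h1 : t * x0 * t = v * x0 := by rw [e1, mul_assoc, ht2, mul_one]
    have h2 : t * v * t * v * x0 = 1 * x0 := by
      calc t * v * t * v * x0 = t * v * t * (v * x0) := by group
        _ = t * v * t * (t * x0 * t) := by rw [h1]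
        _ = t * v * (t * t) * x0 * t := by group
        _ = t * (v * x0) * t := by rw [ht2]; group
        _ = (t * t) * x0 * (t * t) := by rw [← h1]; group
        _ = 1 * x0 := by rw [ht2]; group
    have h3 := mul_right_cancel h2
    rw [eq_inv_of_mul_eq_one_left h3, inv_eq_self (V_sq h v hvV)]
  have hvV' := hvV
  rcases hvV' with h1 | h1 | h1 | h1
  · left; rw [e1, h1, one_mul]
  · right
    rw [← mul_assoc, e1, h1]
    have e3 := h.swap1 ht htq
    calc z * x0 * t * z1 = z * x0 * (t * z1) := by group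
      _ = (z * x0 * z2) * t := by rw [e3]; group
      _ = x0 * z1 * t := by simp only [mul_assoc, h.rules]
  · exfalso
    rw [h1, h.swap1 ht htq, mul_assoc, ht2, mul_one] at e2
    exact h.z1_ne_z2 e2.symm
  · exfalso
    rw [h1, h.swap2 ht htq, mul_assoc, ht2, mul_one] at e2
    exact h.z1_ne_z2 e2

/-- The case `Q₁ = W`. -/
theorem conf64 [Finite G] (h : Nf S z z1 z2 x0 x1 x2 y) {P1 : Subgroup G} (hSP : S ≤ P1)
    (hyP : y ∈ P1) (cov : ∀ g ∈ P1, g ∈ S ∨ y⁻¹ * g ∈ S ∨ y * g ∈ S)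
    (hns : ∃ t ∈ S, t ∉ qq S y) (hQ : qq S y ≤ W h)
    (hex : ∀ t ∈ S, t ∉ qq S y → y * t * y = t → t * t ≠ x0 * (x1 * (x2 * z1))) :
    ∃ a b u s x, Conf64 S P1 a b u s x := by
  obtain ⟨t, ht, htq, hty⟩ := exists_t h hns
  have ht2 : t * t = 1 := (fix_W h (hQ (h.hy.mul_not_qq ht ht htq htq)) (tt_fix hty)).resolve_right
    (hex t ht htq hty)
  rcases t_x0 h ht htq ht2 with h1 | h1
  · exact ⟨_, _, _, _, _, mk64 h hSP hyP cov ht htq hty ht2 h1 hQ⟩
  · exact ⟨_, _, _, _, _, mk64 (shift h) hSP hyP cov ht htq hty ht2 h1 (hQ.trans (W_shift h))⟩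

end Cfsg.Agent.SectRankFour.C2.BThreeI
end

-- part: SectRankFour/C2/BThreeJ
section
/-!
# The configuration `Conf128` from `Nf`
-/

set_option autoImplicit false

namespace Cfsg.Agent.SectRankFour.C2.BThreeJ

open Cfsg.Agent.SectRankFour.C2.BThreeA Cfsg.Agent.SectRankFour.C2.BThreeG
  Cfsg.Agent.SectRankFour.C2.BThreeH Cfsg.Agent.SectRankFour.C2.BThreeI
  Cfsg.Agent.SectRankFour.C2.Defs

variable {G : Type*} [Group G] {S : Subgroup G} {z z1 z2 x0 x1 x2 y t f : G}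

theorem frules (h : Nf S z z1 z2 x0 x1 x2 y) (hf : f ∈ qq S y) (hyf : y * f * y⁻¹ = f)
    (hf2 : f * f = 1) (hfx : f * x0 = z1 * (x0 * f)) :
    (f * z = z * f) ∧ (∀ g : G, f * (z * g) = z * (f * g)) ∧
    (f * z1 = z1 * f) ∧ (∀ g : G, f * (z1 * g) = z1 * (f * g)) ∧
    (f * z2 = z2 * f) ∧ (∀ g : G, f * (z2 * g) = z2 * (f * g)) ∧
    (f * x0 = z1 * (x0 * f)) ∧ (∀ g : G, f * (x0 * g) = z1 * (x0 * (f * g))) ∧
    (f * x1 = z2 * (x1 * f)) ∧ (∀ g : G, f * (x1 * g) = z2 * (x1 * (f * g))) ∧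
    (f * x2 = z * (x2 * f)) ∧ (∀ g : G, f * (x2 * g) = z * (x2 * (f * g))) ∧
    (f * f = 1) ∧ (∀ g : G, f * (f * g) = g) ∧ (f⁻¹ = f) := by
  have e : ∀ {a b c : G}, a * b = c * a → ∀ g : G, a * (b * g) = c * (a * g) := by
    intro a b c e g
    rw [← mul_assoc, e, mul_assoc]
  have e' : ∀ {a b c : G}, a * b = c * (b * a) → ∀ g : G, a * (b * g) = c * (b * (a * g)) := by
    intro a b c e g
    rw [← mul_assoc, e, mul_assoc, mul_assoc]
  have e0 := h.z_comm f (qq_le _ _ hf)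
  have e1 := h.qq_comm1 hf
  have e2 := h.qq_comm2 hf
  have e3 : f * x1 = z2 * (x1 * f) := by
    have h1 : y * (f * x0) * y⁻¹ = y * (z1 * (x0 * f)) * y⁻¹ := by rw [hfx]
    rwa [cmul, cmul, cmul, hyf, h.yx0, h.yz1] at h1
  have e4 : f * x2 = z * (x2 * f) := by
    have h1 : y * (f * x1) * y⁻¹ = y * (z2 * (x1 * f)) * y⁻¹ := by rw [e3]
    rwa [cmul, cmul, cmul, hyf, h.yx1, h.yz2] at h1
  refine ⟨e0, e e0, e1, e e1, e2, e e2, hfx, e' hfx, e3, e' e3, e4, e' e4, hf2, ?_, inv_eq_self hf2⟩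
  intro g
  rw [← mul_assoc, hf2, one_mul]

theorem W_shift' (h : Nf S z z1 z2 x0 x1 x2 y) : W (shift h) ≤ W h :=
  W_le_of (shift h) (V_le_W h (z_V h)) (V_le_W h (z1_V h))
    ((W h).mul_mem (x0_W h) (V_le_W h (z1_V h))) ((W h).mul_mem (x1_W h) (V_le_W h (z2_V h)))
    ((W h).mul_mem (x2_W h) (V_le_W h (z_V h)))

theorem mk128 [Finite G] (h : Nf S z z1 z2 x0 x1 x2 y) {P1 : Subgroup G} (hSP : S ≤ P1)
    (hyP : y ∈ P1) (cov : ∀ g ∈ P1, g ∈ S ∨ y⁻¹ * g ∈ S ∨ y * g ∈ S) (ht : t ∈ S)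
    (htq : t ∉ qq S y) (hty : y * t * y = t) (ht2 : t * t = 1) (htx : t * x0 = x0 * t)
    (hf : f ∈ qq S y) (hyf : y * f * y⁻¹ = f) (hf2 : f * f = 1) (hfx : f * x0 = z1 * (x0 * f))
    (hfW : f ∉ W h) (hfi : ∀ q ∈ qq S y, q ∈ W h ∨ f⁻¹ * q ∈ W h)
    (htf : t * f * t⁻¹ = f * (x0 * (x1 * (x2 * z1)))) :
    Conf128 S P1 (x2 * x0) (x0 * x1) (x0 * (x1 * (x2 * z1))) f
      (t * (x0 * (x1 * (x2 * z1)))) y := by
  have R := h.rules
  have T := trules h ht htq hty ht2 htx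
  have Y := yrules h
  have F := frules h hf hyf hf2 hfx
  have TF : (t * f = f * (x0 * (x1 * (x2 * (z1 * t))))) ∧
      ∀ g : G, t * (f * g) = f * (x0 * (x1 * (x2 * (z1 * (t * g))))) := by
    have h1 : t * f = f * (x0 * (x1 * (x2 * (z1 * t)))) := by
      rw [mul_inv_eq_iff_eq_mul] at htf
      rw [htf]
      simp only [mul_assoc]
    refine ⟨h1, fun g => ?_⟩
    rw [← mul_assoc, h1]
    simp only [mul_assoc]
  have YF : (y * f = f * y) ∧ ∀ g : G, y * (f * g) = f * (y * g) := by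
    have h1 : y * f = f * y := by rw [mul_inv_eq_iff_eq_mul] at hyf; exact hyf
    refine ⟨h1, fun g => ?_⟩
    rw [← mul_assoc, h1, mul_assoc]
  have hfS : f ∈ S := qq_le _ _ hf
  have hcq : Nat.card (qq S y) = 2 * Nat.card (W h) := by
    refine card_eq_two_mul (W_le h) hf hfW ?_
    intro b hb
    rcases hfi b hb with h1 | h1
    · exact Or.inl h1
    · right
      have h2 := W_S h hfS h1
      have e : f * (f⁻¹ * b) * f⁻¹ = b * f := by rw [mul_inv_cancel_left, inv_eq_self hf2]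
      rwa [e] at h2
  have haS : x2 * x0 ∈ S := S.mul_mem h.x2_mem h.x0_mem
  have hbS : x0 * x1 ∈ S := S.mul_mem h.x0_mem h.x1_mem
  have hσS : x0 * (x1 * (x2 * z1)) ∈ S := qq_le _ _ (σ_qq h)
  have hσ2 := σ_sq h
  have hS : S = Subgroup.closure {x2 * x0, x0 * x1, x0 * (x1 * (x2 * z1)), f,
      t * (x0 * (x1 * (x2 * z1)))} := by
    have hσ : x0 * (x1 * (x2 * z1)) ∈ Subgroup.closure {x2 * x0, x0 * x1, x0 * (x1 * (x2 * z1)), f,
      t * (x0 * (x1 * (x2 * z1)))} := Subgroup.subset_closure (by simp only [_root_.Set.mem_insert_iff, _root_.mul_right_inj, _root_.mul_eq_left, _root_.Set.mem_singleton_iff, _root_.right_eq_mul, _root_.true_or, _root_.or_true])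
    have hfc : f ∈ Subgroup.closure {x2 * x0, x0 * x1, x0 * (x1 * (x2 * z1)), f,
      t * (x0 * (x1 * (x2 * z1)))} := Subgroup.subset_closure (by simp only [_root_.Set.mem_insert_iff, _root_.Set.mem_singleton_iff, _root_.true_or, _root_.or_true])
    refine eqS_aux (y := y) (t := t) ?_ ?_ h.hy ht htq ?_
    · rintro g (rfl | rfl | rfl | rfl | rfl)
      exacts [haS, hbS, hσS, hfS, S.mul_mem ht hσS]
    · have hW := W_le_of_ab h (H := Subgroup.closure {x2 * x0, x0 * x1, x0 * (x1 * (x2 * z1)), f,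
        t * (x0 * (x1 * (x2 * z1)))}) (Subgroup.subset_closure (by simp only [_root_.Set.mem_insert_iff, _root_.Set.mem_singleton_iff, _root_.true_or]))
        (Subgroup.subset_closure (by simp only [_root_.Set.mem_insert_iff, _root_.mul_right_inj, _root_.left_eq_mul, _root_.Set.mem_singleton_iff, _root_.true_or, _root_.or_true])) hσ
      intro q hq
      rcases hfi q hq with h1 | h1
      · exact hW h1
      · have h2 := Subgroup.mul_mem _ hfc (hW h1)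
        rwa [mul_inv_cancel_left] at h2
    · have h1 : t * (x0 * (x1 * (x2 * z1))) ∈ Subgroup.closure {x2 * x0, x0 * x1,
        x0 * (x1 * (x2 * z1)), f, t * (x0 * (x1 * (x2 * z1)))} := Subgroup.subset_closure (by simp only [_root_.Set.mem_insert_iff, _root_.mul_eq_right, _root_.Set.mem_singleton_iff, _root_.or_true])
      have h2 := Subgroup.mul_mem _ h1 hσ
      rwa [mul_assoc, hσ2, mul_one] at h2
  refine
    { card := ?_
      eqS := hS
      eqP := ?_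
      ab := ?_
      a4 := ?_
      b4 := ?_
      u2 := ?_
      s2 := ?_
      f2 := ?_
      x3 := ?_
      ua := ?_
      ub := ?_
      fa := ?_
      fb := ?_
      sa := ?_
      sb := ?_
      su := ?_
      fu := ?_
      sf := ?_
      xa := ?_
      xb := ?_
      xu := ?_
      xf := ?_
      sx := ?_ }
  · rw [card_S h ⟨t, ht, htq⟩, hcq, card_W h]
  · refine eqP_aux cov ?_ ?_ (Subgroup.subset_closure (by simp only [_root_.Set.mem_insert_iff, _root_.Set.mem_singleton_iff, _root_.or_true]))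
    · rintro g (rfl | rfl | rfl | rfl | rfl | rfl)
      exacts [hSP haS, hSP hbS, hSP hσS, hSP hfS, hSP (S.mul_mem ht hσS), hyP]
    · conv_lhs => rw [hS]
      apply Subgroup.closure_mono
      intro g hg
      simp only [Set.mem_insert_iff, Set.mem_singleton_iff] at hg ⊢
      (clear * - hg; tauto)
  · simp only [mul_assoc, R]
  · simp only [pow_succ, pow_zero, one_mul, mul_assoc, R]
  · simp only [pow_succ, pow_zero, one_mul, mul_assoc, R]
  · rw [pow_two]; exact hσ2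
  · simp only [pow_succ, pow_zero, one_mul, mul_assoc, R, T]
  · rw [pow_two]; exact hf2
  · rw [pow_succ, pow_two]; exact h.hy.cube
  · rw [mul_inv_eq_iff_eq_mul]
    simp only [mul_assoc, mul_inv_rev, R]
  · rw [mul_inv_eq_iff_eq_mul]
    simp only [mul_assoc, mul_inv_rev, R]
  · rw [mul_inv_eq_iff_eq_mul]
    simp only [pow_two, mul_assoc, one_mul, R, F]
  · rw [mul_inv_eq_iff_eq_mul]
    simp only [pow_two, mul_assoc, mul_inv_rev, one_mul, R, F]
  · rw [mul_inv_eq_iff_eq_mul]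
    simp only [mul_assoc, R, T]
  · rw [mul_inv_eq_iff_eq_mul]
    simp only [mul_assoc, R, T]
  · simp only [mul_assoc, R, T]
  · simp only [mul_assoc, R, F]
  · rw [mul_inv_eq_iff_eq_mul]
    simp only [mul_assoc, R, F, T, TF]
  · rw [mul_inv_eq_iff_eq_mul]
    simp only [mul_assoc, Y]
  · rw [mul_inv_eq_iff_eq_mul]
    simp only [mul_assoc, mul_inv_rev, R, Y]
  · simp only [mul_assoc, R, Y]
  · exact YF.1
  · have hyσ : y * (x0 * (x1 * (x2 * z1))) = (x0 * (x1 * (x2 * z1))) * y := by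
      simp only [mul_assoc, R, Y]
    obtain ⟨σ, hσ⟩ : ∃ σ, σ = x0 * (x1 * (x2 * z1)) := ⟨_, rfl⟩
    rw [← hσ] at hyσ ⊢
    rw [mul_inv_eq_iff_eq_mul]
    have e1 := t_y hty
    calc t * σ * y = t * (σ * y) := by group
      _ = (t * y) * σ := by rw [← hyσ]; group
      _ = y⁻¹ * (t * σ) := by rw [e1]; group

/-- The case `C_{Q₁}(W) = V`, `|Q₁ : W| = 2`. -/
theorem conf128 [Finite G] (h : Nf S z z1 z2 x0 x1 x2 y) {P1 : Subgroup G} (hSP : S ≤ P1)
    (hyP : y ∈ P1) (cov : ∀ g ∈ P1, g ∈ S ∨ y⁻¹ * g ∈ S ∨ y * g ∈ S)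
    (hns : ∃ t ∈ S, t ∉ qq S y)
    (hK : ∀ q ∈ qq S y, q * x0 = x0 * q → q * x1 = x1 * q → q ∈ V h)
    (hc : ∃ c ∈ qq S y, c ∉ W h ∧ ∀ q ∈ qq S y, q ∈ W h ∨ c⁻¹ * q ∈ W h) :
    ∃ a b u f s x, Conf128 S P1 a b u f s x := by
  obtain ⟨σ, hσ⟩ : ∃ σ, σ = x0 * (x1 * (x2 * z1)) := ⟨_, rfl⟩
  have σW : σ ∈ W h := hσ ▸ σ_W h
  have σq : σ ∈ qq S y := hσ ▸ σ_qq h
  have σ2 : σ * σ = 1 := hσ ▸ σ_sq h
  have yσ : y * σ * y⁻¹ = σ := hσ ▸ y_σ h
  have σne : σ ≠ 1 := by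
    intro h1
    apply σ_not_V h
    rw [← hσ, h1]
    exact (V h).one_mem
  have σ0 : σ * x0 * σ⁻¹ * x0⁻¹ = z := hσ ▸ pσ0 h
  have fixW : ∀ g ∈ W h, y * g * y⁻¹ = g → g = 1 ∨ g = σ := fun g hg hy => hσ ▸ fix_W h hg hy
  obtain ⟨c, hc, hcW, hci⟩ := hc
  -- two elements outside `W`
  have hind : ∀ g ∈ qq S y, ∀ g' ∈ qq S y, g ∉ W h → g' ∉ W h → g⁻¹ * g' ∈ W h := by
    intro g hg g' hg' h1 h2
    have h3 := (hci g hg).resolve_left h1
    have h4 := (hci g' hg').resolve_left h2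
    have h5 := (W h).mul_mem ((W h).inv_mem h3) h4
    have e : (c⁻¹ * g)⁻¹ * (c⁻¹ * g') = g⁻¹ * g' := by group
    rwa [e] at h5
  -- centraliser of `x0` among the fixed points of `y`
  have hfixV : ∀ g ∈ qq S y, y * g * y⁻¹ = g → g * x0 * g⁻¹ * x0⁻¹ = 1 → g ∈ V h := by
    intro g hg hyg h1
    have h2 := comm_of_phi h1
    exact hK g hg h2 (conj_comm hyg h.yx0 h2)
  have hsq : ∀ g ∈ qq S y, y * g * y⁻¹ = g → g * g = 1 := by
    intro g hg hyg
    have h1 := phi_mul h (comm_x0 h (qq_le _ _ hg)) hg rfl rfl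
    rw [V_sq h _ (comm_x0 h (qq_le _ _ hg))] at h1
    have h2 : y * (g * g) * y⁻¹ = g * g := by rw [cmul, hyg]
    exact fix_V h (hfixV _ ((qq S y).mul_mem hg hg) h2 h1) h2
  -- the element `f`
  obtain ⟨f0, hf0, hf0W, hyf0⟩ := exists_fixed_coset (h.two.to_le ((W_le h).trans (qq_le S y)))
    (W_le h) hc hcW hci (fun g => y * g * y⁻¹) (by
      intro b hb hbW
      refine ⟨h.hy.conj hb, fun h1 => hbW ?_⟩
      have h2 := W_y h (W_y h h1)
      have e : y * (y * (y * b * y⁻¹) * y⁻¹) * y⁻¹ = (y * y * y) * b * (y * y * y)⁻¹ := by group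
      rwa [e, h.hy.cube, one_mul, inv_one, mul_one] at h2) (by
      intro b hb hbW
      show y * (y * (y * b * y⁻¹) * y⁻¹) * y⁻¹ = b
      have e : y * (y * (y * b * y⁻¹) * y⁻¹) * y⁻¹ = (y * y * y) * b * (y * y * y)⁻¹ := by group
      rw [e, h.hy.cube, one_mul, inv_one, mul_one])
  replace hyf0 : y * f0 * y⁻¹ = f0 := hyf0
  obtain ⟨f, hf, hfW, hyf, hf0⟩ : ∃ f ∈ qq S y, f ∉ W h ∧ y * f * y⁻¹ = f ∧
      f * x0 * f⁻¹ * x0⁻¹ = z1 := by
    have hv := comm_x0 h (qq_le _ _ hf0)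
    rcases hv with h1 | h1 | h1 | h1
    · exact absurd (V_le_W h (hfixV f0 hf0 hyf0 h1)) hf0W
    · exfalso
      have h2 := phi_mul h (z_V h) σq σ0 h1
      rw [h.z_sq] at h2
      have h3 := hfixV _ ((qq S y).mul_mem σq hf0) (by rw [cmul, yσ, hyf0]) h2
      have h4 := (W h).mul_mem ((W h).inv_mem σW) (V_le_W h h3)
      rw [inv_mul_cancel_left] at h4
      exact hf0W h4
    · exact ⟨f0, hf0, hf0W, hyf0, h1⟩
    · have h2 := phi_mul h (z_V h) hf0 h1 σ0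
      rw [h.zz2] at h2
      refine ⟨f0 * σ, (qq S y).mul_mem hf0 σq, ?_, by rw [cmul, yσ, hyf0], h2⟩
      intro h3
      have h4 := (W h).mul_mem h3 ((W h).inv_mem σW)
      rw [mul_inv_cancel_right] at h4
      exact hf0W h4
  have hf2 := hsq f hf hyf
  have hfx : f * x0 = z1 * (x0 * f) := by
    rw [← hf0]; group
  have hfy : f * y = y * f := by
    calc f * y = (y * f * y⁻¹) * y := by rw [hyf]
      _ = y * f := by group
  -- the element `t`
  have key : ∀ t ∈ S, t ∉ qq S y → y * t * y = t →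
      t * f * t⁻¹ = f * σ ∧ (t * t = 1 ∨ t * t = σ) := by
    intro t ht htq hty
    have hconj : ∀ g, y * g * y⁻¹ = g → y * (t * g * t⁻¹) * y⁻¹ = t * g * t⁻¹ := by
      intro g hg
      have e1 := t_yinv hty
      have e2 : y⁻¹ * g * y = g := conj_inv hg
      calc y * (t * g * t⁻¹) * y⁻¹ = (y * t) * g * (y * t)⁻¹ := by group
        _ = t * (y⁻¹ * g * y) * t⁻¹ := by rw [← e1]; group
        _ = t * g * t⁻¹ := by rw [e2]
    have hgq : t * f * t⁻¹ ∈ qq S y := h.hy.norm ht hf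
    have hgW : t * f * t⁻¹ ∉ W h := by
      intro h1
      have h2 := W_S h (S.inv_mem ht) h1
      have e : t⁻¹ * (t * f * t⁻¹) * t⁻¹⁻¹ = f := by group
      rw [e] at h2
      exact hfW h2
    have hne : t * f * t⁻¹ ≠ f := by
      intro h1
      obtain ⟨v, hv⟩ : ∃ v, v = t⁻¹ * x0 * t⁻¹⁻¹ * x0⁻¹ := ⟨_, rfl⟩
      have hvV : v ∈ V h := hv ▸ comm_x0 h (S.inv_mem ht)
      have e1 : t⁻¹ * x0 * t = v * x0 := by rw [hv]; group
      have e2 : t * z1 * t⁻¹ = z1 := by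
        have h3 := qq_comm_V h hf v hvV
        calc t * z1 * t⁻¹ = t * (v * (f * x0 * f⁻¹ * x0⁻¹)) * v⁻¹ * t⁻¹ := by
              rw [hf0, ← qq_comm_V h (V_le h (z1_V h)) v hvV]; group
          _ = t * ((v * f) * x0 * f⁻¹ * (v * x0)⁻¹) * t⁻¹ := by group
          _ = t * (f * (v * x0) * f⁻¹ * (v * x0)⁻¹) * t⁻¹ := by rw [← h3]; group
          _ = t * (f * (t⁻¹ * x0 * t) * f⁻¹ * (t⁻¹ * x0 * t)⁻¹) * t⁻¹ := by rw [e1]
          _ = (t * f * t⁻¹) * x0 * (t * f * t⁻¹)⁻¹ * x0⁻¹ := by group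
          _ = z1 := by rw [h1, hf0]
      rw [h.swap1 ht htq, mul_inv_cancel_right] at e2
      exact h.z1_ne_z2 e2.symm
    have hffi : f⁻¹ = f := inv_eq_self hf2
    have hg1 : t * f * t⁻¹ = f * σ := by
      have h1 := hind f hf _ hgq hfW hgW
      rw [hffi] at h1
      rcases fixW _ h1 (by rw [cmul, hyf, hconj f hyf]) with h2 | h2
      · exfalso
        apply hne
        rw [eq_inv_of_mul_eq_one_right h2, hffi]
      · rw [← h2, ← mul_assoc, hf2, one_mul]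
    have htσ : t * σ * t⁻¹ = σ := by
      rcases fixW _ (W_S h ht σW) (hconj σ yσ) with h1 | h1
      · exfalso
        apply σne
        calc σ = t⁻¹ * (t * σ * t⁻¹) * t := by group
          _ = 1 := by rw [h1]; group
      · exact h1
    refine ⟨hg1, ?_⟩
    have httq := h.hy.mul_not_qq ht ht htq htq
    have htty := tt_fix hty
    have e0 : t * (t * t) * t⁻¹ = t * t := by group
    by_cases httW : t * t ∈ W h
    · exact fixW _ httW htty
    · exfalso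
      have h1 := hind f hf _ httq hfW httW
      rw [hffi] at h1
      rcases fixW _ h1 (by rw [cmul, hyf, htty]) with h2 | h2
      · have h3 : t * t = f := by rw [eq_inv_of_mul_eq_one_right h2, hffi]
        rw [h3] at e0
        exact hne e0
      · have h3 : t * t = f * σ := by rw [← h2, ← mul_assoc, hf2, one_mul]
        rw [h3, cmul, hg1, htσ, mul_assoc, σ2, mul_one] at e0
        apply σne
        have h4 : f * σ = f * 1 := by rw [mul_one]; exact e0.symm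
        exact mul_left_cancel h4
  obtain ⟨t, ht, htq, hty, ht2⟩ : ∃ t ∈ S, t ∉ qq S y ∧ y * t * y = t ∧ t * t = 1 := by
    obtain ⟨t, ht, htq, hty⟩ := exists_t h hns
    obtain ⟨h1, h2⟩ := key t ht htq hty
    rcases h2 with h2 | h2
    · exact ⟨t, ht, htq, hty, h2⟩
    · refine ⟨t * f, S.mul_mem ht (qq_le _ _ hf), ?_, ?_, ?_⟩
      · intro h3
        have h4 := (qq S y).mul_mem h3 ((qq S y).inv_mem hf)
        rw [mul_inv_cancel_right] at h4
        exact htq h4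
      · calc y * (t * f) * y = y * t * (f * y) := by group
          _ = (y * t * y) * f := by rw [hfy]; group
          _ = t * f := by rw [hty]
      · calc t * f * (t * f) = (t * f * t⁻¹) * (t * t) * f := by group
          _ = 1 := by rw [h1, h2, mul_assoc f σ, σ2, mul_one, hf2]
  obtain ⟨htf, -⟩ := key t ht htq hty
  rw [hσ] at htf
  have hfi : ∀ q ∈ qq S y, q ∈ W h ∨ f⁻¹ * q ∈ W h := by
    intro q hq
    by_cases hqW : q ∈ W h
    · exact Or.inl hqW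
    · exact Or.inr (hind f hf q hq hfW hqW)
  rcases t_x0 h ht htq ht2 with h1 | h1
  · exact ⟨_, _, _, _, _, _, mk128 h hSP hyP cov ht htq hty ht2 h1 hf hyf hf2 hfx hfW hfi htf⟩
  · refine ⟨_, _, _, _, _, _, mk128 (shift h) hSP hyP cov ht htq hty ht2 h1 hf hyf hf2 ?_ ?_ ?_ ?_⟩
    · rw [← mul_assoc, hfx]
      have h2 := h.qq_comm1 hf
      calc z1 * (x0 * f) * z1 = z1 * x0 * (f * z1) := by group
        _ = _ := by rw [h2]; group
    · intro h2
      exact hfW (W_shift' h h2)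
    · intro q hq
      rcases hfi q hq with h2 | h2
      · exact Or.inl (W_shift h h2)
      · exact Or.inr (W_shift h h2)
    · rw [σ_shift h]
      exact htf

end Cfsg.Agent.SectRankFour.C2.BThreeJ
end

-- part: SectRankFour/C2/BThreeK
section
/-!
# The case `b ≥ 3`: the abstract theorem

`Data.conf`: `Data S z z1 z2 v1 v2 y w` and `P₁ = S ∪ yS ∪ y⁻¹S` imply `Conf64` or `Conf128`.
-/

set_option autoImplicit false

namespace Cfsg.Agent.SectRankFour.C2.BThreeK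

open Cfsg.Agent.SectRankFour.C2.BThreeA Cfsg.Agent.SectRankFour.C2.BThreeC
  Cfsg.Agent.SectRankFour.C2.BThreeD
  Cfsg.Agent.SectRankFour.C2.BThreeE Cfsg.Agent.SectRankFour.C2.BThreeF
  Cfsg.Agent.SectRankFour.C2.Defs

open Cfsg.Agent.SectRankFour.C2.BThreeB (Data cmul cmul' conj_inv inv_eq_self)
open Cfsg.Agent.SectRankFour.C2.BThreeG (Nf)

variable {G : Type*} [Group G] {S : Subgroup G} {z z1 z2 v1 v2 y w : G}
  {h : Data S z z1 z2 v1 v2 y w} {x0 x1 x2 : G}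

theorem nf [Finite G] (X : Xd h x0 x1 x2) : Nf S z z1 z2 x0 x1 x2 y where
  two := h.two
  hy := h.hy
  z_sq := h.z_sq
  z_ne := h.z_ne
  ne := h.ne
  zz1 := h.zz1
  yz := h.yz
  yz1 := h.yz1
  yz2 := h.yz2
  z_qq := h.A_qq h.z_A
  z_comm := h.z_comm
  x0_qq := X.x0q
  x0_sq := X.x0_sq
  yx0 := X.e1
  yx1 := X.e2
  yx2 := X.e3
  x1x0 := X.x1x0
  comm_x0 := fun _ hs => X.comm_x0 hs

theorem V_le_V [Finite G] (X : Xd h x0 x1 x2) : h.V ≤ BThreeH.V (nf X) := fun _ hv => hv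

theorem A_le_W [Finite G] (X : Xd h x0 x1 x2) : h.A ≤ BThreeH.W (nf X) := by
  intro a ha
  rcases X.AV a ha with h1 | h1
  · exact BThreeH.V_le_W _ (V_le_V X h1)
  · have h2 := (BThreeH.W (nf X)).mul_mem (BThreeH.x0_W (nf X)) (BThreeH.V_le_W _ (V_le_V X h1))
    rwa [← mul_assoc, X.x0_sq, one_mul] at h2

theorem WW_le_W [Finite G] (X : Xd h x0 x1 x2) : WW h ≤ BThreeH.W (nf X) := by
  have hN := nf X
  have b1 : ∀ {x g : G}, x ∈ BThreeH.W hN → x * g ∈ BThreeH.W hN → g ∈ BThreeH.W hN := by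
    intro x g hx hg
    have h2 := (BThreeH.W hN).mul_mem ((BThreeH.W hN).inv_mem hx) hg
    rwa [inv_mul_cancel_left] at h2
  intro g hg
  rcases WW_dec X hg with h1 | h1 | h1 | h1
  · exact A_le_W X h1
  · exact b1 (BThreeH.x1_W hN) (A_le_W X h1)
  · exact b1 (BThreeH.x2_W hN) (A_le_W X h1)
  · exact b1 (BThreeH.x2_W hN) (b1 (BThreeH.x1_W hN) (A_le_W X h1))

theorem W_le_WW [Finite G] (X : Xd h x0 x1 x2) : BThreeH.W (nf X) ≤ WW h :=
  BThreeH.W_le_of (nf X) (A_le_WW h h.z_A) (A_le_WW h h.z1_A) (A_le_WW h X.x0A) (A1_le_WW h X.x1A)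
    (A2_le_WW h X.x2A)

/-- In case I every element of `Q₂` has square in `Z`. -/
theorem sq_qqw [Finite G] (X : Xd h v1 x1 x2) (hCA : ∀ q ∈ cq S y v1, q ∈ h.A) :
    ∀ q ∈ qq S w, q * q = 1 ∨ q * q = z := by
  obtain ⟨g, hg⟩ : ∃ g, g = x1 * x2 := ⟨_, rfl⟩
  have hgw : g ∈ qq S w := hg ▸ h.hw.mul_not_qq X.x1S X.x2S X.x1_not X.x2_not
  have hgq : g ∈ qq S y := hg ▸ (qq S y).mul_mem X.x1q X.x2q
  have hg2 : g * g = z := by
    rw [hg]
    calc x1 * x2 * (x1 * x2) = x1 * (x2 * x1) * x2 := by group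
      _ = x1 * (z * (x1 * x2)) * x2 := by rw [X.x2x1]
      _ = (x1 * z) * x1 * (x2 * x2) := by group
      _ = z * (x1 * x1) := by rw [h.z_comm x1 X.x1S, X.x2_sq]; group
      _ = z := by rw [X.x1_sq, mul_one]
  have hgz1 : g * z1 * g⁻¹ * z1⁻¹ = 1 := by rw [h.qq_comm1 hgq]; group
  have hgv1 : g * v1 * g⁻¹ * v1⁻¹ = z := by
    have h1 := Xd.phi_mul h h.z1_V X.x1q X.phi_x1x0 X.phi_x2x0
    rw [h.z1z2] at h1
    rw [hg]; exact h1
  have hv12 : v1 * v2 ∈ h.V := (X.AV v2 h.v2_A).resolve_left h.v2_not_V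
  have hgv2 : g * v2 * g⁻¹ * v2⁻¹ = z := by
    obtain ⟨v, hv⟩ : ∃ v, v = v1 * v2 := ⟨_, rfl⟩
    rw [← hv] at hv12
    have e : v2 = v1 * v := by rw [hv, ← mul_assoc, h.v1_sq, one_mul]
    have e2 := h.qq_comm_V hgq v hv12
    rw [e]
    calc g * (v1 * v) * g⁻¹ * (v1 * v)⁻¹ = g * v1 * (v * g⁻¹) * v⁻¹ * v1⁻¹ := by group
      _ = g * v1 * (g⁻¹ * (g * v) * g⁻¹) * v⁻¹ * v1⁻¹ := by group
      _ = g * v1 * (g⁻¹ * (v * g) * g⁻¹) * v⁻¹ * v1⁻¹ := by rw [e2]
      _ = g * v1 * g⁻¹ * v1⁻¹ := by group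
      _ = z := hgv1
  have hZc : ∀ {q : G}, q ∈ qq S w → ∀ {a : G}, a ∈ h.A →
      q * a * q⁻¹ * a⁻¹ = 1 ∨ q * a * q⁻¹ * a⁻¹ = z := fun hq _ ha => h.qqw_comm_A hq ha
  -- the conjugates of `g`
  obtain ⟨g1, hg1⟩ : ∃ g1, g1 = w * g * w⁻¹ := ⟨_, rfl⟩
  obtain ⟨g2, hg2'⟩ : ∃ g2, g2 = w⁻¹ * g * w := ⟨_, rfl⟩
  have hg1w : g1 ∈ qq S w := hg1 ▸ h.hw.conj hgw
  have hg2w : g2 ∈ qq S w := hg2' ▸ h.hw.conj' hgw
  have hg1s : g1 * g1 = z := by rw [hg1, ← cmul, hg2, h.wz]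
  have hg2s : g2 * g2 = z := by rw [hg2', ← cmul', hg2, h.winv_z]
  have a1 : g1 * z1 * g1⁻¹ * z1⁻¹ = z := by
    have e : g1 * z1 * g1⁻¹ * z1⁻¹ = w * (g * (w⁻¹ * z1 * w) * g⁻¹ * (w⁻¹ * z1 * w)⁻¹) * w⁻¹ := by
      rw [hg1]; group
    rw [e, h.winv_z1, hgv2, h.wz]
  have a2 : g1 * v1 * g1⁻¹ * v1⁻¹ = 1 := by
    have e : g1 * v1 * g1⁻¹ * v1⁻¹ = w * (g * (w⁻¹ * v1 * w) * g⁻¹ * (w⁻¹ * v1 * w)⁻¹) * w⁻¹ := by
      rw [hg1]; group
    rw [e, conj_inv h.wz1, hgz1]; group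
  have b1 : g2 * z1 * g2⁻¹ * z1⁻¹ = z := by
    have e : g2 * z1 * g2⁻¹ * z1⁻¹ = w⁻¹ * (g * (w * z1 * w⁻¹) * g⁻¹ * (w * z1 * w⁻¹)⁻¹) * w := by
      rw [hg2']; group
    rw [e, h.wz1, hgv1, h.winv_z]
  have b2 : g2 * v1 * g2⁻¹ * v1⁻¹ = z := by
    have e : g2 * v1 * g2⁻¹ * v1⁻¹ = w⁻¹ * (g * (w * v1 * w⁻¹) * g⁻¹ * (w * v1 * w⁻¹)⁻¹) * w := by
      rw [hg2']; group
    rw [e, h.wv1, hgv2, h.winv_z]
  -- multiplicativity
  have hmul : ∀ {p q a : G}, p ∈ S → (q * a * q⁻¹ * a⁻¹ = 1 ∨ q * a * q⁻¹ * a⁻¹ = z) →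
      p * a * p⁻¹ * a⁻¹ = q * a * q⁻¹ * a⁻¹ → p * q * a = a * (p * q) := by
    intro p q a hp hqa hpq
    obtain ⟨ζ, hζ⟩ : ∃ ζ, ζ = q * a * q⁻¹ * a⁻¹ := ⟨_, rfl⟩
    rw [← hζ] at hqa hpq
    have e1 : p * ζ = ζ * p := by
      rcases hqa with h1 | h1 <;> rw [h1]
      · simp
      · exact h.z_comm p hp
    have e2 : ζ * ζ = 1 := by
      rcases hqa with h1 | h1 <;> rw [h1]
      · simp
      · exact h.z_sq
    calc p * q * a = (p * (q * a * q⁻¹ * a⁻¹)) * a * q := by group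
      _ = ζ * (p * a * p⁻¹ * a⁻¹) * a * p * q := by rw [← hζ, e1]; group
      _ = a * (p * q) := by rw [hpq, e2]; group
  have hfin : ∀ {p q : G}, p ∈ qq S w → q ∈ qq S w → (p * p = 1 ∨ p * p = z) →
      p * z1 * p⁻¹ * z1⁻¹ = q * z1 * q⁻¹ * z1⁻¹ → p * v1 * p⁻¹ * v1⁻¹ = q * v1 * q⁻¹ * v1⁻¹ →
      q * q = 1 ∨ q * q = z := by
    intro p q hp hq hp2 e1 e2
    have hpS := qq_le _ _ hp
    have hqS := qq_le _ _ hq
    have c1 := hmul hpS (hZc hq h.z1_A) e1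
    have c2 := hmul hpS (hZc hq h.v1_A) e2
    have hA : p * q ∈ h.A := hCA _ ⟨h.qq_of_comm (S.mul_mem hpS hqS) c1, c2⟩
    obtain ⟨a, ha⟩ : ∃ a, a = p * q := ⟨_, rfl⟩
    rw [← ha] at hA
    have e3 : q = p⁻¹ * a := by rw [ha]; group
    have e4 := hZc ((qq S w).inv_mem hp) hA
    obtain ⟨ζ, hζ⟩ : ∃ ζ, ζ = p⁻¹ * a * p⁻¹⁻¹ * a⁻¹ := ⟨_, rfl⟩
    rw [← hζ] at e4
    have e5 : q * q = ζ * (a * (p * p)⁻¹ * a) := by rw [e3, hζ]; group
    have e6 : a * (p * p)⁻¹ * a = (p * p)⁻¹ := by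
      have e7 := h.A_sq a hA
      rcases hp2 with h1 | h1 <;> rw [h1]
      · rw [inv_one, mul_one, e7]
      · rw [inv_eq_self h.z_sq, h.z_comm a (h.A_le hA), mul_assoc, e7, mul_one]
    rw [e5, e6]
    rcases hp2 with h1 | h1 <;> rcases e4 with h2 | h2 <;> rw [h1, h2]
    · left; simp
    · right; simp
    · right; rw [one_mul]; exact inv_eq_self h.z_sq
    · left; rw [inv_eq_self h.z_sq]; exact h.z_sq
  intro q hq
  rcases hZc hq h.z1_A with e1 | e1 <;> rcases hZc hq h.v1_A with e2 | e2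
  · exact hfin (p := 1) (qq S w).one_mem hq (Or.inl (mul_one 1)) (by rw [e1]; group)
      (by rw [e2]; group)
  · exact hfin hgw hq (Or.inr hg2) (by rw [hgz1, e1]) (by rw [hgv1, e2])
  · exact hfin hg1w hq (Or.inr hg1s) (by rw [a1, e1]) (by rw [a2, e2])
  · exact hfin hg2w hq (Or.inr hg2s) (by rw [b1, e1]) (by rw [b2, e2])

/-- The abstract form of [R4-3]. -/
theorem conf [Finite G] (h : Data S z z1 z2 v1 v2 y w) {P1 : Subgroup G} (hSP : S ≤ P1)
    (hyP : y ∈ P1) (cov : ∀ g ∈ P1, g ∈ S ∨ y⁻¹ * g ∈ S ∨ y * g ∈ S) :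
    (∃ a b u s x, Conf64 S P1 a b u s x) ∨ (∃ a b u f s x, Conf128 S P1 a b u f s x) := by
  obtain ⟨x1, hx1⟩ : ∃ x1, y * v1 * y⁻¹ = x1 := ⟨_, rfl⟩
  obtain ⟨x2, hx2⟩ : ∃ x2, y * x1 * y⁻¹ = x2 := ⟨_, rfl⟩
  have X : Xd h v1 x1 x2 := ⟨h.v1_A, h.v1_not_V, hx1, hx2⟩
  have hN := nf X
  have hns := h.exists_not_qq
  by_cases hI : ∀ q ∈ cq S y v1, q ∈ cq S y x1 ∨ v1 * q ∈ cq S y x1
  · left
    have hCA := caseI X hI
    have hsq := sq_qqw X hCA
    refine BThreeI.conf64 hN hSP hyP cov hns ?_ ?_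
    · have b1 : ∀ {x g : G}, x ∈ BThreeH.W hN → x * g ∈ BThreeH.W hN → g ∈ BThreeH.W hN := by
        intro x g hx hg
        have h2 := (BThreeH.W hN).mul_mem ((BThreeH.W hN).inv_mem hx) hg
        rwa [inv_mul_cancel_left] at h2
      intro q hq
      rcases qq_dec X hq with h1 | h1 | h1 | h1
      · exact A_le_W X (hCA _ h1)
      · exact b1 (BThreeH.x1_W hN) (A_le_W X (hCA _ h1))
      · exact b1 (BThreeH.x2_W hN) (A_le_W X (hCA _ h1))
      · exact b1 (BThreeH.x2_W hN) (b1 (BThreeH.x1_W hN) (A_le_W X (hCA _ h1)))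
    · intro t ht htq _ htt
      have hZV : ∀ {g : G}, g = 1 ∨ g = z → g ∈ BThreeH.V hN := by
        rintro g (h1 | h1)
        · exact Or.inl h1
        · exact Or.inr (Or.inl h1)
      by_cases htw : t ∈ qq S w
      · have h1 := hZV (hsq t htw)
        rw [htt] at h1
        exact BThreeH.σ_not_V hN h1
      · have h1 := hZV (hsq _ (h.hw.mul_not_qq ht X.x1S htw X.x1_not))
        have h2 := BThreeH.swap_x1 hN ht htq
        obtain ⟨v, hv⟩ : ∃ v, v = t * x1 * t⁻¹ * x2⁻¹ := ⟨_, rfl⟩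
        rw [← hv] at h2
        have e1 : t * x1 * (t * x1) = v * (x2 * ((t * t) * x1)) := by
          rw [hv]; group
        rw [e1, htt] at h1
        have h3 := (BThreeH.V hN).mul_mem ((BThreeH.V hN).inv_mem h2) h1
        rw [inv_mul_cancel_left] at h3
        have e2 : x2 * (v1 * (x1 * (x2 * z1)) * x1) = z * v1 := by
          simp only [mul_assoc, hN.rules, mul_one]
        rw [e2] at h3
        have h4 := (BThreeH.V hN).mul_mem ((BThreeH.V hN).inv_mem (BThreeH.z_V hN)) h3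
        rw [inv_mul_cancel_left] at h4
        exact BThreeH.x0_not_V hN h4
  · right
    push Not at hI
    obtain ⟨hK, c, hc, hcW, -, hci⟩ := caseII X hI
    refine BThreeJ.conf128 hN hSP hyP cov hns ?_ ⟨c, hc.1, fun h1 => hcW (W_le_WW X h1), ?_⟩
    · intro q hq h1 h2
      exact hK q ⟨hq, h1⟩ ⟨hq, h2⟩
    · intro q hq
      rcases hci q hq with h1 | h1
      · exact Or.inl (WW_le_W X h1)
      · exact Or.inr (WW_le_W X h1)

end Cfsg.Agent.SectRankFour.C2.BThreeK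
end

-- part: SectRankFour/C2/BThree
section
/-!
# S0517, two maximal 2-locals, rank 4: the case `b ≥ 3`

`main`: `Pair S P1 P2`, `V = zl S P1 ≤ o2 P2` and `⟨V^{P2}⟩` abelian imply `Conf64` or `Conf128`.

* `cov_of_index`: if `|P : S| = 3` and `y ∈ P` has order 3 then `P = S ∪ yS ∪ y⁻¹S`.
-/

set_option autoImplicit false

namespace Cfsg.Agent.SectRankFour.C2.BThree

open Subgroup Cfsg Cfsg.Agent.ZN Cfsg.Agent.SectRankFour.C2.Defs
  Cfsg.Agent.SectRankFour.C2.BThreeA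
open Cfsg.Agent.MinSimple.VModule
open Cfsg.Agent.MinSimple.Basic (zc_ne_bot)
open Cfsg.Agent.SectRankFour.C2.ParFacts (le_normalizer_of o2_le_S)
open Cfsg.Agent.SectRankFour.C2.ActFour (exists_ne_one)

universe u

variable {G : Type u} [Group G] [Finite G] {S P P1 P2 R : Subgroup G}

/-- `P = S ∪ yS ∪ y⁻¹S`. -/
theorem cov_of_index (hSP : S ≤ P) (hidx : S.relIndex P = 3) {y : G} (hy : y ∈ P)
    (hyS : y ∉ S) (hy3 : y * y * y = 1) :
    ∀ g ∈ P, g ∈ S ∨ y⁻¹ * g ∈ S ∨ y * g ∈ S := by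
  intro g hg
  by_contra hcon
  push Not at hcon
  obtain ⟨h1, h2, h3⟩ := hcon
  have hyy := inv_mul_inv hy3
  let q : P → P ⧸ S.subgroupOf P := fun x => (x : P ⧸ S.subgroupOf P)
  have hq : ∀ a b : P, q a = q b ↔ (a : G)⁻¹ * b ∈ S := by
    intro a b
    refine QuotientGroup.eq.trans ?_
    rw [mem_subgroupOf]
    rfl
  have hcard : Nat.card (P ⧸ S.subgroupOf P) = 3 := hidx
  classical
  have hfin : Fintype (P ⧸ S.subgroupOf P) := Fintype.ofFinite _
  have hle := Finset.card_le_univ ({q 1, q ⟨y, hy⟩, q ⟨y⁻¹, inv_mem hy⟩, q ⟨g, hg⟩} :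
    Finset (P ⧸ S.subgroupOf P))
  rw [← Nat.card_eq_fintype_card, hcard, Finset.card_insert_of_notMem,
    Finset.card_insert_of_notMem, Finset.card_insert_of_notMem, Finset.card_singleton] at hle
  · exact absurd hle (by norm_num)
  · simp only [Finset.mem_singleton, hq]
    show ¬ y⁻¹⁻¹ * g ∈ S
    rw [inv_inv]; exact h3
  · simp only [Finset.mem_insert, Finset.mem_singleton, hq, not_or]
    refine ⟨?_, ?_⟩
    · show ¬ y⁻¹ * y⁻¹ ∈ S
      rw [hyy]; exact hyS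
    · show ¬ y⁻¹ * g ∈ S
      exact h2
  · simp only [Finset.mem_insert, Finset.mem_singleton, hq, not_or]
    refine ⟨?_, ?_, ?_⟩
    · show ¬ (1 : G)⁻¹ * y ∈ S
      rw [inv_one, one_mul]; exact hyS
    · show ¬ (1 : G)⁻¹ * y⁻¹ ∈ S
      rw [inv_one, one_mul]; exact fun h => hyS (by simpa using inv_mem h)
    · show ¬ (1 : G)⁻¹ * g ∈ S
      rw [inv_one, one_mul]; exact h1

omit [Finite G] in
theorem half_of_cov (hSP : S ≤ P) {y : G} (hy : y ∈ P) (hyS : y ∉ S) (hy3 : y * y * y = 1)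
    (cov : ∀ g ∈ P, g ∈ S ∨ y⁻¹ * g ∈ S ∨ y * g ∈ S) : Half S y where
  cube := hy3
  notmem := hyS
  dich := by
    intro s hs
    have hyi : y⁻¹ ∉ S := fun h => hyS (by simpa using inv_mem h)
    have c1 : y⁻¹ * s * y ∈ S ∨ y * s * y ∈ S := by
      rcases cov (s * y) (mul_mem (hSP hs) hy) with h1 | h1 | h1
      · exfalso
        have h2 := mul_mem (inv_mem hs) h1
        rw [inv_mul_cancel_left] at h2
        exact hyS h2
      · left; rwa [← mul_assoc] at h1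
      · right; rwa [← mul_assoc] at h1
    have c2 : y⁻¹ * s * y⁻¹ ∈ S ∨ y * s * y⁻¹ ∈ S := by
      rcases cov (s * y⁻¹) (mul_mem (hSP hs) (inv_mem hy)) with h1 | h1 | h1
      · exfalso
        have h2 := mul_mem (inv_mem hs) h1
        rw [inv_mul_cancel_left] at h2
        exact hyi h2
      · left; rwa [← mul_assoc] at h1
      · right; rwa [← mul_assoc] at h1
    have hyy : y * y ∉ S := by rw [sq_eq_inv hy3]; exact hyi
    rcases c1 with c1 | c1 <;> rcases c2 with c2 | c2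
    · exfalso
      have h1 := mul_mem (inv_mem c2) c1
      have e : (y⁻¹ * s * y⁻¹)⁻¹ * (y⁻¹ * s * y) = y * y := by group
      rw [e] at h1
      exact hyy h1
    · left; exact ⟨c1, c2⟩
    · right; exact ⟨c1, c2⟩
    · exfalso
      have h1 := mul_mem (inv_mem c2) c1
      have e : (y * s * y⁻¹)⁻¹ * (y * s * y) = y * y := by group
      rw [e] at h1
      exact hyy h1

/-- The element of order 3. -/
theorem exists_y {p : ℕ} (h : Par S P R p) (hR : Nat.card R = 3) :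
    ∃ y ∈ R, y * y * y = 1 ∧ y ∉ S ∧ ∀ g ∈ P, g ∈ S ∨ y⁻¹ * g ∈ S ∨ y * g ∈ S := by
  obtain ⟨y, hy, hy1⟩ := exists_ne_one (B := R) (by rw [hR]; norm_num)
  have hp : p = 3 := by
    rcases h.card_R with h1 | ⟨h1, -⟩
    · rw [← h1, hR]
    · exact h1
  have hy3 : y * y * y = 1 := by
    have h1 := h.pow_R y hy
    rw [hp, pow_succ, pow_two] at h1
    exact h1
  have hyS : y ∉ S := by
    intro h1
    obtain ⟨k, hk⟩ := h.two ⟨y, h1⟩
    have h2 : y ^ 2 ^ k = 1 := congrArg Subtype.val hk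
    have h3 : y ^ 3 = 1 := by rw [pow_succ, pow_two]; exact hy3
    have h4 := orderOf_dvd_of_pow_eq_one h2
    have h5 := orderOf_dvd_of_pow_eq_one h3
    have h6 : Nat.Coprime (2 ^ k) 3 := Nat.Coprime.pow_left k (by norm_num)
    have h7 : orderOf y = 1 := Nat.eq_one_of_dvd_coprimes h6 h4 h5
    exact hy1 (orderOf_eq_one_iff.mp h7)
  exact ⟨y, hy, hy3, hyS, cov_of_index h.le (h.relIndex.trans hR) (h.R_le hy) hyS hy3⟩

theorem le_normalizer_of_cov {U : Subgroup G} {y : G}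
    (cov : ∀ g ∈ P, g ∈ S ∨ y⁻¹ * g ∈ S ∨ y * g ∈ S)
    (hS : ∀ s ∈ S, ∀ u ∈ U, s * u * s⁻¹ ∈ U) (hy : ∀ u ∈ U, y * u * y⁻¹ ∈ U) :
    P ≤ normalizer (U : Set G) := by
  have h1 : S ≤ normalizer (U : Set G) := le_normalizer_of hS
  have h2 : y ∈ normalizer (U : Set G) := by
    apply mem_normalizer_of_map_le
    rintro _ ⟨u, hu, rfl⟩
    exact hy u hu
  intro g hg
  rcases cov g hg with h3 | h3 | h3
  · exact h1 h3
  · have h4 := mul_mem h2 (h1 h3)
    rwa [mul_inv_cancel_left] at h4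
  · have h4 := mul_mem (inv_mem h2) (h1 h3)
    rwa [inv_mul_cancel_left] at h4

omit [Finite G] in
theorem le_normalizer_bot (P : Subgroup G) : P ≤ normalizer ((⊥ : Subgroup G) : Set G) := by
  apply le_normalizer_of
  intro x _ a ha
  rw [Subgroup.mem_bot] at ha ⊢
  rw [ha]; group

/-- [R4-3] -/
theorem main (h : Pair S P1 P2) (hV : zl S P1 ≤ o2 P2)
    (hab : ∀ a ∈ vh S P1 P2, ∀ b ∈ vh S P1 P2, a * b = b * a) :
    (∃ a b u s x, Conf64 S P1 a b u s x) ∨ (∃ a b u f s x, Conf128 S P1 a b u f s x) := by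
  have hfact : Fact (Nat.Prime 2) := ⟨Nat.prime_two⟩
  obtain ⟨R1, p1, hp1⟩ := h.par1
  obtain ⟨R2, p2, hp2⟩ := h.par2
  have hr := h.hyp.rank
  have hS := hp1.two
  have hZne : zc S ≠ ⊥ := by
    apply zc_ne_bot hS
    intro h1
    apply hp1.o2_ne
    rw [← le_bot_iff, ← h1]
    exact o2_le_S hp1
  have hP2Z : P2 ≤ normalizer (zc S : Set G) := h.cent.trans (centralizer_le_normalizer _)
  have nl : ∀ U : Subgroup G, U ≤ S → P1 ≤ normalizer (U : Set G) → P2 ≤ normalizer (U : Set G) →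
      U = ⊥ := fun U hU h1 h2 => h.nonlocal U (hS.to_le hU) h1 h2
  have hP1Z : ¬ P1 ≤ normalizer (zc S : Set G) := fun h1 =>
    hZne (nl _ (zc_le S) h1 hP2Z)
  -- `V`
  obtain ⟨V, hVdef⟩ : ∃ V, V = zl S P1 := ⟨_, rfl⟩
  obtain ⟨A, hAdef⟩ : ∃ A, A = vh S P1 P2 := ⟨_, rfl⟩
  rw [← hVdef] at hV
  rw [← hAdef] at hab
  have hZV : zc S ≤ V := hVdef ▸ zc_le_zl S P1
  have hVc : ∀ a ∈ V, ∀ b ∈ V, a * b = b * a := hVdef ▸ zl_comm hp1.le hS hp1.syl hp1.char2
  have hV2 : ∀ a ∈ V, a ^ 2 = 1 := hVdef ▸ zl_sq hp1.le hS hp1.syl hp1.char2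
  have hVP1 : P1 ≤ normalizer (V : Set G) := hVdef ▸ le_normalizer_zl S P1
  have hVS : V ≤ S := hV.trans (o2_le_S hp2)
  -- `A = ⟨V^{P2}⟩`
  have hA : A = _root_.Subgroup.closure {g | ∃ x ∈ P2, ∃ a ∈ V, g = x * a * x⁻¹} := by
    rw [hAdef, hVdef]; rfl
  have hVA : V ≤ A := by
    intro v hv
    rw [hA]
    exact subset_closure ⟨1, one_mem _, v, hv, by simp⟩
  have hAmem : ∀ x ∈ P2, ∀ v ∈ V, x * v * x⁻¹ ∈ A := by
    intro x hx v hv
    rw [hA]
    exact subset_closure ⟨x, hx, v, hv, rfl⟩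
  have hAQ : A ≤ o2 P2 := by
    rw [hA, closure_le]
    rintro _ ⟨x, hx, a, ha, rfl⟩
    exact (mem_normalizer_iff.mp (le_normalizer_o2 P2 hx) _).mp (hV ha)
  have hAS : A ≤ S := hAQ.trans (o2_le_S hp2)
  have hAP2 : P2 ≤ normalizer (A : Set G) := by
    apply le_normalizer_of
    intro x hx
    have key : ∀ a ∈ _root_.Subgroup.closure {g | ∃ x ∈ P2, ∃ a ∈ V, g = x * a * x⁻¹}, x * a * x⁻¹ ∈ A := by
      refine BThreeB.closure_conj ?_
      rintro _ ⟨x', hx', a, ha, rfl⟩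
      have e : x * (x' * a * x'⁻¹) * x⁻¹ = (x * x') * a * (x * x')⁻¹ := by group
      rw [e]
      exact hAmem _ (mul_mem hx hx') a ha
    rwa [← hA] at key
  have hA2 : ∀ a ∈ A, a ^ 2 = 1 := by
    intro a ha
    rw [pow_two]
    rw [hA] at ha
    refine Subgroup.mem_bot.1 (sq_closure (Z := ⊥) ?_ ?_ ?_ a ha)
    · intro ζ hζ x _
      rw [Subgroup.mem_bot.1 hζ]; simp
    · rintro _ ⟨x, hx, a, ha, rfl⟩ _ ⟨x', hx', b, hb, rfl⟩
      rw [Subgroup.mem_bot, hab _ (hAmem x hx a ha) _ (hAmem x' hx' b hb)]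
      group
    · rintro _ ⟨x, hx, a, ha, rfl⟩
      rw [Subgroup.mem_bot]
      have h1 := hV2 a ha
      rw [pow_two] at h1
      calc x * a * x⁻¹ * (x * a * x⁻¹) = x * (a * a) * x⁻¹ := by group
        _ = 1 := by rw [h1]; group
  have hVne : V ≠ ⊥ := fun h1 => hZne (le_bot_iff.1 (h1 ▸ hZV))
  have hVP2 : ¬ P2 ≤ normalizer (V : Set G) := fun h1 => hVne (nl V hVS hVP1 h1)
  have hcom : ∀ a b : G, a * b = b * a → a * b * a⁻¹ * b⁻¹ = 1 := by
    intro a b hab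
    rw [hab]; group
  have hcomm_V : ∀ a ∈ V, ∀ b ∈ V, a * b * a⁻¹ * b⁻¹ ∈ (⊥ : Subgroup G) := fun a ha b hb =>
    Subgroup.mem_bot.2 (hcom a b (hVc a ha b hb))
  have secV : Par.Sec P1 V ⊥ := ⟨bot_le, hVS.trans hp1.le, hVP1, le_normalizer_bot P1,
    hcomm_V, fun a ha => Subgroup.mem_bot.2 (hV2 a ha)⟩
  have secA : Par.Sec P2 A ⊥ := ⟨bot_le, hAS.trans hp2.le, hAP2, le_normalizer_bot P2,
    fun a ha b hb => Subgroup.mem_bot.2 (hcom a b (hab a ha b hb)),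
    fun a ha => Subgroup.mem_bot.2 (hA2 a ha)⟩
  have cA := secA.card_le hr
  rw [Subgroup.card_bot, mul_one] at cA
  have cVA : 2 * Nat.card V ≤ Nat.card A := by
    obtain ⟨a, ha, ha'⟩ : ∃ a ∈ A, a ∉ V := by
      by_contra hcon
      push Not at hcon
      apply hVP2
      rw [le_antisymm hVA hcon]
      exact hAP2
    exact two_mul_card_le hVA ha ha'
  -- `|R1| = 3`
  have hR1 : Nat.card R1 = 3 := by
    by_contra hne
    have hn : ∃ a ∈ V, ∃ x ∈ R1, x * a * x⁻¹ * a⁻¹ ∉ (⊥ : Subgroup G) := by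
      by_contra hcon
      push Not at hcon
      apply hP1Z
      refine le_trans ?_ (centralizer_le_normalizer _)
      rw [← hp1.sup_eq]
      have hSc := le_centralizer_zc S
      refine sup_le (sup_le ((o2_le_S hp1).trans hSc) ?_) hSc
      intro x hx
      rw [mem_centralizer_iff]
      intro a ha
      have h1 := Subgroup.mem_bot.1 (hcon a (hZV ha) x hx)
      symm
      calc x * a = x * a * x⁻¹ * a⁻¹ * (a * x) := by group
        _ = a * x := by rw [h1, one_mul]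
    have h1 := (ParFacts.irred16 hr hp1 hne secV hn).1
    rw [Subgroup.card_bot] at h1
    omega
  -- `|Z| ≥ 2`
  have cZ : 2 ≤ Nat.card (zc S) := by
    obtain ⟨a, ha⟩ := Subgroup.ne_bot_iff_exists_ne_one.mp hZne
    have h1 := two_mul_card_le (A := ⊥) (B := zc S) bot_le a.2
      (fun h1 => ha (Subtype.ext (Subgroup.mem_bot.1 h1)))
    rw [Subgroup.card_bot] at h1
    omega
  -- `|R2| = 3`
  have secAZ : Par.Sec P2 A (zc S) := ⟨hZV.trans hVA, hAS.trans hp2.le, hAP2, hP2Z,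
    fun a ha b hb => by rw [hcom a b (hab a ha b hb)]; exact one_mem _,
    fun a ha => by rw [hA2 a ha]; exact one_mem _⟩
  have hR2 : Nat.card R2 = 3 := by
    by_contra hne
    have hn : ∃ a ∈ A, ∃ x ∈ R2, x * a * x⁻¹ * a⁻¹ ∉ zc S := by
      by_contra hcon
      push Not at hcon
      have hR2c : ∀ x ∈ R2, ∀ a ∈ A, x * a * x⁻¹ = a := by
        intro x hx a ha
        obtain ⟨ζ, hζ⟩ : ∃ ζ, ζ = x * a * x⁻¹ * a⁻¹ := ⟨_, rfl⟩
        have h1 : ζ ∈ zc S := hζ ▸ hcon a ha x hx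
        have h2 : x * ζ = ζ * x := (mem_centralizer_iff.mp (h.cent (hp2.R_le hx)) ζ h1).symm
        have h3 : ζ ^ 2 = 1 := (mem_zc.mp h1).2.2
        have e1 : x * a * x⁻¹ = ζ * a := by rw [hζ]; group
        have e2 : ∀ n : ℕ, x ^ n * a * (x ^ n)⁻¹ = ζ ^ n * a := by
          intro n
          induction n with
          | zero => simp
          | succ n ih =>
            have e3 : x * ζ ^ n = ζ ^ n * x := ((show Commute x ζ from h2).pow_right n).eq
            calc x ^ (n + 1) * a * (x ^ (n + 1))⁻¹ = x * (x ^ n * a * (x ^ n)⁻¹) * x⁻¹ := by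
                  rw [pow_succ' x n]; group
              _ = (x * ζ ^ n) * a * x⁻¹ := by rw [ih]; group
              _ = ζ ^ n * (x * a * x⁻¹) := by rw [e3]; group
              _ = ζ ^ (n + 1) * a := by rw [e1, pow_succ]; group
        have e4 := e2 p2
        rw [hp2.pow_R x hx] at e4
        have e5 : ζ ^ p2 = 1 := by
          have : ζ ^ p2 * a = 1 * a := by rw [← e4]; group
          exact mul_right_cancel this
        have e6 : ζ = 1 := by
          have h4 := orderOf_dvd_of_pow_eq_one h3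
          have h5 := orderOf_dvd_of_pow_eq_one e5
          have h6 : Nat.Coprime 2 p2 := by
            rcases hp2.p_eq with h7 | h7 <;> rw [h7] <;> norm_num
          exact orderOf_eq_one_iff.mp (Nat.eq_one_of_dvd_coprimes h6 h4 h5)
        rw [e1, e6, one_mul]
      apply hVP2
      rw [← hp2.sup_eq]
      have hSV : S ≤ normalizer (V : Set G) := hp1.le.trans hVP1
      refine sup_le (sup_le ((o2_le_S hp2).trans hSV) ?_) hSV
      apply le_normalizer_of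
      intro x hx v hv
      rw [hR2c x hx v (hVA hv)]
      exact hv
    have h1 := (ParFacts.irred16 hr hp2 hne secAZ hn).1
    omega
  -- the elements `y`, `w`
  obtain ⟨y, hyR, hy3, hyS, covy⟩ := exists_y hp1 hR1
  obtain ⟨w, hwR, hw3, hwS, covw⟩ := exists_y hp2 hR2
  have hyP := hp1.R_le hyR
  have hwP := hp2.R_le hwR
  have hHy := half_of_cov hp1.le hyP hyS hy3 covy
  have hHw := half_of_cov hp2.le hwP hwS hw3 covw
  have hSZ : S ≤ centralizer (zc S : Set G) := le_centralizer_zc S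
  have hconjV : ∀ v ∈ V, y * v * y⁻¹ ∈ V := fun v hv =>
    (mem_normalizer_iff.mp (hVP1 hyP) v).mp hv
  -- `|Z| = 2`
  have hZy : (zc S ⊓ cj y (zc S) : Subgroup G) = ⊥ := by
    obtain ⟨U, hU⟩ : ∃ U, U = zc S ⊓ cj y (zc S) := ⟨_, rfl⟩
    rw [← hU]
    have hUZ : U ≤ zc S := hU ▸ inf_le_left
    -- the centraliser of `U` contains `S` and `y S y⁻¹`
    have hcS : S ≤ centralizer (U : Set G) := hSZ.trans (centralizer_le hUZ)
    have hcyS : ∀ s ∈ S, y * s * y⁻¹ ∈ centralizer (U : Set G) := by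
      intro s hs
      rw [mem_centralizer_iff]
      intro u hu
      have h1 : u ∈ cj y (zc S) := (hU ▸ hu : u ∈ zc S ⊓ cj y (zc S)).2
      rw [mem_cj] at h1
      have h2 := mem_centralizer_iff.mp (hSZ hs) _ h1
      calc u * (y * s * y⁻¹) = y * ((y⁻¹ * u * y) * s) * y⁻¹ := by group
        _ = y * (s * (y⁻¹ * u * y)) * y⁻¹ := by rw [h2]
        _ = y * s * y⁻¹ * u := by group
    have hmax := hp1.max (P1 ⊓ centralizer (U : Set G)) (le_inf hp1.le hcS) inf_le_left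
    rcases hmax with h1 | h1
    · exfalso
      -- `y S y⁻¹ = S`, so `y` normalises `zc S`
      have h2 : ∀ s ∈ S, y * s * y⁻¹ ∈ S := by
        intro s hs
        have h2 : y * s * y⁻¹ ∈ P1 ⊓ centralizer (U : Set G) :=
          mem_inf.mpr ⟨mul_mem (mul_mem hyP (hp1.le hs)) (inv_mem hyP), hcyS s hs⟩
        rwa [h1] at h2
      have h3 : P1 ≤ normalizer (S : Set G) := le_normalizer_of_cov covy
        (fun s hs u hu => mul_mem (mul_mem hs hu) (inv_mem hs)) h2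
      exact hP1Z (h3.trans (normalizer_le_normalizer_zc S))
    · apply nl U (hUZ.trans (zc_le S))
      · rw [← h1]
        exact inf_le_right.trans (centralizer_le_normalizer _)
      · exact (h.cent.trans (centralizer_le hUZ)).trans (centralizer_le_normalizer _)
  have cardcj : Nat.card (cj y (zc S)) = Nat.card (zc S) := by
    refine (Nat.card_congr
      { toFun := fun a : zc S => (⟨y * a * y⁻¹, conj_mem_cj a.2⟩ : cj y (zc S))
        invFun := fun a => ⟨y⁻¹ * a * y, a.2⟩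
        left_inv := fun a => Subtype.ext (by show y⁻¹ * (y * a * y⁻¹) * y = a; group)
        right_inv := fun a => Subtype.ext (by show y * (y⁻¹ * a * y) * y⁻¹ = a; group) }).symm
  have cZ2 : Nat.card (zc S) = 2 := by
    have h1 : cj y (zc S) ≤ V := by
      intro a ha
      have h2 := hconjV _ (hZV (mem_cj.1 ha))
      have e : y * (y⁻¹ * a * y) * y⁻¹ = a := by group
      rwa [e] at h2
    have h2 := ActFour.card_mul_le hZV h1
    rw [hZy, cardcj, Subgroup.card_bot, mul_one] at h2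
    have h3 : Nat.card (zc S) * Nat.card (zc S) ≤ 8 := by omega
    have h4 : Nat.card (zc S) < 3 := by
      by_contra hcon
      push Not at hcon
      have := Nat.mul_le_mul hcon hcon
      omega
    omega
  obtain ⟨z, hz, hz1⟩ := exists_ne_one (B := zc S) (by rw [cZ2]; norm_num)
  have hZz : ∀ g ∈ zc S, g = 1 ∨ g = z := by
    intro g hg
    by_contra hcon
    push Not at hcon
    have h1 := card_eq_two_mul (A := zpowers z) (B := zc S) (by rwa [zpowers_le]) (p := g) hg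
    classical
    have h2 : ({(⟨1, one_mem _⟩ : zc S), ⟨z, hz⟩, ⟨g, hg⟩} : Set (zc S)).ncard = 3 := by
      rw [Set.ncard_insert_of_notMem, Set.ncard_insert_of_notMem, Set.ncard_singleton]
      · simp only [Set.mem_singleton_iff, Subtype.mk.injEq]
        exact fun h3 => hcon.2 h3.symm
      · simp only [Set.mem_insert_iff, Set.mem_singleton_iff, Subtype.mk.injEq, not_or]
        exact ⟨fun h3 => hz1 h3.symm, fun h3 => hcon.1 h3.symm⟩
    have h3 := Set.ncard_le_card ({(⟨1, one_mem _⟩ : zc S), ⟨z, hz⟩, ⟨g, hg⟩} : Set (zc S))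
    rw [h2, cZ2] at h3
    omega
  obtain ⟨hzS, hzc, hzsq⟩ := mem_zc.mp hz
  have hzV := hZV hz
  obtain ⟨z1, hz1e⟩ : ∃ z1, y * z * y⁻¹ = z1 := ⟨_, rfl⟩
  obtain ⟨z2, hz2e⟩ : ∃ z2, y * z1 * y⁻¹ = z2 := ⟨_, rfl⟩
  obtain ⟨v1, hv1e⟩ : ∃ v1, w * z1 * w⁻¹ = v1 := ⟨_, rfl⟩
  obtain ⟨v2, hv2e⟩ : ∃ v2, w * v1 * w⁻¹ = v2 := ⟨_, rfl⟩
  have hz1V : z1 ∈ V := hz1e ▸ hconjV z hzV
  have hz2V : z2 ∈ V := hz2e ▸ hconjV z1 hz1V
  have hconjA : ∀ a ∈ A, w * a * w⁻¹ ∈ A := fun a ha => (mem_normalizer_iff.mp (hAP2 hwP) a).mp ha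
  have hv1A : v1 ∈ A := hv1e ▸ hconjA z1 (hVA hz1V)
  have hv2A : v2 ∈ A := hv2e ▸ hconjA v1 hv1A
  have hwz : w * z * w⁻¹ = z := by
    have h1 := mem_centralizer_iff.mp (h.cent hwP) z hz
    rw [← h1]; group
  have D : BThreeB.Data S z z1 z2 v1 v2 y w :=
    { two := hS
      hy := hHy
      hw := hHw
      z_mem := hzS
      z1_mem := hVS hz1V
      z2_mem := hVS hz2V
      v1_mem := hAS hv1A
      v2_mem := hAS hv2A
      yz := hz1e
      yz1 := hz2e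
      yz2 := by
        rw [← hz2e, ← hz1e]
        calc y * (y * (y * z * y⁻¹) * y⁻¹) * y⁻¹ = (y * y * y) * z * (y * y * y)⁻¹ := by group
          _ = z := by rw [hy3]; simp
      wz := hwz
      wz1 := hv1e
      wv1 := hv2e
      wv2 := by
        rw [← hv2e, ← hv1e]
        calc w * (w * (w * z1 * w⁻¹) * w⁻¹) * w⁻¹ = (w * w * w) * z1 * (w * w * w)⁻¹ := by group
          _ = z1 := by rw [hw3]; simp
      z_sq := by rw [← pow_two]; exact hzsq
      z_ne := hz1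
      z_comm := fun s hs => (mem_centralizer_iff.mp (hSZ hs) z hz).symm
      z_uniq := fun g hg hg2 hgc => hZz g (mem_zc.mpr ⟨hg, fun b hb => by
        first | exact hgc b hb | exact (hgc b hb).symm, by rw [pow_two]; exact hg2⟩)
      ne := by
        intro h1
        rw [h1] at hz1e
        have h2 : ∀ u ∈ zc S, y * u * y⁻¹ ∈ zc S := by
          intro u hu
          rcases hZz u hu with h3 | h3
          · rw [h3]; simp
          · rw [h3, hz1e]; exact hz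
        apply hP1Z
        refine le_normalizer_of_cov covy (fun s hs u hu => ?_) h2
        have h3 := mem_centralizer_iff.mp (hSZ hs) u hu
        rw [← h3, mul_inv_cancel_right]
        exact hu
      abel := hab z1 (hVA hz1V) v1 hv1A
      core := fun U hU h1 h2 h3 => nl U hU (le_normalizer_of_cov covy h1 h2)
        (le_normalizer_of_cov covw h1 h3)
      rank := by
        intro H K hKH hHS hsq
        refine TwoFusion.SectionalRank.sectionalPRankLE_iff.mp hr H K ⟨hKH, ?_, ?_⟩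
        · intro a ha b hb
          have e : a * b * a⁻¹ * b⁻¹ = ((a * b) * (a * b)) * (b⁻¹ * a⁻¹ * b * (b⁻¹ * a⁻¹ * b)) *
            (b * b)⁻¹ := by group
          rw [e]
          exact mul_mem (mul_mem (hsq _ (mul_mem ha hb))
            (hsq _ (mul_mem (mul_mem (inv_mem hb) (inv_mem ha)) hb))) (inv_mem (hsq b hb))
        · intro a ha
          rw [pow_two]
          exact hsq a ha }
  exact BThreeK.conf D hp1.le hyP covy

end Cfsg.Agent.SectRankFour.C2.BThree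
end

private theorem dce_19b7e02496e7 : _root_.True := by
  try have : _root_.True := by simp only [_root_.Cfsg.Agent.SectRankFour.C2.BThreeH.V.congr_simp]
  exact _root_.True.intro
end

-- part: SectRankFour/C2/BOneFour
section
prune_inst 0x100001001422000000180000000000003000000200400000200000000000004080000000000000100000000000000000000000000010000000000000000000000000100080080000000000000000000000000000000000000000000000000000000000000
set_option linter.all false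
open scoped Cfsg.Agent.FastGrp

/-!
# S0517, C2, sectional rank 4, section 1 (`b = 1`), case (1a): `P_2` of rank-4 type
-/

set_option autoImplicit false
set_option linter.unusedSectionVars false
set_option linter.unusedVariables false

namespace Cfsg.Agent.SectRankFour.C2.BOneFour

open Subgroup Cfsg Cfsg.Agent.ZN Cfsg.Agent.MinSimple Cfsg.Agent.MinSimple.MinParabolic
  Cfsg.Agent.MinSimple.VModule Cfsg.Agent.SectRankFour.C2.Defs
open Cfsg.Agent.SectRankFour.C2.BOneFacts Cfsg.Agent.SectRankFour.C2.BOneA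

universe u

variable {G : Type u} [Group G]

/-- The stabiliser in `P` of the coset `B f`, `B` normalised by `P`. -/
def st {P B : Subgroup G} (hB : P ≤ normalizer (B : Set G)) (f : G) : Subgroup G where
  carrier := {y | y ∈ P ∧ y * f * y⁻¹ * f⁻¹ ∈ B}
  one_mem' := ⟨one_mem _, by simp⟩
  mul_mem' := by
    rintro y z ⟨hy, hy'⟩ ⟨hz, hz'⟩
    refine ⟨mul_mem hy hz, ?_⟩
    have e : y * z * f * (y * z)⁻¹ * f⁻¹ =
        (y * (z * f * z⁻¹ * f⁻¹) * y⁻¹) * (y * f * y⁻¹ * f⁻¹) := by group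
    rw [e]
    exact mul_mem (conj_mem hB hy hz') hy'
  inv_mem' := by
    rintro y ⟨hy, hy'⟩
    refine ⟨inv_mem hy, ?_⟩
    have e : y⁻¹ * f * y⁻¹⁻¹ * f⁻¹ = y⁻¹ * (y * f * y⁻¹ * f⁻¹)⁻¹ * y := by group
    rw [e]
    exact conj_mem' hB hy (inv_mem hy')

theorem conj_mem_st {P B : Subgroup G} {hB : P ≤ normalizer (B : Set G)} {f y g : G}
    (hg : g ∈ P) (hy : y ∈ st hB f) : g * y * g⁻¹ ∈ st hB (g * f * g⁻¹) := by
  refine ⟨mul_mem (mul_mem hg hy.1) (inv_mem hg), ?_⟩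
  have e : g * y * g⁻¹ * (g * f * g⁻¹) * (g * y * g⁻¹)⁻¹ * (g * f * g⁻¹)⁻¹ =
      g * (y * f * y⁻¹ * f⁻¹) * g⁻¹ := by group
  rw [e]
  exact conj_mem hB hg hy.2

/-- Powers: `y ^ k ∈ H`, `y ^ p = 1`, `p` coprime to `k`. -/
theorem mem_of_pow_mem {H : Subgroup G} {y : G} {p k : ℕ} (hp : y ^ p = 1) (hk : k.Coprime p)
    (h : y ^ k ∈ H) : y ∈ H := by
  have h1 : (y ^ k) ∈ zpowers y := pow_mem (mem_zpowers y) k
  have h2 : orderOf y ∣ p := orderOf_dvd_of_pow_eq_one hp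
  have h3 : k.Coprime (orderOf y) := hk.coprime_dvd_right h2
  obtain ⟨m, hm⟩ := exists_pow_eq_self_of_coprime h3
  rw [← hm]
  exact pow_mem h m

/-- `a` inverts `x` modulo `Q`: so it inverts `x ^ k`. -/
theorem inv_pow_mem {P Q : Subgroup G} (hPQ : P ≤ normalizer (Q : Set G)) {a x : G}
    (hx : x ∈ P) (hax : a * x * a⁻¹ * x ∈ Q) (k : ℕ) : a * x ^ k * a⁻¹ * x ^ k ∈ Q := by
  induction k with
  | zero => simp
  | succ k ih =>
    have e : a * x ^ (k + 1) * a⁻¹ * x ^ (k + 1) =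
        (a * x * a⁻¹ * x) * (x⁻¹ * (a * x ^ k * a⁻¹ * x ^ k) * x) := by
      rw [pow_succ']
      have : x * x ^ k = x ^ k * x := by rw [← pow_succ, ← pow_succ']
      rw [show a * (x * x ^ k) * a⁻¹ * (x * x ^ k) = a * (x * x ^ k) * a⁻¹ * (x ^ k * x) by
        rw [this]]
      group
    rw [e]
    exact mul_mem hax (conj_mem' hPQ hx ih)

/-- Five subgroups of order 8 of a group of order 32 with pairwise intersections in a subgroup of
order 2 cover it. -/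
theorem cover_five [Finite G] {Q I : Subgroup G} (f : Fin 5 → Subgroup G) (hIf : ∀ k, I ≤ f k)
    (hfQ : ∀ k, f k ≤ Q) (hI : Nat.card I = 2) (hf : ∀ k, Nat.card (f k) = 8)
    (hQ : Nat.card Q = 32) (hd : ∀ k l, k ≠ l → f k ⊓ f l ≤ I) : ∀ q ∈ Q, ∃ k, q ∈ f k := by
  classical
  have := Fintype.ofFinite G
  intro q hq
  by_contra hno
  push Not at hno
  have hqI : q ∉ I := fun h => hno 0 (hIf 0 h)
  have hcard : ∀ H : Subgroup G, (Finset.univ.filter (· ∈ H)).card = Nat.card H := by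
    intro H
    rw [Nat.card_eq_fintype_card, Fintype.card_subtype]
  let T : Fin 5 → Finset G := fun k => (Finset.univ.filter (· ∈ f k)) \ (Finset.univ.filter (· ∈ I))
  have hT : ∀ k, (T k).card = 6 := by
    intro k
    have hsub : (Finset.univ.filter (· ∈ I)) ⊆ (Finset.univ.filter (· ∈ f k)) := by
      intro x hx
      rw [Finset.mem_filter] at hx ⊢
      exact ⟨hx.1, hIf k hx.2⟩
    rw [Finset.card_sdiff_of_subset hsub, hcard, hcard, hf, hI]
  have hU : (Finset.univ.biUnion T).card = 30 := by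
    rw [Finset.card_biUnion]
    · simp [hT]
    · intro k _ l _ hkl
      rw [Function.onFun, Finset.disjoint_left]
      intro x hx hx'
      simp only [T, Finset.mem_sdiff, Finset.mem_filter, Finset.mem_univ, true_and] at hx hx'
      exact hx.2 (hd k l hkl ⟨hx.1, hx'.1⟩)
  have hsub : insert q (Finset.univ.biUnion T ∪ Finset.univ.filter (· ∈ I)) ⊆
      Finset.univ.filter (· ∈ Q) := by
    intro x hx
    rw [Finset.mem_insert, Finset.mem_union, Finset.mem_biUnion, Finset.mem_filter] at hx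
    rw [Finset.mem_filter]
    refine ⟨Finset.mem_univ _, ?_⟩
    rcases hx with rfl | ⟨k, -, hk⟩ | hx
    · exact hq
    · simp only [T, Finset.mem_sdiff, Finset.mem_filter, Finset.mem_univ, true_and] at hk
      exact hfQ k hk.1
    · exact hfQ 0 (hIf 0 hx.2)
  have h1 := Finset.card_le_card hsub
  rw [hcard, hQ, Finset.card_insert_of_notMem, Finset.card_union_of_disjoint, hU, hcard, hI] at h1
  · omega
  · rw [Finset.disjoint_left]
    intro x hx hx'
    rw [Finset.mem_biUnion] at hx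
    obtain ⟨k, -, hk⟩ := hx
    simp only [T, Finset.mem_sdiff, Finset.mem_filter, Finset.mem_univ, true_and] at hk hx'
    exact hk.2 hx'
  · rw [Finset.mem_union, Finset.mem_biUnion, Finset.mem_filter]
    rintro (⟨k, -, hk⟩ | hx)
    · simp only [T, Finset.mem_sdiff, Finset.mem_filter, Finset.mem_univ, true_and] at hk
      exact hno k hk.1
    · exact hqI hx.2

/-- Cosets: four elements in different cosets of a subgroup of index 4. -/
theorem cover_four [Finite G] {A B : Subgroup G} (hi : B.relIndex A = 4)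
    (f : Fin 4 → G) (hf : ∀ k, f k ∈ A) (hd : ∀ k l, k ≠ l → (f k)⁻¹ * f l ∉ B) :
    ∀ g ∈ A, ∃ k, (f k)⁻¹ * g ∈ B := by
  intro g hg
  let φ : Fin 4 → A ⧸ (B.subgroupOf A) := fun k => QuotientGroup.mk (⟨f k, hf k⟩ : A)
  have hinj : Function.Injective φ := by
    intro k l hkl
    by_contra hne
    apply hd k l hne
    have := QuotientGroup.eq.mp hkl
    exact mem_subgroupOf.mp this
  have hc : Nat.card (A ⧸ (B.subgroupOf A)) = 4 := hi
  have hbij : Function.Bijective φ := by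
    refine hinj.bijective_of_nat_card_le ?_
    rw [hc, Nat.card_fin]
  obtain ⟨k, hk⟩ := hbij.2 (QuotientGroup.mk (⟨g, hg⟩ : A))
  exact ⟨k, mem_subgroupOf.mp (QuotientGroup.eq.mp hk)⟩

/-- `A / B` of order 4, `y` of order 3 acts without fixed points on it: one orbit. -/
theorem orbit_four [Finite G] {P A B : Subgroup G} (hB : P ≤ normalizer (B : Set G)) (hAP : A ≤ P)
    (hi : B.relIndex A = 4) {y : G} (hy : y ∈ P) (hy3 : y ^ 3 = 1) (hyA : y ∈ normalizer (A : Set G))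
    (hfpf : ∀ a ∈ A, y * a * y⁻¹ * a⁻¹ ∈ B → a ∈ B) {d : G} (hd : d ∈ A) (hdB : d ∉ B) {g : G}
    (hg : g ∈ A) : ∃ k : ℕ, y ^ k * g * (y ^ k)⁻¹ ∈ B ∨ d⁻¹ * (y ^ k * g * (y ^ k)⁻¹) ∈ B := by
  have hyk : ∀ k : ℕ, ∀ a ∈ A, y ^ k * a * (y ^ k)⁻¹ ∈ A := fun k a ha =>
    (mem_normalizer_iff.mp (pow_mem hyA k) a).mp ha
  have hykP : ∀ k : ℕ, y ^ k ∈ P := fun k => pow_mem hy k
  -- nontrivial powers of `y` fix no coset
  have hk0 : ∀ k : ℕ, k.Coprime 3 → ∀ a ∈ A, a⁻¹ * (y ^ k * a * (y ^ k)⁻¹) ∈ B → a ∈ B := by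
    intro k hk a ha h1
    have h2 : y ^ k ∈ st hB a := by
      refine ⟨hykP k, ?_⟩
      have := conj_mem hB (hAP ha) h1
      have e : a * (a⁻¹ * (y ^ k * a * (y ^ k)⁻¹)) * a⁻¹ = y ^ k * a * (y ^ k)⁻¹ * a⁻¹ := by group
      rwa [e] at this
    exact hfpf a ha (mem_of_pow_mem hy3 hk h2).2
  have hsym : ∀ u v : G, u⁻¹ * v ∈ B → v⁻¹ * u ∈ B := by
    intro u v h
    have := inv_mem h
    rwa [mul_inv_rev, inv_inv] at this
  set d1 := y ^ 1 * d * (y ^ 1)⁻¹ with hd1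
  set d2 := y ^ 2 * d * (y ^ 2)⁻¹ with hd2
  have hd1A : d1 ∈ A := hyk 1 d hd
  have hd2A : d2 ∈ A := hyk 2 d hd
  have hnot : ∀ k : ℕ, y ^ k * d * (y ^ k)⁻¹ ∉ B := by
    intro k h1
    apply hdB
    have := conj_mem' hB (hykP k) h1
    have e : (y ^ k)⁻¹ * (y ^ k * d * (y ^ k)⁻¹) * y ^ k = d := by group
    rwa [e] at this
  have hn1 : d1 ∉ B := hnot 1
  have hn2 : d2 ∉ B := hnot 2
  have e12 : d2 = y ^ 1 * d1 * (y ^ 1)⁻¹ := by rw [hd1, hd2, pow_one, pow_two]; group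
  have a01 : d⁻¹ * d1 ∉ B := fun h => hdB (hk0 1 (by norm_num) d hd h)
  have a02 : d⁻¹ * d2 ∉ B := fun h => hdB (hk0 2 (by norm_num) d hd h)
  have a12 : d1⁻¹ * d2 ∉ B := fun h => hn1 (hk0 1 (by norm_num) d1 hd1A (e12 ▸ h))
  obtain ⟨k, hk⟩ := cover_four hi ![1, d, d1, d2]
    (by
      intro k
      fin_cases k
      · exact one_mem _
      · exact hd
      · exact hd1A
      · exact hd2A)
    (by
      intro k l hkl
      have b1 : (1 : G)⁻¹ * d ∉ B := by simpa using hdB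
      have b2 : (1 : G)⁻¹ * d1 ∉ B := by simpa using hn1
      have b3 : (1 : G)⁻¹ * d2 ∉ B := by simpa using hn2
      fin_cases k <;> fin_cases l
      · exact absurd rfl hkl
      · exact b1
      · exact b2
      · exact b3
      · exact fun h => b1 (hsym _ _ h)
      · exact absurd rfl hkl
      · exact a01
      · exact a02
      · exact fun h => b2 (hsym _ _ h)
      · exact fun h => a01 (hsym _ _ h)
      · exact absurd rfl hkl
      · exact a12
      · exact fun h => b3 (hsym _ _ h)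
      · exact fun h => a02 (hsym _ _ h)
      · exact fun h => a12 (hsym _ _ h)
      · exact absurd rfl hkl) g hg
  fin_cases k
  · refine ⟨0, Or.inl ?_⟩
    have : g ∈ B := by simpa using hk
    simpa using this
  · refine ⟨0, Or.inr ?_⟩
    have : d⁻¹ * g ∈ B := hk
    simpa using this
  · refine ⟨2, Or.inr ?_⟩
    have h1 : d1⁻¹ * g ∈ B := hk
    have h2 := conj_mem hB (hykP 2) h1
    have e : y ^ 2 * (d1⁻¹ * g) * (y ^ 2)⁻¹ = (y ^ 3 * d * (y ^ 3)⁻¹)⁻¹ *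
        (y ^ 2 * g * (y ^ 2)⁻¹) := by
      rw [hd1]; group
    rw [e, hy3] at h2
    simpa only [_root_.one_mul, _root_.inv_one, _root_.mul_one] using h2
  · refine ⟨1, Or.inr ?_⟩
    have h1 : d2⁻¹ * g ∈ B := hk
    have h2 := conj_mem hB (hykP 1) h1
    have e : y ^ 1 * (d2⁻¹ * g) * (y ^ 1)⁻¹ = (y ^ 3 * d * (y ^ 3)⁻¹)⁻¹ *
        (y ^ 1 * g * (y ^ 1)⁻¹) := by
      rw [hd2]; group
    rw [e, hy3] at h2
    simpa only [_root_.pow_one, _root_.one_mul, _root_.inv_one, _root_.mul_one] using h2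

/-! ### The situation of (1a) -/

variable [Finite G] {S P1 P2 : Subgroup G}

/-- The result of the amalgam argument with `L = ⟨V_0, V_0^x⟩`, `V_0 = (V ∩ Q_2)⟨a⟩`. -/
theorem exists_cfg (h : Pair S P1 P2) (hn : ¬ zl S P1 ≤ o2 P2) {R : Subgroup G} {p : ℕ}
    (hR : Defs.Par S P2 R p) (h3 : Nat.card R ≠ 3) : ∃ a ∈ zl S P1, a ∉ o2 P2 ∧
      (∀ r ∈ R, a * r * a⁻¹ * r ∈ o2 P2) ∧ ∃ x ∈ P2, x ^ p = 1 ∧ a * x * a⁻¹ * x ∈ o2 P2 ∧
      (∀ q ∈ o2 P2, x * q * x⁻¹ * q⁻¹ ∈ ph (o2 P2) → q ∈ ph (o2 P2)) ∧ ph (o2 P2) = zc S ∧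
      Nat.card (zl S P1 ⊓ o2 P2 : Subgroup G) = 8 ∧ Nat.card (o2 P2) = 32 := by
  have hfp : Fact p.Prime := ⟨ParFacts.p_prime hR⟩
  have hpo : Odd p := by rcases hR.p_eq with rfl | rfl <;> decide
  set V := zl S P1 with hVdef
  set Q := o2 P2 with hQdef
  have hsec := sect_ph hR
  have hV16 := card_V h hn
  have hZ2 := card_Z h hn
  obtain ⟨hi16, -⟩ := irred16 h.hyp hR h3 hsec
  obtain ⟨r, hr, hfpf⟩ := exists_fpf h.hyp hR h3 hsec
  obtain ⟨a, ha, haQ, hac⟩ := exists_a h hn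
  have haS : a ∈ S := V_le h ha
  have ha2 : a ^ 2 = 1 := V_sq h a ha
  have hinv : ∀ x ∈ R, a * x * a⁻¹ * x ∈ o2 P2 := fun x hx =>
    ParFacts.inverts hR haS haQ (by rw [ha2]; exact one_mem _) hac hx
  refine ⟨a, ha, haQ, hinv, ?_⟩
  have hQ2 : IsPGroup 2 Q := o2_isPGroup P2
  -- `V_0`
  set V0 : Subgroup G := (V ⊓ Q) ⊔ zpowers a with hV0
  have hV0V : V0 ≤ V := sup_le inf_le_left ((zpowers_le).mpr ha)
  have haV0 : a ∈ V0 := mem_sup_right (mem_zpowers a)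
  have hV0Q : V0 ⊓ Q = V ⊓ Q :=
    le_antisymm (inf_le_inf_right _ hV0V) (le_inf le_sup_left inf_le_right)
  have hdec : ∀ v ∈ V0, v ∈ Q ∨ v * a ∈ Q := by
    intro v hv
    have hn' : zpowers a ≤ normalizer ((V ⊓ Q : Subgroup G) : Set G) := by
      refine le_normalizer_of fun b hb c hc => ?_
      have hbV : b ∈ V := (zpowers_le.mpr ha) hb
      rw [V_comm h b hbV c hc.1, mul_inv_cancel_right]
      exact hc
    rw [hV0, ← SetLike.mem_coe, coe_mul_of_right_le_normalizer_left _ _ hn'] at hv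
    obtain ⟨d, hd, z, hz, rfl⟩ := hv
    obtain ⟨k, rfl⟩ := mem_zpowers_iff.mp hz
    rcases Int.even_or_odd' k with ⟨m, rfl | rfl⟩
    · left
      have : a ^ (2 * m) = 1 := by rw [zpow_mul]; simp [ha2]
      show d * a ^ (2 * m) ∈ Q
      rw [this, mul_one]
      exact hd.2
    · right
      have : a ^ (2 * m + 1) * a = 1 := by
        rw [zpow_add, zpow_mul]
        simp only [zpow_ofNat, ha2, one_zpow, one_mul, pow_one]
        rw [← pow_two, ha2]
      show d * a ^ (2 * m + 1) * a ∈ Q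
      rw [mul_assoc, this, mul_one]
      exact hd.2
  have hInp : DA.Inp P2 Q V0 a r p :=
    { QP := o2_le P2
      PQ := P2_Q2 h
      two := hQ2
      VP := (hV0V.trans (V_le h)).trans (le2 h)
      comm := fun v hv w hw => V_comm h v (hV0V hv) w (hV0V hw)
      sq := fun v hv => V_sq h v (hV0V hv)
      QV := by
        refine le_normalizer_of fun q hq v hv => ?_
        -- `[q, v] ∈ V ∩ Q`
        have h1 : q * v * q⁻¹ * v⁻¹ ∈ V ⊓ Q := by
          refine mem_inf.mpr ⟨mul_mem (conj_mem (Q2_V h) hq (hV0V hv)) (inv_mem (hV0V hv)), ?_⟩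
          have e : q * v * q⁻¹ * v⁻¹ = q * (v * q⁻¹ * v⁻¹) := by group
          rw [e]
          exact mul_mem hq (conj_mem (P2_Q2 h) (le2 h (V_le h (hV0V hv))) (inv_mem hq))
        have e : q * v * q⁻¹ = (q * v * q⁻¹ * v⁻¹) * v := by group
        rw [e]
        exact mul_mem (mem_sup_left h1) hv
      ha := haV0
      hVa := hdec
      hr := hR.R_le hr
      odd := hpo
      hrn := by rw [hR.pow_R r hr]; exact one_mem _
      har := hinv r hr }
  obtain ⟨x, hx⟩ := hInp.exists_ch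
  refine ⟨x, hx.xP, hx.xn, ?_⟩
  have hphn : P2 ≤ normalizer (ph Q : Set G) := (P2_Q2 h).trans (normalizer_le_ph _)
  -- `x` acts on `Q / Φ(Q)` as `r`
  have hxfpf : ∀ q ∈ Q, x * q * x⁻¹ * q⁻¹ ∈ ph Q → q ∈ ph Q := by
    intro q hq h1
    have h2 : x ∈ st hphn q := ⟨hx.xP, h1⟩
    have h3 : x * r⁻¹ ∈ st hphn q := ⟨o2_le P2 hx.xr, comm_mem_ph hQ2 hx.xr hq⟩
    have h4 : r ∈ st hphn q := by
      have : r = (x * r⁻¹)⁻¹ * x := by group
      rw [this]
      exact mul_mem (inv_mem h3) h2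
    exact hfpf q hq h4.2
  -- `a` inverts `x`
  have hax : a * x * a⁻¹ * x ∈ Q := by
    have e : a * x * a⁻¹ * x = (a * (x * r⁻¹) * a⁻¹) * ((a * r * a⁻¹ * r) *
        (r⁻¹ * (x * r⁻¹) * r)) := by group
    rw [e]
    have haP : a ∈ P2 := le2 h haS
    exact mul_mem (conj_mem (P2_Q2 h) haP hx.xr) (mul_mem (hinv r hr)
      (conj_mem' (P2_Q2 h) (hR.R_le hr) hx.xr))
  -- `F = Q`
  have hF : DA.FF Q V0 x = Q := by
    refine eq_of_sup_ph hx.F_le_Q fun q hq => ?_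
    have hnorm : zpowers x ≤ normalizer ((DA.FF Q V0 x ⊔ ph Q : Subgroup G) : Set G) := by
      rw [zpowers_le]
      have h1 : x ∈ normalizer (DA.FF Q V0 x : Set G) := hx.L_F hx.xLL
      have h2 : x ∈ normalizer (ph Q : Set G) := hphn hx.xP
      rw [mem_normalizer_iff_map_conj_eq] at h1 h2 ⊢
      rw [Subgroup.map_sup, h1, h2]
    have hle : DA.FF Q V0 x ⊔ ph Q ≤ Q := sup_le hx.F_le_Q (ph_le Q)
    obtain ⟨c, hc1, hc2⟩ := Lib.CoprimeCommutator.exists_fixed_in_coset p (zpowers x)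
      (DA.FF Q V0 x ⊔ ph Q) (by
        rintro ⟨y, hy⟩
        obtain ⟨k, rfl⟩ := mem_zpowers_iff.mp hy
        refine ⟨1, Subtype.ext ?_⟩
        rw [pow_one]
        show (x ^ k) ^ p = 1
        rw [← zpow_natCast, ← zpow_mul, mul_comm, zpow_mul, zpow_natCast, hx.xn, one_zpow])
      hnorm (not_dvd_two (hQ2.to_le hle) hR.p_eq) q (by
        intro y hy
        have hyL : y ∈ DA.LL V0 x := (zpowers_le.mpr hx.xLL) hy
        have h1 := hx.comm_L hyL hq
        have h2 := (mem_normalizer_iff.mp (hx.Q_F (inv_mem hq)) _).mp h1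
        rw [inv_inv] at h2
        have e : q⁻¹ * (y * q * y⁻¹ * q⁻¹) * q = q⁻¹ * (y * q * y⁻¹) := by group
        rw [e] at h2
        exact mem_sup_left h2)
    have hcQ : c ∈ Q := by
      have := mul_mem hq (hle hc2)
      rwa [mul_inv_cancel_left] at this
    have hcx : x * c = c * x := mem_centralizer_iff.mp hc1 x (mem_zpowers x)
    have hcph : c ∈ ph Q := hxfpf c hcQ (by
      rw [hcx, mul_inv_cancel_right, mul_inv_cancel]; exact one_mem _)
    have e : q = c * (q⁻¹ * c)⁻¹ := by group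
    rw [e]
    exact mul_mem (mem_sup_right hcph) (inv_mem hc2)
  -- `I = Φ(Q)`
  have hIQ : DA.II Q V0 x ≤ Q := DA.Ch.I_le_F.trans hx.F_le_Q
  have hI : DA.II Q V0 x = ph Q := by
    apply le_antisymm
    · intro i hi
      have h1 := hx.centI hx.xLL hi
      refine hxfpf i (hIQ hi) ?_
      rw [h1, mul_inv_cancel_right, mul_inv_cancel]
      exact one_mem _
    · refine ph_le_of hIQ ?_ ?_ ?_
      · refine le_normalizer_of fun q hq i hi => ?_
        have hqL : q ∈ DA.LL V0 x := hx.F_le_L (hF.symm ▸ hq)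
        rw [hx.centI hqL hi, mul_inv_cancel_right]
        exact hi
      · intro b hb c hc
        exact hx.comm_F (hF.symm ▸ hb) (hF.symm ▸ hc)
      · intro b hb
        rw [pow_two]
        exact hx.sq_F (hF.symm ▸ hb)
  -- orders
  have hcard := hx.card_F
  rw [hF, hI, hV0Q] at hcard
  have h16 : Nat.card (ph Q) * 16 = Nat.card Q := by
    have := relIndex_mul_relIndex ⊥ (ph Q) Q bot_le (ph_le Q)
    rwa [relIndex_bot_left, relIndex_bot_left, hi16] at this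
  have hZI : zc S ≤ ph Q := by
    rw [← hI]
    intro z hz
    have hzD : z ∈ V0 ⊓ Q := hV0Q.symm ▸ ⟨Z_le_V S P1 hz, Z_le_Q2 h hz⟩
    refine mem_inf.mpr ⟨hzD, ?_⟩
    rw [DA.mem_cj]
    have h1 : x * z = z * x := P2_Z h hx.xP hz
    have e : x⁻¹ * z * x = z := by rw [mul_assoc, ← h1, inv_mul_cancel_left]
    rw [e]
    exact hzD
  have hDV : V ⊓ Q < V := lt_of_le_of_ne inf_le_left (fun h0 => hn (inf_eq_left.mp h0))
  have hD8 : Nat.card (V ⊓ Q : Subgroup G) ≤ 8 := by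
    have h1 : Nat.card (V ⊓ Q : Subgroup G) * (V ⊓ Q).relIndex V = 16 := by
      have := relIndex_mul_relIndex ⊥ (V ⊓ Q) V bot_le inf_le_left
      rwa [relIndex_bot_left, relIndex_bot_left, hV16] at this
    have h2 : (V ⊓ Q).relIndex V ≠ 1 := fun h2 => hDV.not_ge (relIndex_eq_one.mp h2)
    have h3 : (V ⊓ Q).relIndex V ≠ 0 := by
      intro h0
      rw [h0, mul_zero] at h1
      omega
    have h4 : 2 ≤ (V ⊓ Q).relIndex V := by omega
    nlinarith only [h1, h4]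
  have hph : 2 ≤ Nat.card (ph Q) := by
    rw [← hZ2]
    exact Nat.card_le_card_of_injective _ (Subgroup.inclusion_injective hZI)
  have h5 : Nat.card (ph Q) ^ 2 * 16 = Nat.card (V ⊓ Q : Subgroup G) ^ 2 := by
    rw [← hcard, ← h16]; ring
  have h6 : 4 * Nat.card (ph Q) = Nat.card (V ⊓ Q : Subgroup G) := by
    have : (4 * Nat.card (ph Q)) ^ 2 = Nat.card (V ⊓ Q : Subgroup G) ^ 2 := by
      rw [← h5]; ring
    exact Nat.pow_left_injective (n := 2) (by norm_num) this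
  have h7 : Nat.card (ph Q) = 2 := by omega
  refine ⟨hax, hxfpf, ?_, by omega, by omega⟩
  exact (eq_of_le_of_card_ge hZI (by rw [h7, hZ2])).symm

/-- `|R_2| = 5`: the five conjugates of `D = V ∩ Q_2` under `⟨x⟩` cover `Q_2`. -/
theorem conj_five (h : Pair S P1 P2) {a x : G} (ha : a ∈ zl S P1) (hxP : x ∈ P2) (hx5 : x ^ 5 = 1)
    (hax : a * x * a⁻¹ * x ∈ o2 P2)
    (hfpf : ∀ q ∈ o2 P2, x * q * x⁻¹ * q⁻¹ ∈ ph (o2 P2) → q ∈ ph (o2 P2))
    (hph : ph (o2 P2) = zc S) (hZ : Nat.card (zc S) = 2)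
    (hD8 : Nat.card (zl S P1 ⊓ o2 P2 : Subgroup G) = 8) (hQ : Nat.card (o2 P2) = 32) :
    ∀ q ∈ o2 P2, ∃ g ∈ P2, g * q * g⁻¹ ∈ zl S P1 ⊓ o2 P2 := by
  set V := zl S P1 with hVdef
  set Q := o2 P2 with hQdef
  have hQ2 : IsPGroup 2 Q := o2_isPGroup P2
  have hphn : P2 ≤ normalizer (ph Q : Set G) := (P2_Q2 h).trans (normalizer_le_ph _)
  have haP : a ∈ P2 := le2 h (V_le h ha)
  let f : Fin 5 → Subgroup G := fun k => DA.cj (x ^ (k : ℕ)) (V ⊓ Q)
  have hxk : ∀ k : ℕ, x ^ k ∈ P2 := fun k => pow_mem hxP k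
  have hIf : ∀ k, ph Q ≤ f k := by
    intro k z hz
    rw [DA.mem_cj]
    rw [hph] at hz
    have h1 : x ^ (k : ℕ) * z = z * x ^ (k : ℕ) := P2_Z h (hxk _) hz
    have e : (x ^ (k : ℕ))⁻¹ * z * x ^ (k : ℕ) = z := by
      rw [mul_assoc, ← h1, inv_mul_cancel_left]
    rw [e]
    exact ⟨Z_le_V S P1 hz, Z_le_Q2 h hz⟩
  have hfQ : ∀ k, f k ≤ Q := by
    rintro k _ ⟨d, hd, rfl⟩
    exact conj_mem (P2_Q2 h) (hxk _) hd.2
  have hf8 : ∀ k, Nat.card (f k) = 8 := by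
    intro k
    rw [← hD8]
    exact card_map_of_injective (MulAut.conj (x ^ (k : ℕ))).injective
  -- `D ∩ D^{x^k} ≤ I`
  have key : ∀ k : ℕ, k.Coprime 5 → ∀ e ∈ V ⊓ Q, x ^ k * e * (x ^ k)⁻¹ ∈ V ⊓ Q →
      x ^ k * e * (x ^ k)⁻¹ ∈ ph Q := by
    intro k hk e he hf
    set g := x ^ k * e * (x ^ k)⁻¹ with hg
    -- `a` and `x^k a x^{-k}` centralise `g`
    have c1 : a ∈ st hphn g := by
      refine ⟨haP, ?_⟩
      rw [V_comm h a ha g hf.1, mul_inv_cancel_right, mul_inv_cancel]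
      exact one_mem _
    have c2 : x ^ k * a * (x ^ k)⁻¹ ∈ st hphn g := by
      apply conj_mem_st (hxk k)
      refine ⟨haP, ?_⟩
      rw [V_comm h a ha e he.1, mul_inv_cancel_right, mul_inv_cancel]
      exact one_mem _
    have hq := inv_pow_mem (P2_Q2 h) hxP hax k
    set q := a * x ^ k * a⁻¹ * x ^ k with hqdef
    have c3 : x ^ (2 * k) * q⁻¹ ∈ st hphn g := by
      have e1 : x ^ (2 * k) * q⁻¹ = x ^ k * a * (x ^ k)⁻¹ * a⁻¹ := by
        rw [hqdef, two_mul, pow_add]; group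
      rw [e1]
      exact mul_mem c2 (inv_mem c1)
    have c4 : q ∈ st hphn g := ⟨o2_le P2 hq, comm_mem_ph hQ2 hq hf.2⟩
    have c5 : x ^ (2 * k) ∈ st hphn g := by
      have := mul_mem c3 c4
      rwa [inv_mul_cancel_right] at this
    have c6 : x ∈ st hphn g := mem_of_pow_mem hx5 (Nat.Coprime.mul_left (by norm_num) hk) c5
    exact hfpf g hf.2 c6.2
  have hd : ∀ k l, k ≠ l → f k ⊓ f l ≤ ph Q := by
    have aux : ∀ k l : Fin 5, k < l → f k ⊓ f l ≤ ph Q := by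
      intro k l hkl g hg
      obtain ⟨h1, h2⟩ := mem_inf.mp hg
      rw [DA.mem_cj] at h1 h2
      set e := (x ^ (l : ℕ))⁻¹ * g * x ^ (l : ℕ) with he
      have hkl' : (k : ℕ) < (l : ℕ) := hkl
      have e1 : x ^ ((l : ℕ) - k) * e * (x ^ ((l : ℕ) - k))⁻¹ =
          (x ^ (k : ℕ))⁻¹ * g * x ^ (k : ℕ) := by
        have e2 : x ^ (l : ℕ) = x ^ (k : ℕ) * x ^ ((l : ℕ) - k) := by
          rw [← pow_add]; congr 1; omega
        rw [he, e2]; group
      have h3 := key ((l : ℕ) - k) (by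
        have h5 : (l : ℕ) < 5 := l.2
        have : (l : ℕ) - k < 5 := by omega
        have h0 : 0 < (l : ℕ) - k := by omega
        generalize (l : ℕ) - k = m at this h0
        interval_cases m <;> norm_num) e h2 (e1 ▸ h1)
      rw [e1] at h3
      have h4 := conj_mem hphn (hxk k) h3
      have e3 : x ^ (k : ℕ) * ((x ^ (k : ℕ))⁻¹ * g * x ^ (k : ℕ)) * (x ^ (k : ℕ))⁻¹ = g := by group
      rwa [e3] at h4
    intro k l hkl
    rcases lt_or_gt_of_ne hkl with h1 | h1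
    · exact aux k l h1
    · rw [inf_comm]; exact aux l k h1
  intro q hq
  obtain ⟨k, hk⟩ := cover_five f hIf hfQ (hph ▸ hZ) hf8 hQ hd q hq
  refine ⟨(x ^ (k : ℕ))⁻¹, inv_mem (hxk k), ?_⟩
  rw [DA.mem_cj] at hk
  rwa [inv_inv]

/-- `|R_2| = 9`: one half of the decomposition `W = C_W(y'') × C_W(y')`. -/
theorem conj_nine_aux (h : Pair S P1 P2) {R : Subgroup G} {p : ℕ} (hR : Defs.Par S P2 R p) {a : G}
    (ha : a ∈ zl S P1) (hinv : ∀ r ∈ R, a * r * a⁻¹ * r ∈ o2 P2) {y y' : G} (hy : y ∈ R)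
    (hy' : y' ∈ R) (hy3 : y ^ 3 = 1) {A A' : Subgroup G} (hBA : ph (o2 P2) ≤ A)
    (hAQ : A ≤ o2 P2)
    (hi : (ph (o2 P2)).relIndex A = 4) (hinf : A ⊓ A' = ph (o2 P2))
    (hA : ∀ q ∈ o2 P2, q ∈ A ↔ y' * q * y'⁻¹ * q⁻¹ ∈ ph (o2 P2))
    (hA' : ∀ q ∈ o2 P2, q ∈ A' ↔ y * q * y⁻¹ * q⁻¹ ∈ ph (o2 P2)) (hph : ph (o2 P2) = zc S) :
    ∀ g ∈ A, ∃ k : ℕ, y ^ k * g * (y ^ k)⁻¹ ∈ zl S P1 ⊓ o2 P2 := by
  set V := zl S P1 with hVdef
  set Q := o2 P2 with hQdef
  have hQ2 : IsPGroup 2 Q := o2_isPGroup P2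
  have hphn : P2 ≤ normalizer (ph Q : Set G) := (P2_Q2 h).trans (normalizer_le_ph _)
  have haP : a ∈ P2 := le2 h (V_le h ha)
  have hyP : y ∈ P2 := hR.R_le hy
  have hyP' : y' ∈ P2 := hR.R_le hy'
  have hQst : ∀ q ∈ Q, ∀ g ∈ Q, q ∈ st hphn g := fun q hq g hg =>
    ⟨o2_le P2 hq, comm_mem_ph hQ2 hq hg⟩
  -- `y` acts fixed point freely on `A / B`
  have hfpf : ∀ g ∈ A, y * g * y⁻¹ * g⁻¹ ∈ ph Q → g ∈ ph Q := by
    intro g hg h1
    rw [← hinf]
    exact ⟨hg, (hA' g (hAQ hg)).mpr h1⟩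
  -- `A` is normalised by `R`
  have hRA : ∀ r ∈ R, ∀ g ∈ A, r * g * r⁻¹ ∈ A := by
    intro r hr g hg
    have hrP : r ∈ P2 := hR.R_le hr
    have h1 : r * g * r⁻¹ ∈ Q := conj_mem (P2_Q2 h) hrP (hAQ hg)
    refine (hA _ h1).mpr ?_
    have h2 : y' ∈ st hphn g := ⟨hyP', (hA g (hAQ hg)).mp hg⟩
    have h3 := conj_mem_st hrP h2
    have e : r * y' * r⁻¹ = y' := by rw [hR.comm_R r hr y' hy', mul_inv_cancel_right]
    rw [e] at h3
    exact h3.2
  have hyA : y ∈ normalizer (A : Set G) :=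
    (le_normalizer_of (A := R) (B := A) hRA) hy
  -- `a` normalises `A`
  have haA : ∀ g ∈ A, a * g * a⁻¹ ∈ A := by
    intro g hg
    have h1 : a * g * a⁻¹ ∈ Q := conj_mem (P2_Q2 h) haP (hAQ hg)
    refine (hA _ h1).mpr ?_
    have h2 : y' ∈ st hphn g := ⟨hyP', (hA g (hAQ hg)).mp hg⟩
    -- `a y' a⁻¹ y' = q`
    have h3 := conj_mem_st haP h2
    have h4 := hinv y' hy'
    have h5 : y' ∈ st hphn (a * g * a⁻¹) := by
      have e : y' = (a * y' * a⁻¹)⁻¹ * (a * y' * a⁻¹ * y') := by group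
      rw [e]
      exact mul_mem (inv_mem h3) (hQst _ h4 _ h1)
    exact h5.2
  -- `a` moves some coset
  obtain ⟨d, hdA, hdD, hdB⟩ : ∃ d ∈ A, d ∈ V ⊓ Q ∧ d ∉ ph Q := by
    by_contra hno
    push Not at hno
    have hall : ∀ g ∈ A, a ∈ st hphn g := by
      intro g hg
      refine ⟨haP, hno _ (mul_mem (haA g hg) (inv_mem hg)) (mem_inf.mpr ⟨?_, ?_⟩)⟩
      · have e : a * g * a⁻¹ * g⁻¹ = a * (g * a⁻¹ * g⁻¹) := by group
        rw [e]
        exact mul_mem ha (conj_mem (Q2_V h) (hAQ hg) (inv_mem ha))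
      · exact mul_mem (conj_mem (P2_Q2 h) haP (hAQ hg)) (inv_mem (hAQ hg))
    have hAB : A ≤ ph Q := by
      intro g hg
      -- `y a y⁻¹` stabilises `g` too
      have h1 : y⁻¹ * g * y ∈ A := by
        have := hRA y⁻¹ (inv_mem hy) g hg
        rwa [inv_inv] at this
      have h2 := conj_mem_st hyP (hall _ h1)
      have e : y * (y⁻¹ * g * y) * y⁻¹ = g := by group
      rw [e] at h2
      have h3 : y * a * y⁻¹ * a⁻¹ ∈ st hphn g := mul_mem h2 (inv_mem (hall g hg))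
      have h4 := hinv y hy
      have h5 : y ^ 2 ∈ st hphn g := by
        have e : y ^ 2 = (y * a * y⁻¹ * a⁻¹) * (a * y * a⁻¹ * y) := by rw [pow_two]; group
        rw [e]
        exact mul_mem h3 (hQst _ h4 _ (hAQ hg))
      have h6 : y ∈ st hphn g := mem_of_pow_mem hy3 (by norm_num) h5
      exact hfpf g hg h6.2
    rw [relIndex_eq_one.mpr hAB] at hi
    exact absurd hi (by norm_num)
  intro g hg
  obtain ⟨k, hk⟩ := orbit_four hphn (hAQ.trans (o2_le P2)) hi hyP hy3 hyA hfpf hdA hdB hg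
  refine ⟨k, ?_⟩
  have hBD : ph Q ≤ V ⊓ Q := by
    rw [hph]
    exact fun z hz => ⟨Z_le_V S P1 hz, Z_le_Q2 h hz⟩
  rcases hk with hk | hk
  · exact hBD hk
  · have := mul_mem hdD (hBD hk)
    rwa [mul_inv_cancel_left] at this

/-- `|R_2| = 9`: every element of `Q_2` is conjugate into `D`. -/
theorem conj_nine (h : Pair S P1 P2) {R : Subgroup G} {p : ℕ} (hR : Defs.Par S P2 R p)
    (h9 : Nat.card R = 9) {a : G} (ha : a ∈ zl S P1) (hinv : ∀ r ∈ R, a * r * a⁻¹ * r ∈ o2 P2)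
    (hph : ph (o2 P2) = zc S) : ∀ q ∈ o2 P2, ∃ g ∈ P2, g * q * g⁻¹ ∈ zl S P1 ⊓ o2 P2 := by
  set V := zl S P1 with hVdef
  set Q := o2 P2 with hQdef
  have hQ2 : IsPGroup 2 Q := o2_isPGroup P2
  have hphn : P2 ≤ normalizer (ph Q : Set G) := (P2_Q2 h).trans (normalizer_le_ph _)
  obtain ⟨y, hy, y', hy', A, A', hBA, hBA', hsup, hinf, hiA, hiA', hy3, hy3', hA, hA'⟩ :=
    structure9 h.hyp hR h9 (sect_ph hR)
  rw [← hQdef] at hsup
  have hAQ : A ≤ Q := le_sup_left.trans hsup.le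
  have hAQ' : A' ≤ Q := le_sup_right.trans hsup.le
  have k1 := conj_nine_aux h hR ha hinv hy hy' hy3 hBA hAQ hiA hinf hA hA' hph
  have k2 := conj_nine_aux h hR ha hinv hy' hy hy3' hBA' hAQ' hiA' (by rw [inf_comm]; exact hinf)
    hA' hA hph
  have hQst : ∀ q ∈ Q, ∀ g ∈ Q, q ∈ st hphn g := fun q hq g hg =>
    ⟨o2_le P2 hq, comm_mem_ph hQ2 hq hg⟩
  have hBD : ph Q ≤ V ⊓ Q := by
    rw [hph]
    exact fun z hz => ⟨Z_le_V S P1 hz, Z_le_Q2 h hz⟩
  have hQD : Q ≤ normalizer ((V ⊓ Q : Subgroup G) : Set G) :=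
    le_normalizer_of fun q hq v hv => ⟨conj_mem (Q2_V h) hq hv.1, conj_mem le_normalizer hq hv.2⟩
  intro q hq
  -- `q = g g'`
  have hnA : A' ≤ normalizer (A : Set G) := by
    refine le_normalizer_of fun b hb c hc => ?_
    have h1 : b * c * b⁻¹ * c⁻¹ ∈ A := hBA (comm_mem_ph hQ2 (hAQ' hb) (hAQ hc))
    have h2 := mul_mem h1 hc
    rwa [inv_mul_cancel_right] at h2
  rw [← hsup, ← SetLike.mem_coe, coe_mul_of_right_le_normalizer_left _ _ hnA] at hq
  obtain ⟨g, hg, g', hg', rfl⟩ := hq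
  obtain ⟨k, hk⟩ := k1 g hg
  obtain ⟨l, hl⟩ := k2 g' hg'
  have hyP : y ∈ P2 := hR.R_le hy
  have hyP' : y' ∈ P2 := hR.R_le hy'
  have c1 : y' ^ l ∈ st hphn g := pow_mem (show y' ∈ st hphn g from ⟨hyP', (hA g (hAQ hg)).mp hg⟩) l
  have c2 : y ^ k ∈ st hphn g' :=
    pow_mem (show y ∈ st hphn g' from ⟨hyP, (hA' g' (hAQ' hg')).mp hg'⟩) k
  have hcomm : y ^ k * y' ^ l = y' ^ l * y ^ k := by
    have : Commute y y' := hR.comm_R y hy y' hy'
    exact this.pow_pow k l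
  refine ⟨y ^ k * y' ^ l, mul_mem (pow_mem hyP k) (pow_mem hyP' l), ?_⟩
  have e : y ^ k * y' ^ l * (g * g') * (y ^ k * y' ^ l)⁻¹ =
      ((y ^ k * (y' ^ l * g * (y' ^ l)⁻¹ * g⁻¹) * (y ^ k)⁻¹) * (y ^ k * g * (y ^ k)⁻¹)) *
      ((y' ^ l * (y ^ k * g' * (y ^ k)⁻¹ * g'⁻¹) * (y' ^ l)⁻¹) * (y' ^ l * g' * (y' ^ l)⁻¹)) := by
    have e1 : y ^ k * y' ^ l * (g * g') * (y ^ k * y' ^ l)⁻¹ =
      (y ^ k * y' ^ l * g * (y ^ k * y' ^ l)⁻¹) * (y' ^ l * y ^ k * g' * (y' ^ l * y ^ k)⁻¹) := by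
      rw [← hcomm]; group
    rw [e1]; group
  rw [show (fun x1 x2 => x1 * x2) g g' = g * g' from rfl, e]
  exact mul_mem (mul_mem (hBD (conj_mem hphn (pow_mem hyP k) c1.2)) hk)
    (mul_mem (hBD (conj_mem hphn (pow_mem hyP' l) c2.2)) hl)

/-- An elementary abelian 2-subgroup has order at most 16. -/
theorem card_le_of_sq (hG : SectionalPRankLE 2 4 G) {Q : Subgroup G} (hs : ∀ q ∈ Q, q ^ 2 = 1) :
    Nat.card Q ≤ 16 := by
  have h1 := hG Q ⊥
  have hcomm : ∀ a b : Q, a * b = b * a := by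
    intro a b
    have ha : a * a = 1 := Subtype.ext (by have := hs a a.2; rwa [pow_two] at this)
    have hb : b * b = 1 := Subtype.ext (by have := hs b b.2; rwa [pow_two] at this)
    have hab : (a * b) * (a * b) = 1 := Subtype.ext (by
      have := hs (a * b) (a * b).2; rwa [pow_two] at this)
    calc a * b = a * (a * b * (a * b)) * b := by rw [hab]; group
      _ = (a * a) * (b * a) * (b * b) := by group
      _ = b * a := by rw [ha, hb]; group
  have h2 := h1 ⊤ (by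
    refine ⟨⟨?_⟩⟩
    rintro ⟨x, -⟩ ⟨y, -⟩
    refine Subtype.ext ?_
    induction x using QuotientGroup.induction_on with | H x =>
    induction y using QuotientGroup.induction_on with | H y =>
    show ((x * y : Q) : Q ⧸ (⊥ : Subgroup Q)) = ((y * x : Q) : Q ⧸ (⊥ : Subgroup Q))
    rw [hcomm]) (by
    intro x _
    induction x using QuotientGroup.induction_on with | H x =>
    rw [← QuotientGroup.mk_pow]
    have : x ^ 2 = 1 := Subtype.ext (hs x x.2)
    rw [this]; rfl)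
  have h3 : Nat.card (⊤ : Subgroup (Q ⧸ (⊥ : Subgroup Q))) = Nat.card Q := by
    rw [Subgroup.card_top]
    exact Nat.card_congr (QuotientGroup.quotientBot (G := Q)).toEquiv
  rw [h3] at h2
  exact h2

/-- **(1a)** `P_2` is of type S3. -/
theorem card_R2 (h : Pair S P1 P2) (hn : ¬ zl S P1 ≤ o2 P2) {R : Subgroup G} {p : ℕ}
    (hR : Defs.Par S P2 R p) : Nat.card R = 3 := by
  by_contra h3
  obtain ⟨a, ha, haQ, hinv, x, hxP, hxp, hax, hfpf, hph, hD8, hQ32⟩ := exists_cfg h hn hR h3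
  have hconj : ∀ q ∈ o2 P2, ∃ g ∈ P2, g * q * g⁻¹ ∈ zl S P1 ⊓ o2 P2 := by
    rcases hR.card_R with h4 | ⟨-, h4⟩
    · have hp5 : p = 5 := by
        rcases hR.p_eq with rfl | rfl
        · exact absurd h4 h3
        · rfl
      subst hp5
      exact conj_five h ha hxP hxp hax hfpf hph (card_Z h hn) hD8 hQ32
    · exact conj_nine h hR h4 ha hinv hph
  have hsq : ∀ q ∈ o2 P2, q ^ 2 = 1 := by
    intro q hq
    obtain ⟨g, hg, hgq⟩ := hconj q hq
    have h1 := V_sq h _ hgq.1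
    rw [conj_pow] at h1
    have h2 : q ^ 2 = g⁻¹ * (g * q ^ 2 * g⁻¹) * g := by group
    rw [h2, h1]; group
  have := card_le_of_sq h.hyp.rank hsq
  omega

end Cfsg.Agent.SectRankFour.C2.BOneFour
end

-- part: SectRankFour/C2/OneB
section
prune_inst 0x100000402200000000000000001c4282000000000b00010000000004888c4000000620802002000000080400300060030000000010000000000000411c0080000200020000a000010000008000000000000000000000000000000000000000000000000
set_option linter.all false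
open scoped Cfsg.Agent.FastGrp

/-!
# S0517, section (1b): `V ≰ Q₂`, `P₂` of type `S₃`

The core of the argument, in terms of elements.
-/

set_option autoImplicit false

namespace Cfsg.Agent.SectRankFour.C2.OneB

open Subgroup Cfsg.Agent.SectRankFour.C2.DA Cfsg.Agent.MinSimple.Killing

variable {G : Type*} [Group G]

/-- `V = V₁ × V₂`, and `y` of order three centralises `V₁` and acts fixed point freely on `V₂`. -/
structure Dec (P V V1 V2 : Subgroup G) (y : G) : Prop where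
  cV : ∀ g ∈ P, (∀ v ∈ V, g * v = v * g) → g ∈ V
  comm : ∀ v ∈ V, ∀ w ∈ V, v * w = w * v
  sq : ∀ v ∈ V, v * v = 1
  le1 : V1 ≤ V
  le2 : V2 ≤ V
  dec : ∀ v ∈ V, ∃ v1 ∈ V1, ∃ v2 ∈ V2, v = v1 * v2
  inf : ∀ v ∈ V1, v ∈ V2 → v = 1
  card2 : Nat.card V2 = 4
  yP : y ∈ P
  y3 : y ^ 3 = 1
  yV1 : ∀ v ∈ V1, y * v = v * y
  yV2 : ∀ v ∈ V2, y * v * y⁻¹ ∈ V2
  fpf : ∀ v ∈ V2, y * v = v * y → v = 1

/-- a group of order four -/
theorem four {W : Subgroup G} (hc : Nat.card W = 4) {c w : G} (hcW : c ∈ W) (hwW : w ∈ W)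
    (hc1 : c ≠ 1) (hw1 : w ≠ 1) (hwc : w ≠ c) (hsq : ∀ v ∈ W, v * v = 1) :
    ∀ v ∈ W, v = 1 ∨ v = c ∨ v = w ∨ v = w * c := by
  classical
  intro v hv
  have hfin : Finite W := Nat.finite_of_card_ne_zero (by rw [hc]; norm_num)
  have : Fintype W := Fintype.ofFinite W
  let f : Fin 4 → W := ![1, ⟨c, hcW⟩, ⟨w, hwW⟩, ⟨w * c, mul_mem hwW hcW⟩]
  have hc2 : c * c = 1 := hsq c hcW
  have hwc2 : w * c ≠ 1 := by
    intro h
    apply hwc
    calc w = w * c * c := by rw [mul_assoc, hc2, mul_one]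
      _ = c := by rw [h, one_mul]
  have hf : Function.Injective f := by
    intro i j hij
    have hij' : ((f i : W) : G) = f j := congrArg Subtype.val hij
    fin_cases i <;> fin_cases j <;> simp only [f, _root_.Fin.zero_eta, _root_.Fin.isValue, _root_.Matrix.cons_val_zero, _root_.OneMemClass.coe_one, _root_.Fin.mk_one, _root_.Matrix.cons_val_one, _root_.zero_ne_one, _root_.Fin.reduceFinMk, _root_.Matrix.cons_val, _root_.Fin.reduceEq, _root_.one_ne_zero, _root_.right_eq_mul, _root_.left_eq_mul, _root_.mul_eq_right, _root_.mul_eq_left] at hij' ⊢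
    · exact hc1 hij'.symm
    · exact hw1 hij'.symm
    · exact hwc2 hij'.symm
    · exact hc1 hij'
    · exact hwc hij'.symm
    · exact hw1 hij'
    · exact hw1 hij'
    · exact hwc hij'
    · exact hc1 hij'
    · exact hwc2 hij'
    · exact hw1 hij'
    · exact hc1 hij'
  have hbij : Function.Bijective f := by
    rw [Fintype.bijective_iff_injective_and_card]
    refine ⟨hf, ?_⟩
    rw [Fintype.card_fin, ← Nat.card_eq_fintype_card, hc]
  obtain ⟨i, hi⟩ := hbij.2 ⟨v, hv⟩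
  have hi' : ((f i : W) : G) = v := congrArg Subtype.val hi
  fin_cases i
  · left; simpa [f] using hi'.symm
  · right; left; simpa [f] using hi'.symm
  · right; right; left; simpa [f] using hi'.symm
  · right; right; right; simpa [f] using hi'.symm

namespace Dec

variable {P V V1 V2 : Subgroup G} {y : G}

theorem y_ne (h : Dec P V V1 V2 y) {c : G} (hc : c ∈ V2) (hc1 : c ≠ 1) : y * c * y⁻¹ ≠ c := by
  intro h1
  refine hc1 (h.fpf c hc ?_)
  calc y * c = y * c * y⁻¹ * y := by group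
    _ = c * y := by rw [h1]

/-- the elements of `V2` -/
theorem four (h : Dec P V V1 V2 y) {c : G} (hc : c ∈ V2) (hc1 : c ≠ 1) :
    ∀ v ∈ V2, v = 1 ∨ v = c ∨ v = y * c * y⁻¹ ∨ v = y * c * y⁻¹ * c :=
  OneB.four h.card2 hc (h.yV2 c hc) hc1 (fun h1 => hc1 (by
    have h2 : c = y⁻¹ * (y * c * y⁻¹) * y := by group
    rw [h2, h1]; group)) (h.y_ne hc hc1) (fun v hv => h.sq v (h.le2 hv))

/-- `c^{y²} = c^y c` -/
theorem y_sq (h : Dec P V V1 V2 y) {c : G} (hc : c ∈ V2) (hc1 : c ≠ 1) :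
    y * (y * c * y⁻¹) * y⁻¹ = y * c * y⁻¹ * c := by
  have hm := h.yV2 _ (h.yV2 c hc)
  have h3 : y * y * y = 1 := by
    have := h.y3
    rwa [pow_succ, pow_two] at this
  rcases h.four hc hc1 _ hm with h1 | h1 | h1 | h1
  · exfalso
    apply hc1
    have h2 : c = y⁻¹ * (y⁻¹ * (y * (y * c * y⁻¹) * y⁻¹) * y) * y := by group
    rw [h2, h1]; group
  · exfalso
    -- `c^{y^2} = c` and `y^3 = 1` imply `c^y = c`
    apply h.y_ne hc hc1
    have h2 : y * c * y⁻¹ = y * (y * (y * c * y⁻¹) * y⁻¹) * y⁻¹ := by rw [h1]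
    rw [h2]
    have h4 : y * (y * (y * c * y⁻¹) * y⁻¹) * y⁻¹ = (y * y * y) * c * (y * y * y)⁻¹ := by group
    rw [h4, h3]; group
  · exfalso
    apply h.y_ne hc hc1
    have h2 : y * c * y⁻¹ = y⁻¹ * (y * (y * c * y⁻¹) * y⁻¹) * y := by group
    rw [h2, h1]; group
  · exact h1

/-- every element of `V2` is `[w, y]`, `w ∈ V2` -/
theorem exists_comm (h : Dec P V V1 V2 y) {u : G} (hu : u ∈ V2) :
    ∃ w ∈ V2, w * (y * w * y⁻¹)⁻¹ = u := by
  have hfin : Finite V2 := Nat.finite_of_card_ne_zero (by rw [h.card2]; norm_num)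
  let f : V2 → V2 := fun w => ⟨w * (y * w * y⁻¹)⁻¹, mul_mem w.2 (inv_mem (h.yV2 _ w.2))⟩
  have hf : Function.Injective f := by
    intro w w' hww
    have h1 : (w : G) * (y * w * y⁻¹)⁻¹ = w' * (y * w' * y⁻¹)⁻¹ := congrArg Subtype.val hww
    have aux : ∀ a b : G, a * (y * a * y⁻¹)⁻¹ = b * (y * b * y⁻¹)⁻¹ →
        y * (b⁻¹ * a) = b⁻¹ * a * y := by
      intro a b e
      have h4 : a = b * (y * b * y⁻¹)⁻¹ * (y * a * y⁻¹) := by rw [← e]; group
      have h5 : b⁻¹ * a = y * (b⁻¹ * a) * y⁻¹ := by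
        calc b⁻¹ * a = b⁻¹ * (b * (y * b * y⁻¹)⁻¹ * (y * a * y⁻¹)) := by rw [← h4]
          _ = y * (b⁻¹ * a) * y⁻¹ := by group
      calc y * (b⁻¹ * a) = y * (b⁻¹ * a) * y⁻¹ * y := by group
        _ = b⁻¹ * a * y := by rw [← h5]
    have h2 : ((w' : G)⁻¹ * (w : G)) = 1 :=
      h.fpf _ (mul_mem (inv_mem w'.2) w.2) (aux _ _ h1)
    exact Subtype.ext (inv_mul_eq_one.mp h2).symm
  obtain ⟨w, hw⟩ := (Finite.injective_iff_surjective.mp hf) ⟨u, hu⟩
  exact ⟨w, w.2, congrArg Subtype.val hw⟩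

/-- the final contradiction -/
theorem kill [Finite G] (h : Dec P V V1 V2 y)
    (hL : ∀ U : Subgroup G, IsPGroup 2 U → U ≠ ⊥ → Group.IsSolvable (normalizer (U : Set G)))
    {c1 c2 z x g f : G} (hc1 : c1 ∈ V1) (hc2 : c2 ∈ V2) (hc2' : c2 ≠ 1) (hz : z = c1 * c2)
    (hgP : g ∈ P) (hg2 : ∀ v ∈ V2, g * v = v * g) (hg1 : ∀ v ∈ V1, g * v * g⁻¹ ∈ V1)
    (hgg : g * g = 1 ∨ g * g = z) (hgne : g ≠ 1) (hgnz : g ≠ z)
    (hxg : x * g = g * x) (hxz : x * z = z * x) (hgz : z * g = g * z) (hf : f = x * c2 * x⁻¹) (hfP : f ∈ P)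
    (hf1 : ∀ v ∈ V1, f * v * f⁻¹ ∈ V1) (hf2 : ∀ v ∈ V2, f * v * f⁻¹ ∈ V2)
    (hfc : f * c2 = c2 * f) (hfn : ∃ v ∈ V2, f * v ≠ v * f) : False := by
  have hcV : ∀ v ∈ V, ∀ w ∈ V, v * w = w * v := h.comm
  have hc2V := h.le2 hc2
  have hc1V := h.le1 hc1
  have hzV : z ∈ V := by rw [hz]; exact mul_mem hc1V hc2V
  have hinv : ∀ v ∈ V, v⁻¹ = v := fun v hv => inv_eq_of_mul_eq_one_left (h.sq v hv)
  set d := y * c2 * y⁻¹ with hd
  have hdV2 : d ∈ V2 := h.yV2 c2 hc2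
  have hdV := h.le2 hdV2
  have h4 := h.four hc2 hc2'
  -- `f` maps `d` to `d c2`
  have hfd : f * d * f⁻¹ = d * c2 := by
    obtain ⟨v, hv, hvf⟩ := hfn
    have hfcc : f * c2 * f⁻¹ = c2 := by rw [hfc]; group
    have hne : f * d ≠ d * f := by
      intro h5
      apply hvf
      rcases h4 v hv with h6 | h6 | h6 | h6
      · rw [h6]; group
      · rw [h6]; exact hfc
      · rw [h6]; exact h5
      · rw [h6, ← hd]
        calc f * (d * c2) = f * d * c2 := by group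
          _ = d * (f * c2) := by rw [h5]; group
          _ = d * c2 * f := by rw [hfc]; group
    rcases h4 _ (hf2 d hdV2) with h6 | h6 | h6 | h6
    · exfalso
      have h7 : d = 1 := by
        have h8 : d = f⁻¹ * (f * d * f⁻¹) * f := by group
        rw [h8, h6]; group
      exact h.y_ne hc2 hc2' (by
        exfalso
        have h9 : c2 = y⁻¹ * d * y := by rw [hd]; group
        exact hc2' (by rw [h9, h7]; group))
    · exfalso
      apply h.y_ne hc2 hc2'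
      have h8 : d = f⁻¹ * (f * d * f⁻¹) * f := by group
      rw [← hd, h8, h6]
      calc f⁻¹ * c2 * f = f⁻¹ * (c2 * f) := by group
        _ = f⁻¹ * (f * c2) := by rw [hfc]
        _ = c2 := by group
    · exfalso
      apply hne
      calc f * d = f * d * f⁻¹ * f := by group
        _ = d * f := by rw [h6]
    · exact h6
  have hfc' : f * c2 * f⁻¹ = c2 := by rw [hfc]; group
  have hyd : y * d * y⁻¹ = d * c2 := h.y_sq hc2 hc2'
  have hc2c2 : c2 * c2 = 1 := h.sq c2 hc2V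
  have hydc : y * (d * c2) * y⁻¹ = c2 := by
    have h5 : y * (d * c2) * y⁻¹ = (y * d * y⁻¹) * (y * c2 * y⁻¹) := by group
    rw [h5, hyd, ← hd, hcV d hdV c2 hc2V, mul_assoc, h.sq d hdV, mul_one]
  have hyid : y⁻¹ * d * y = c2 := by rw [hd]; group
  -- step (f): `y g y⁻¹ = g v`
  have hyconj1 : ∀ v ∈ V1, y * v * y⁻¹ = v := fun v hv => by rw [h.yV1 v hv]; group
  have hyconj1' : ∀ v ∈ V1, y⁻¹ * v * y = v := fun v hv => by
    have := h.yV1 v hv
    calc y⁻¹ * v * y = y⁻¹ * (v * y) := by group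
      _ = y⁻¹ * (y * v) := by rw [this]
      _ = v := by group
  -- `y⁻¹` maps `V2` to `V2`
  have hyV2' : ∀ v ∈ V2, y⁻¹ * v * y ∈ V2 := by
    intro v hv
    have h3 : y * y * y = 1 := by
      have := h.y3
      rwa [pow_succ, pow_two] at this
    have h5 : y⁻¹ = y * y := by
      rw [inv_eq_iff_mul_eq_one, ← mul_assoc]; exact h3
    have h6 : y⁻¹ * v * y = y * (y * v * y⁻¹) * y⁻¹ := by
      calc y⁻¹ * v * y = y⁻¹ * v * (y⁻¹)⁻¹ := by group
        _ = (y * y) * v * (y * y)⁻¹ := by rw [h5]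
        _ = _ := by group
    rw [h6]
    exact h.yV2 _ (h.yV2 v hv)
  have hg2' : ∀ v ∈ V2, g⁻¹ * v * g = v := fun v hv => by
    have := hg2 v hv
    calc g⁻¹ * v * g = g⁻¹ * (v * g) := by group
      _ = g⁻¹ * (g * v) := by rw [this]
      _ = v := by group
  -- `g⁻¹` maps `V1` to `V1`: `g * g` centralises `V`
  have hggV : ∀ v ∈ V, g * g * v = v * (g * g) := by
    intro v hv
    rcases hgg with h5 | h5
    · rw [h5]; group
    · rw [h5]; exact hcV z hzV v hv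
  have hg1' : ∀ v ∈ V1, g⁻¹ * v * g ∈ V1 := by
    intro v hv
    have h5 : g⁻¹ * v * g = g * v * g⁻¹ := by
      have h6 := hggV v (h.le1 hv)
      calc g⁻¹ * v * g = g⁻¹ * (v * (g * g)) * g⁻¹ := by group
        _ = g⁻¹ * (g * g * v) * g⁻¹ := by rw [h6]
        _ = g * v * g⁻¹ := by group
    rw [h5]; exact hg1 v hv
  have hv0 : g⁻¹ * (y * g * y⁻¹) ∈ V := by
    refine h.cV _ (mul_mem (inv_mem hgP) (mul_mem (mul_mem h.yP hgP) (inv_mem h.yP))) ?_
    intro v hv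
    obtain ⟨v1, hv1, v2, hv2, rfl⟩ := h.dec v hv
    -- acts trivially on `v1` and on `v2`
    have e1 : g⁻¹ * (y * g * y⁻¹) * v1 * (g⁻¹ * (y * g * y⁻¹))⁻¹ = v1 := by
      have h5 : g⁻¹ * (y * g * y⁻¹) * v1 * (g⁻¹ * (y * g * y⁻¹))⁻¹ =
          g⁻¹ * (y * (g * (y⁻¹ * v1 * y) * g⁻¹) * y⁻¹) * g := by group
      rw [h5, hyconj1' v1 hv1, hyconj1 _ (hg1 v1 hv1)]; group
    have e2 : g⁻¹ * (y * g * y⁻¹) * v2 * (g⁻¹ * (y * g * y⁻¹))⁻¹ = v2 := by
      have h5 : g⁻¹ * (y * g * y⁻¹) * v2 * (g⁻¹ * (y * g * y⁻¹))⁻¹ =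
          g⁻¹ * (y * (g * (y⁻¹ * v2 * y) * g⁻¹) * y⁻¹) * g := by group
      have h6 : g * (y⁻¹ * v2 * y) * g⁻¹ = y⁻¹ * v2 * y := by
        rw [hg2 _ (hyV2' v2 hv2)]; group
      rw [h5, h6]
      have h7 : y * (y⁻¹ * v2 * y) * y⁻¹ = v2 := by group
      rw [h7, hg2' v2 hv2]
    set k := g⁻¹ * (y * g * y⁻¹) with hk
    calc k * (v1 * v2) = (k * v1 * k⁻¹) * (k * v2 * k⁻¹) * k := by group
      _ = v1 * v2 * k := by rw [e1, e2]
  obtain ⟨v1, hv1, v2, hv2, hv12⟩ := h.dec _ hv0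
  -- `v1 = 1`
  have hyg : y * g * y⁻¹ = g * (v1 * v2) := by rw [← hv12]; group
  have hv1' : v1 = 1 := by
    have h3 : y * y * y = 1 := by
      have := h.y3
      rwa [pow_succ, pow_two] at this
    have h5 : y * (y * (y * g * y⁻¹) * y⁻¹) * y⁻¹ = g := by
      have : y * (y * (y * g * y⁻¹) * y⁻¹) * y⁻¹ = (y * y * y) * g * (y * y * y)⁻¹ := by group
      rw [this, h3]; group
    have hw : ∀ w ∈ V2, y * (g * (v1 * w)) * y⁻¹ = g * (v1 * v2 * (v1 * (y * w * y⁻¹))) := by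
      intro w hw
      calc y * (g * (v1 * w)) * y⁻¹ = (y * g * y⁻¹) * (y * v1 * y⁻¹) * (y * w * y⁻¹) := by group
        _ = g * (v1 * v2) * v1 * (y * w * y⁻¹) := by rw [hyg, hyconj1 v1 hv1]
        _ = _ := by group
    have hv1V := h.le1 hv1
    have hv2V := h.le2 hv2
    rw [hyg, hw v2 hv2] at h5
    -- `v1 v2 v1 (v2^y) = v2 v2^y`
    have h6 : v1 * v2 * (v1 * (y * v2 * y⁻¹)) = v2 * (y * v2 * y⁻¹) := by
      calc v1 * v2 * (v1 * (y * v2 * y⁻¹)) = (v1 * v2) * v1 * (y * v2 * y⁻¹) := by group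
        _ = (v2 * v1) * v1 * (y * v2 * y⁻¹) := by rw [hcV v1 hv1V v2 hv2V]
        _ = v2 * (v1 * v1) * (y * v2 * y⁻¹) := by group
        _ = _ := by rw [h.sq v1 hv1V]; group
    rw [h6] at h5
    have h7 : v2 * (y * v2 * y⁻¹) ∈ V2 := mul_mem hv2 (h.yV2 v2 hv2)
    -- now `y (g w) y⁻¹ = g v1 v2 w^y`
    have h8 : y * (g * (v2 * (y * v2 * y⁻¹))) * y⁻¹ =
        g * (v1 * (v2 * (y * (v2 * (y * v2 * y⁻¹)) * y⁻¹))) := by
      calc y * (g * (v2 * (y * v2 * y⁻¹))) * y⁻¹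
          = (y * g * y⁻¹) * (y * (v2 * (y * v2 * y⁻¹)) * y⁻¹) := by group
        _ = g * (v1 * v2) * (y * (v2 * (y * v2 * y⁻¹)) * y⁻¹) := by rw [hyg]
        _ = _ := by group
    rw [h8] at h5
    have h9 : v1 * (v2 * (y * (v2 * (y * v2 * y⁻¹)) * y⁻¹)) = 1 := by
      have h10 := congrArg (fun t => g⁻¹ * t) h5
      simpa only [mul_assoc, _root_.inv_mul_cancel_left, _root_.inv_mul_cancel] using h10
    have h10 : v1 ∈ V2 := by
      rw [mul_eq_one_iff_eq_inv] at h9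
      rw [h9]
      exact inv_mem (mul_mem hv2 (h.yV2 _ h7))
    exact h.inf v1 hv1 h10
  rw [hv1', one_mul] at hyg
  -- choose `w2`
  obtain ⟨w, hw, hwy⟩ := h.exists_comm hv2
  have hwV := h.le2 hw
  -- `g w` commutes with `y`
  have hyw : y * (g * w) = g * w * y := by
    have h5 : y * (g * w) * y⁻¹ = g * w := by
      calc y * (g * w) * y⁻¹ = (y * g * y⁻¹) * (y * w * y⁻¹) := by group
        _ = g * (w * (y * w * y⁻¹)⁻¹) * (y * w * y⁻¹) := by rw [hyg, hwy]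
        _ = g * w := by group
    calc y * (g * w) = y * (g * w) * y⁻¹ * y := by group
      _ = g * w * y := by rw [h5]
  -- `f` commutes with `g`
  have hfg : f * g = g * f := by
    rw [hf]
    have h5 := hg2 c2 hc2
    calc x * c2 * x⁻¹ * g = x * c2 * (x⁻¹ * (g * x) * x⁻¹) := by group
      _ = x * c2 * (x⁻¹ * (x * g) * x⁻¹) := by rw [hxg]
      _ = x * (c2 * g) * x⁻¹ := by group
      _ = x * (g * c2) * x⁻¹ := by rw [h5]
      _ = (x * g) * c2 * x⁻¹ := by group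
      _ = g * (x * c2 * x⁻¹) := by rw [hxg]; group
  -- `f y f⁻¹ y ∈ V`
  have hfy : f * y * f⁻¹ * y ∈ V := by
    refine h.cV _ (mul_mem (mul_mem (mul_mem hfP h.yP) (inv_mem hfP)) h.yP) ?_
    intro v hv
    obtain ⟨u1, hu1, u2, hu2, rfl⟩ := h.dec v hv
    set k := f * y * f⁻¹ * y with hk
    -- `f⁻¹` on `V1`
    have hf1' : f⁻¹ * u1 * f ∈ V1 := by
      -- finite: `f` induces a permutation of `V1`
      have hinj : Function.Injective (fun v : V1 => (⟨f * v * f⁻¹, hf1 v v.2⟩ : V1)) := by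
        intro a b hab
        have h5 : f * (a : G) * f⁻¹ = f * b * f⁻¹ := congrArg Subtype.val hab
        exact Subtype.ext (mul_left_cancel (mul_right_cancel h5))
      obtain ⟨b, hb⟩ := (Finite.injective_iff_surjective.mp hinj) ⟨u1, hu1⟩
      have hb' : f * (b : G) * f⁻¹ = u1 := congrArg Subtype.val hb
      rw [← hb']
      have : f⁻¹ * (f * (b : G) * f⁻¹) * f = b := by group
      rw [this]; exact b.2
    have e1 : k * u1 * k⁻¹ = u1 := by
      have h5 : k * u1 * k⁻¹ = f * (y * (f⁻¹ * (y * u1 * y⁻¹) * f) * y⁻¹) * f⁻¹ := by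
        rw [hk]; group
      rw [h5, hyconj1 u1 hu1, hyconj1 _ hf1']; group
    have hfi : f⁻¹ * d * f = d * c2 := by
      have h5 : f * (d * c2) * f⁻¹ = d := by
        have : f * (d * c2) * f⁻¹ = (f * d * f⁻¹) * (f * c2 * f⁻¹) := by group
        rw [this, hfd, hfc', mul_assoc, hc2c2, mul_one]
      calc f⁻¹ * d * f = f⁻¹ * (f * (d * c2) * f⁻¹) * f := by rw [h5]
        _ = d * c2 := by group
    have hfic : f⁻¹ * c2 * f = c2 := by
      calc f⁻¹ * c2 * f = f⁻¹ * (c2 * f) := by group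
        _ = f⁻¹ * (f * c2) := by rw [hfc]
        _ = c2 := by group
    have kc : k * c2 * k⁻¹ = c2 := by
      have h5 : k * c2 * k⁻¹ = f * (y * (f⁻¹ * (y * c2 * y⁻¹) * f) * y⁻¹) * f⁻¹ := by
        rw [hk]; group
      rw [h5, ← hd, hfi, hydc, hfc']
    have kd : k * d * k⁻¹ = d := by
      have h5 : k * d * k⁻¹ = f * (y * (f⁻¹ * (y * d * y⁻¹) * f) * y⁻¹) * f⁻¹ := by
        rw [hk]; group
      have h6 : f⁻¹ * (d * c2) * f = d := by
        calc f⁻¹ * (d * c2) * f = (f⁻¹ * d * f) * (f⁻¹ * c2 * f) := by group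
          _ = d * (c2 * c2) := by rw [hfi, hfic, mul_assoc]
          _ = d := by rw [hc2c2, mul_one]
      rw [h5, hyd, h6, hyd]
      calc f * (d * c2) * f⁻¹ = (f * d * f⁻¹) * (f * c2 * f⁻¹) := by group
        _ = d * (c2 * c2) := by rw [hfd, hfc', mul_assoc]
        _ = d := by rw [hc2c2, mul_one]
    have e2 : k * u2 * k⁻¹ = u2 := by
      rcases h4 u2 hu2 with h6 | h6 | h6 | h6
      · rw [h6]; group
      · rw [h6]; exact kc
      · rw [h6]; exact kd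
      · rw [h6, ← hd]
        have h7 : k * (d * c2) * k⁻¹ = (k * d * k⁻¹) * (k * c2 * k⁻¹) := by group
        rw [h7, kd, kc]
    calc k * (u1 * u2) = (k * u1 * k⁻¹) * (k * u2 * k⁻¹) * k := by group
      _ = u1 * u2 * k := by rw [e1, e2]
  -- `g w` commutes with `f`
  set v := f * y * f⁻¹ * y with hvdef
  have hfyf : f * y * f⁻¹ = v * y⁻¹ := by rw [hvdef]; group
  obtain ⟨u1, hu1, u2, hu2, hu12⟩ := h.dec v hfy
  have hu1V := h.le1 hu1
  have hu2V := h.le2 hu2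
  have hwf : w = 1 ∨ w = c2 := by
    -- `f w f⁻¹ = w k`, `k ∈ {1, c2}`
    rcases h4 w hw with h5 | h5 | h5 | h5
    · left; exact h5
    · right; exact h5
    all_goals exfalso
    all_goals
      have hfw : f * w * f⁻¹ = w * c2 := by
        first
        | (rw [h5, ← hd]; exact hfd)
        | (rw [h5, ← hd]
           calc f * (d * c2) * f⁻¹ = (f * d * f⁻¹) * (f * c2 * f⁻¹) := by group
            _ = d * c2 * c2 := by rw [hfd, hfc'])
      -- `f (g w) f⁻¹ = g w c2` commutes with `v y⁻¹`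
      have h6 : f * (g * w) * f⁻¹ = g * w * c2 := by
        calc f * (g * w) * f⁻¹ = (f * g) * f⁻¹ * (f * w * f⁻¹) := by group
          _ = g * (w * c2) := by rw [hfg, hfw]; group
          _ = g * w * c2 := by group
      have h7 : (v * y⁻¹) * (g * w * c2) = g * w * c2 * (v * y⁻¹) := by
        rw [← hfyf, ← h6]
        calc f * y * f⁻¹ * (f * (g * w) * f⁻¹) = f * (y * (g * w)) * f⁻¹ := by group
          _ = f * (g * w * y) * f⁻¹ := by rw [hyw]
          _ = _ := by group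
      -- `y⁻¹ (g w) = g w y⁻¹`
      have h8 : y⁻¹ * (g * w) = g * w * y⁻¹ := by
        calc y⁻¹ * (g * w) = y⁻¹ * (g * w * y) * y⁻¹ := by group
          _ = y⁻¹ * (y * (g * w)) * y⁻¹ := by rw [hyw]
          _ = g * w * y⁻¹ := by group
      have h9 : v * (g * w) * (y⁻¹ * c2 * y) = g * w * c2 * v := by
        calc v * (g * w) * (y⁻¹ * c2 * y) = v * (g * w * y⁻¹) * c2 * y := by group
          _ = v * (y⁻¹ * (g * w)) * c2 * y := by rw [h8]
          _ = (v * y⁻¹) * (g * w * c2) * y := by group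
          _ = g * w * c2 * (v * y⁻¹) * y := by rw [h7]
          _ = _ := by group
      have hcy : y⁻¹ * c2 * y ∈ V2 := hyV2' c2 hc2
      have hgu : g⁻¹ * u1 * g ∈ V1 := hg1' u1 hu1
      -- move `g w` to the left
      have h10 : v * (g * w) = (g * w) * ((g⁻¹ * u1 * g) * u2) := by
        have e1 : u2 * g = g * u2 := (hg2 u2 hu2).symm
        calc v * (g * w) = u1 * (u2 * g) * w := by rw [hu12]; group
          _ = u1 * (g * u2) * w := by rw [e1]
          _ = g * ((g⁻¹ * u1 * g) * (u2 * w)) := by group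
          _ = g * ((g⁻¹ * u1 * g) * (w * u2)) := by rw [hcV u2 hu2V w hwV]
          _ = g * (((g⁻¹ * u1 * g) * w) * u2) := by group
          _ = g * ((w * (g⁻¹ * u1 * g)) * u2) := by rw [hcV _ (h.le1 hgu) w hwV]
          _ = _ := by group
      have h11 : (g⁻¹ * u1 * g) * u2 * (y⁻¹ * c2 * y) = c2 * (u1 * u2) := by
        rw [h10, hu12] at h9
        have h12 : g * w * (g⁻¹ * u1 * g * u2) * (y⁻¹ * c2 * y) =
            g * w * ((g⁻¹ * u1 * g) * u2 * (y⁻¹ * c2 * y)) := by group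
        have h13 : g * w * c2 * (u1 * u2) = g * w * (c2 * (u1 * u2)) := by group
        rw [h12, h13] at h9
        exact mul_left_cancel h9
      have h12 : (g⁻¹ * u1 * g) * u1⁻¹ = c2 * (y⁻¹ * c2 * y)⁻¹ := by
        have e2 : (g⁻¹ * u1 * g) * u2 * (y⁻¹ * c2 * y) =
            (g⁻¹ * u1 * g) * (y⁻¹ * c2 * y) * u2 := by
          rw [mul_assoc, hcV u2 hu2V _ (h.le2 hcy)]; group
        have e3 : c2 * (u1 * u2) = (u1 * c2) * u2 := by
          rw [← mul_assoc, hcV c2 hc2V u1 hu1V]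
        rw [e2, e3] at h11
        have e4 := mul_right_cancel h11
        have e5 : g⁻¹ * u1 * g = u1 * (c2 * (y⁻¹ * c2 * y)⁻¹) := by
          calc g⁻¹ * u1 * g = (g⁻¹ * u1 * g) * (y⁻¹ * c2 * y) * (y⁻¹ * c2 * y)⁻¹ := by group
            _ = u1 * c2 * (y⁻¹ * c2 * y)⁻¹ := by rw [e4]
            _ = _ := by group
        rw [e5, hcV u1 hu1V _ (h.le2 (mul_mem hc2 (inv_mem hcy))), mul_inv_cancel_right]
      have h13 : c2 * (y⁻¹ * c2 * y)⁻¹ = 1 := by
        refine h.inf _ ?_ (mul_mem hc2 (inv_mem hcy))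
        rw [← h12]; exact mul_mem hgu (inv_mem hu1)
      apply h.y_ne hc2 hc2'
      have h14 : c2 = y⁻¹ * c2 * y := mul_inv_eq_one.mp h13
      calc y * c2 * y⁻¹ = y * (y⁻¹ * c2 * y) * y⁻¹ := by rw [← h14]
        _ = c2 := by group
  -- `g` is an involution
  have hyggz : g * g = 1 := by
    rcases hgg with h5 | h5
    · exact h5
    exfalso
    have hww : w * w = 1 := h.sq w hwV
    have h6 : (g * w) * (g * w) = z := by
      have e1 : w * g = g * w := (hg2 w hw).symm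
      calc (g * w) * (g * w) = g * (w * g) * w := by group
        _ = g * (g * w) * w := by rw [e1]
        _ = (g * g) * (w * w) := by group
        _ = z := by rw [h5, hww, mul_one]
    have h7 : y * z = z * y := by
      rw [← h6]
      have hcm : Commute y (g * w) := hyw
      exact (hcm.mul_right hcm).eq
    apply h.y_ne hc2 hc2'
    have h8 : c2 = c1⁻¹ * z := by rw [hz]; group
    have h9 := h.yV1 c1 hc1
    calc y * c2 * y⁻¹ = (y * c1 * y⁻¹)⁻¹ * (y * z * y⁻¹) := by rw [h8]; group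
      _ = (c1 * y * y⁻¹)⁻¹ * (z * y * y⁻¹) := by rw [h9, h7]
      _ = c2 := by rw [h8]; group
  have hgc2 := hg2 c2 hc2
  -- the involution `e`
  obtain ⟨e, he1, hee, hec, hex, hey⟩ : ∃ e : G, e ≠ 1 ∧ e * e = 1 ∧ c2 * e = e * c2 ∧
      x * e = e * x ∧ y * e = e * y := by
    rcases hwf with hw1 | hw1
    · refine ⟨g, hgne, hyggz, hgc2.symm, hxg, ?_⟩
      rw [hw1, mul_one] at hyw
      exact hyw
    · refine ⟨g * z, ?_, ?_, ?_, ?_, ?_⟩
      · intro h5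
        apply hgnz
        have h6 := eq_inv_of_mul_eq_one_left h5
        rw [h6, hinv z hzV]
      · calc g * z * (g * z) = g * (z * g) * z := by group
          _ = g * (g * z) * z := by rw [hgz]
          _ = (g * g) * (z * z) := by group
          _ = 1 := by rw [hyggz, h.sq z hzV, mul_one]
      · calc c2 * (g * z) = (c2 * g) * z := by group
          _ = g * (c2 * z) := by rw [← hgc2]; group
          _ = g * z * c2 := by rw [hcV c2 hc2V z hzV]; group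
      · calc x * (g * z) = (x * g) * z := by group
          _ = g * (x * z) := by rw [hxg]; group
          _ = g * z * x := by rw [hxz]; group
      · rw [hw1] at hyw
        have h6 : g * z = g * c2 * c1 := by
          rw [hz, hcV c1 hc1V c2 hc2V]; group
        rw [h6]
        calc y * (g * c2 * c1) = (y * (g * c2)) * c1 := by group
          _ = g * c2 * (y * c1) := by rw [hyw]; group
          _ = g * c2 * c1 * y := by rw [h.yV1 c1 hc1]; group
  have hord : orderOf e = 2 := orderOf_eq_prime (by rw [pow_two]; exact hee) he1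
  refine killing_centralizer hL (X := _root_.Subgroup.closure {c2, x}) (Y := closure {c2, y}) (v := c2)
    (_root_.Subgroup.subset_closure (by simp)) hc2' le_rfl le_rfl ?_ hord ?_ ?_
  · have h7 : f ∈ ncl (_root_.Subgroup.closure {c2, x}) c2 := by
      rw [hf]; exact conj_mem_ncl (_root_.Subgroup.subset_closure (by simp))
    have h8 : d ∈ ncl (closure {c2, y}) c2 := by
      rw [hd]; exact conj_mem_ncl (_root_.Subgroup.subset_closure (by simp))
    have h5 := commutator_mem_commutator h7 h8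
    rw [commutatorElement_def, hfd, hcV d hdV c2 hc2V, mul_inv_cancel_right] at h5
    exact h5
  · rw [closure_le]
    rintro g' (rfl | rfl)
    · exact mem_centralizer_singleton_iff.mpr hec
    · exact mem_centralizer_singleton_iff.mpr hex
  · rw [closure_le]
    rintro g' (rfl | rfl)
    · exact mem_centralizer_singleton_iff.mpr hec
    · exact mem_centralizer_singleton_iff.mpr hey

end Dec

/-! ### The subgroup `F` of index two or four in `Q` -/

theorem index_eq {N Q : Subgroup G} [Finite G] (hN : N ≤ Q) {m : ℕ}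
    (hc : Nat.card Q = m * Nat.card N) : (N.subgroupOf Q).index = m := by
  have h1 := (N.subgroupOf Q).card_mul_index
  rw [Nat.card_congr (subgroupOfEquivOfLe hN).toEquiv, hc, mul_comm m] at h1
  exact Nat.eq_of_mul_eq_mul_left Nat.card_pos h1

theorem mul_self_mem_of_two {N Q : Subgroup G} [Finite G] (hN : N ≤ Q)
    (hc : Nat.card Q = 2 * Nat.card N) {q : G} (hq : q ∈ Q) : q * q ∈ N := by
  have h1 := index_eq hN hc
  have h2 := mul_self_mem_of_index_two h1 ⟨q, hq⟩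
  rwa [mem_subgroupOf] at h2

theorem mul_inv_mem_of_two {N Q : Subgroup G} [Finite G] (hN : N ≤ Q)
    (hc : Nat.card Q = 2 * Nat.card N) {q g : G} (hq : q ∈ Q) (hg : g ∈ Q) (hqN : q ∉ N)
    (hgN : g ∉ N) : q * g⁻¹ ∈ N := by
  have h1 := index_eq hN hc
  have h2 := (mul_mem_iff_of_index_two h1 (a := ⟨q, hq⟩) (b := ⟨g, hg⟩⁻¹)).mpr (by
    rw [inv_mem_iff, mem_subgroupOf, mem_subgroupOf]
    exact iff_of_false hqN hgN)
  rwa [mem_subgroupOf] at h2

theorem comm_mem_of_four {N Q : Subgroup G} [Finite G] (hN : N ≤ Q)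
    (hQN : Q ≤ normalizer (N : Set G)) (hc : Nat.card Q = 4 * Nat.card N) {q g : G} (hq : q ∈ Q)
    (hg : g ∈ Q) : q * g * q⁻¹ * g⁻¹ ∈ N := by
  have h1 := index_eq hN hc
  have hn : (N.subgroupOf Q).Normal := normal_subgroupOf_of_le_normalizer hQN
  have : Fact (Nat.Prime 2) := ⟨Nat.prime_two⟩
  have h2 : Nat.card (Q ⧸ N.subgroupOf Q) = 2 ^ 2 := h1
  have h2' := IsPGroup.isMulCommutative_of_card_eq_prime_sq h2
  have h3 := h2'.is_comm.comm (QuotientGroup.mk' (N.subgroupOf Q) ⟨q, hq⟩)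
    (QuotientGroup.mk' (N.subgroupOf Q) ⟨g, hg⟩)
  have h4 : (⟨q, hq⟩ * ⟨g, hg⟩ * ⟨q, hq⟩⁻¹ * ⟨g, hg⟩⁻¹ : Q) ∈ N.subgroupOf Q := by
    rw [← QuotientGroup.ker_mk' (N.subgroupOf Q), MonoidHom.mem_ker, map_mul, map_mul, map_mul,
      map_inv, map_inv, h3]
    group
  rwa [mem_subgroupOf] at h4

/-- the common input of case (1b) -/
structure Base (P Q V : Subgroup G) (z a r x : G) : Prop extends Ch P Q V a r 3 x where
  rQ : r ∉ Q
  cQ : ∀ g ∈ P, (∀ q ∈ Q, g * q = q * g) → g ∈ Q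
  zV : z ∈ V
  zQ : z ∈ Q
  z1 : z ≠ 1
  zP : ∀ g ∈ P, g * z = z * g
  cardD : Nat.card (V ⊓ Q : Subgroup G) = 8

namespace Base

variable {P Q V : Subgroup G} {z a r x : G}

theorem z_mem (h : Base P Q V z a r x) : z ∈ II Q V x := by
  refine mem_inf.mpr ⟨mem_inf.mpr ⟨h.zV, h.zQ⟩, mem_cj.mpr ?_⟩
  have h1 : x⁻¹ * z * x = z := by
    rw [mul_assoc, ← h.zP x h.xP, inv_mul_cancel_left]
  rw [h1]
  exact mem_inf.mpr ⟨h.zV, h.zQ⟩

theorem mul_self_D (h : Base P Q V z a r x) {d : G} (hd : d ∈ V) : d * d = 1 := by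
  rw [← pow_two]; exact h.sq d hd

theorem a_notMem (h : Base P Q V z a r x) : a ∉ Q := by
  intro h1
  have h2 := h.har
  have h3 : a * r * a⁻¹ * r = a * (r * a⁻¹ * r⁻¹) * (r * r) := by group
  rw [h3] at h2
  have h4 : r * a⁻¹ * r⁻¹ ∈ Q := h.conj_Q h.hr (inv_mem h1)
  have h5 : r * r ∈ Q := (mul_mem_cancel_left (mul_mem h1 h4)).mp h2
  have h6 := h.hrn
  rw [pow_succ, pow_two] at h6
  exact h.rQ ((mul_mem_cancel_left h5).mp h6)

theorem isPGroup3 (h : Base P Q V z a r x) : IsPGroup 3 (zpowers x) := by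
  intro g
  refine ⟨1, ?_⟩
  obtain ⟨k, hk⟩ := g.2
  apply Subtype.ext
  show (g : G) ^ 3 ^ 1 = 1
  have hk' : x ^ k = (g : G) := hk
  rw [← hk', pow_one, ← zpow_natCast, ← zpow_mul, mul_comm, zpow_mul, zpow_natCast, h.xn, one_zpow]

theorem not_three_dvd [Finite G] (h : Base P Q V z a r x) {N : Subgroup G} (hN : N ≤ Q) :
    ¬ 3 ∣ Nat.card N := by
  have : Fact (Nat.Prime 2) := ⟨Nat.prime_two⟩
  have h1 : IsPGroup 2 N := h.two.to_le hN
  obtain ⟨m, hm⟩ := (IsPGroup.iff_card).mp h1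
  rw [hm]
  intro h2
  have h3 := (Nat.Prime.dvd_of_dvd_pow Nat.prime_three h2)
  norm_num at h3

/-- `Q = F C_Q(x)` -/
theorem exists_fixed [Finite G] (h : Base P Q V z a r x) {q : G} (hq : q ∈ Q) :
    ∃ c ∈ Q, x * c = c * x ∧ q * c⁻¹ ∈ FF Q V x := by
  have : Fact (Nat.Prime 3) := ⟨Nat.prime_three⟩
  obtain ⟨c, hc1, hc2⟩ := Cfsg.Agent.Lib.CoprimeCommutator.exists_fixed_in_coset 3 (zpowers x)
    (FF Q V x) h.isPGroup3 (by rw [zpowers_le]; exact h.L_F h.xL) (h.not_three_dvd h.F_le_Q) q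
    (by
      intro b hb
      have hbL : b ∈ LL V x := (zpowers_le.mpr h.xL) hb
      have h1 := h.comm_L hbL hq
      have h2 := (mem_normalizer_iff.mp (h.Q_F (inv_mem hq)) _).mp h1
      have h3 : q⁻¹ * (b * q * b⁻¹ * q⁻¹) * q⁻¹⁻¹ = q⁻¹ * (b * q * b⁻¹) := by group
      rwa [h3] at h2)
  have hcQ : c ∈ Q := by
    have h1 := mul_mem hq (h.F_le_Q hc2)
    rwa [mul_inv_cancel_left] at h1
  refine ⟨c, hcQ, ?_, ?_⟩
  · exact mem_centralizer_iff.mp hc1 x (mem_zpowers x)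
  · have h2 := (mem_normalizer_iff.mp (h.Q_F hcQ) _).mp (inv_mem hc2)
    have h3 : c * (q⁻¹ * c)⁻¹ * c⁻¹ = c * c⁻¹ * (q * c⁻¹) := by group
    rw [h3, mul_inv_cancel, one_mul] at h2
    exact h2

/-- `C_F(x) ≤ I` -/
theorem fixed_F (h : Base P Q V z a r x) {f : G} (hf : f ∈ FF Q V x) (hfx : x * f = f * x) :
    f ∈ II Q V x := by
  refine h.fpf hf ?_
  rw [hfx, mul_inv_cancel_right, mul_inv_cancel]
  exact one_mem _

theorem x_notMem (h : Base P Q V z a r x) : x ∉ Q := by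
  intro h1
  apply h.rQ
  have h2 := mul_mem (inv_mem h.xr) h1
  have h3 : (x * r⁻¹)⁻¹ * x = r := by group
  rwa [h3] at h2

/-- `D ≠ D^x` -/
theorem card_I_ne (h : Base P Q V z a r x) [Finite G] : Nat.card (II Q V x) ≠ 8 := by
  intro h8
  have h1 : II Q V x = V ⊓ Q := by
    apply eq_of_le_of_card_ge Ch.I_le_D
    rw [h.cardD, h8]
  -- `F = I`
  have hcF := h.card_F
  rw [h.cardD, h8] at hcF
  have hF : Nat.card (FF Q V x) = 8 := by omega
  have h2 : II Q V x = FF Q V x := by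
    apply eq_of_le_of_card_ge Ch.I_le_F
    rw [hF, h8]
  -- `x` centralises `Q`
  apply h.x_notMem
  refine h.cQ x h.xP ?_
  intro q hq
  have h3 := h.comm_L h.xL hq
  rw [← h2] at h3
  set i := x * q * x⁻¹ * q⁻¹ with hi
  have hxi := h.centI h.xL h3
  have e1 : x * q * x⁻¹ = i * q := by rw [hi]; group
  have e2 : x * (x * q * x⁻¹) * x⁻¹ = i * i * q := by
    rw [e1]
    calc x * (i * q) * x⁻¹ = (x * i) * q * x⁻¹ := by group
      _ = i * (x * q * x⁻¹) := by rw [hxi]; group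
      _ = i * i * q := by rw [e1]; group
  have e3 : x * (x * (x * q * x⁻¹) * x⁻¹) * x⁻¹ = i * i * i * q := by
    rw [e2]
    calc x * (i * i * q) * x⁻¹ = (x * i) * i * q * x⁻¹ := by group
      _ = (i * x) * i * q * x⁻¹ := by rw [hxi]
      _ = i * (x * i) * q * x⁻¹ := by group
      _ = i * (i * x) * q * x⁻¹ := by rw [hxi]
      _ = i * i * (x * q * x⁻¹) := by group
      _ = i * i * i * q := by rw [e1]; group
  have hii : i * i = 1 := h.mul_self_D (mem_inf.mp (Ch.I_le_D h3)).1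
  have hx3 : x * x * x = 1 := by
    have := h.xn
    rwa [pow_succ, pow_two] at this
  have e4 : x * (x * (x * q * x⁻¹) * x⁻¹) * x⁻¹ = q := by
    have : x * (x * (x * q * x⁻¹) * x⁻¹) * x⁻¹ = (x * x * x) * q * (x * x * x)⁻¹ := by group
    rw [this, hx3]; group
  rw [e4, hii, one_mul] at e3
  have hi1 : i = 1 := by
    have := congrArg (fun t => t * q⁻¹) e3
    simpa using this.symm
  rw [hi1, one_mul] at e1
  calc x * q = x * q * x⁻¹ * x := by group
    _ = q * x := by rw [e1]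

theorem Q_I (h : Base P Q V z a r x) {q i : G} (hq : q ∈ Q) (hi : i ∈ II Q V x) :
    q * i * q⁻¹ ∈ II Q V x :=
  mem_inf.mpr ⟨(mem_normalizer_iff.mp (h.Q_D hq) _).mp (mem_inf.mp hi).1,
    (mem_normalizer_iff.mp (h.Q_cjD hq) _).mp (mem_inf.mp hi).2⟩

theorem comm_mul (h : Base P Q V z a r x) {u v w : G} (hu : u ∈ Q)
    (h1 : u * w * u⁻¹ * w⁻¹ ∈ II Q V x) (h2 : v * w * v⁻¹ * w⁻¹ ∈ II Q V x) :
    (u * v) * w * (u * v)⁻¹ * w⁻¹ ∈ II Q V x := by
  have h3 : (u * v) * w * (u * v)⁻¹ * w⁻¹ = (u * (v * w * v⁻¹ * w⁻¹) * u⁻¹) * (u * w * u⁻¹ * w⁻¹) := by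
    group
  rw [h3]
  exact mul_mem (h.Q_I hu h2) h1

theorem comm_symm {u w : G} (h1 : u * w * u⁻¹ * w⁻¹ ∈ II Q V x) :
    w * u * w⁻¹ * u⁻¹ ∈ II Q V x := by
  have h2 : w * u * w⁻¹ * u⁻¹ = (u * w * u⁻¹ * w⁻¹)⁻¹ := by group
  rw [h2]; exact inv_mem h1

/-- an element commuting with `x` and centralising `D/I` centralises `F/I` -/
theorem comm_F_of_comm_D (h : Base P Q V z a r x) {c : G} (hxc : x * c = c * x)
    (hcD : ∀ d ∈ V ⊓ Q, c * d * c⁻¹ * d⁻¹ ∈ II Q V x) {f : G} (hf : f ∈ FF Q V x) :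
    c * f * c⁻¹ * f⁻¹ ∈ II Q V x := by
  obtain ⟨d, hd, e, he, rfl⟩ := h.mem_F hf
  have hxQ : x * e * x⁻¹ ∈ Q := h.conj_Q h.xP (mem_inf.mp he).2
  have h1 : (x * e * x⁻¹) * c * (x * e * x⁻¹)⁻¹ * c⁻¹ ∈ II Q V x := by
    apply comm_symm
    have h2 : c * (x * e * x⁻¹) * c⁻¹ * (x * e * x⁻¹)⁻¹ = x * (c * e * c⁻¹ * e⁻¹) * x⁻¹ := by
      calc c * (x * e * x⁻¹) * c⁻¹ * (x * e * x⁻¹)⁻¹
          = (c * x) * e * (c * x)⁻¹ * (x * e⁻¹ * x⁻¹) := by group
        _ = (x * c) * e * (x * c)⁻¹ * (x * e⁻¹ * x⁻¹) := by rw [hxc]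
        _ = _ := by group
    rw [h2, h.centI h.xL (hcD e he), mul_inv_cancel_right]
    exact hcD e he
  exact comm_symm (h.comm_mul (mem_inf.mp hd).2 (comm_symm (hcD d hd)) h1)

/-- elements of `F C` -/
theorem comm_FC (h : Base P Q V z a r x) {f c f' c' : G} (hf : f ∈ FF Q V x)
    (hf' : f' ∈ FF Q V x)
    (h1 : ∀ f ∈ FF Q V x, c * f * c⁻¹ * f⁻¹ ∈ II Q V x)
    (h2 : ∀ f ∈ FF Q V x, c' * f * c'⁻¹ * f⁻¹ ∈ II Q V x)
    (h3 : c * c' * c⁻¹ * c'⁻¹ ∈ II Q V x) :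
    (f * c) * (f' * c') * (f * c)⁻¹ * (f' * c')⁻¹ ∈ II Q V x := by
  have hfQ := h.F_le_Q hf
  have hfQ' := h.F_le_Q hf'
  have e1 : (f * c) * f' * (f * c)⁻¹ * f'⁻¹ ∈ II Q V x :=
    h.comm_mul hfQ (h.comm_F hf hf') (h1 f' hf')
  have e2 : (f * c) * c' * (f * c)⁻¹ * c'⁻¹ ∈ II Q V x :=
    h.comm_mul hfQ (comm_symm (h2 f hf)) h3
  exact comm_symm (h.comm_mul hfQ' (comm_symm e1) (comm_symm e2))

theorem sq_FC (h : Base P Q V z a r x) {f c : G} (hf : f ∈ FF Q V x)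
    (h1 : ∀ f ∈ FF Q V x, c * f * c⁻¹ * f⁻¹ ∈ II Q V x) (h3 : c * c ∈ II Q V x) :
    (f * c) * (f * c) ∈ II Q V x := by
  have e1 := h1 f hf
  have e2 := h.centI (h.F_le_L hf) e1
  have e3 : (f * c) * (f * c) = (f * (c * f * c⁻¹ * f⁻¹)) * f * (c * c) := by group
  rw [e3, e2]
  have e4 : c * f * c⁻¹ * f⁻¹ * f * f * (c * c) = (c * f * c⁻¹ * f⁻¹) * (f * f) * (c * c) := by
    group
  rw [e4]
  exact mul_mem (mul_mem e1 (h.sq_F hf)) h3

/-- the case `|I| = 4`: elements commuting with `x` centralise `F/I` -/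
theorem comm_of_four [Finite G] (h : Base P Q V z a r x) (h4 : Nat.card (II Q V x) = 4) {c : G}
    (hc : c ∈ Q) (hxc : x * c = c * x) {f : G} (hf : f ∈ FF Q V x) :
    c * f * c⁻¹ * f⁻¹ ∈ II Q V x := by
  refine h.comm_F_of_comm_D hxc ?_ hf
  intro d hd
  by_cases hdI : d ∈ II Q V x
  · exact mul_mem (h.Q_I hc hdI) (inv_mem hdI)
  · refine mul_inv_mem_of_two Ch.I_le_D (by rw [h.cardD, h4])
      ((mem_normalizer_iff.mp (h.Q_D hc) _).mp hd) hd ?_ hdI
    intro h5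
    apply hdI
    have h6 := h.Q_I (inv_mem hc) h5
    have h7 : c⁻¹ * (c * d * c⁻¹) * c⁻¹⁻¹ = d := by group
    rwa [h7] at h6

theorem card_F' [Finite G] (h : Base P Q V z a r x) :
    Nat.card (FF Q V x) * Nat.card (II Q V x) = 64 := by
  rw [h.card_F, h.cardD]; norm_num

/-- `|I|` is 2 or 4 -/
theorem card_I [Finite G] (h : Base P Q V z a r x) :
    Nat.card (II Q V x) = 2 ∨ Nat.card (II Q V x) = 4 := by
  have h1 : Nat.card (II Q V x) ∣ 8 := by
    rw [← h.cardD]; exact card_dvd_of_le Ch.I_le_D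
  have h2 : Nat.card (II Q V x) ≠ 8 := h.card_I_ne
  have h3 : Nat.card (II Q V x) ≠ 1 := by
    intro h4
    have h5 := eq_bot_of_card_eq _ h4
    have h6 := h.z_mem
    rw [h5] at h6
    exact h.z1 (mem_bot.mp h6)
  have h4 : Nat.card (II Q V x) ≤ 8 := Nat.le_of_dvd (by norm_num) h1
  interval_cases Nat.card (II Q V x) <;> omega

/-- order 32 -/
theorem sq_mem [Finite G] (h : Base P Q V z a r x) (hQ : Nat.card Q = 32) {q : G} (hq : q ∈ Q) :
    q * q ∈ V := by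
  have hF := h.card_F'
  have hIV : II Q V x ≤ V := Ch.I_le_D.trans inf_le_left
  rcases h.card_I with h2 | h4
  · rw [h2] at hF
    have hF' : Nat.card (FF Q V x) = 32 := by omega
    have h3 : FF Q V x = Q := eq_of_le_of_card_ge h.F_le_Q (by rw [hQ, hF'])
    exact hIV (h.sq_F (by rw [h3]; exact hq))
  · rw [h4] at hF
    have hF' : Nat.card (FF Q V x) = 16 := by omega
    obtain ⟨c, hc, hxc, hqc⟩ := h.exists_fixed hq
    have hcc : c * c ∈ II Q V x := by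
      refine h.fixed_F (mul_self_mem_of_two h.F_le_Q (by rw [hQ, hF']) hc) ?_
      rw [← mul_assoc, hxc, mul_assoc, hxc, mul_assoc]
    have h3 := h.sq_FC hqc (fun f hf => h.comm_of_four h4 hc hxc hf) hcc
    rw [inv_mul_cancel_right] at h3
    exact hIV h3

/-- order 64, `|I| = 4` -/
theorem comm_mem [Finite G] (h : Base P Q V z a r x) (hQ : Nat.card Q = 64)
    (h4 : Nat.card (II Q V x) = 4) {q q' : G} (hq : q ∈ Q) (hq' : q' ∈ Q) :
    q * q' * q⁻¹ * q'⁻¹ ∈ V := by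
  have hF := h.card_F'
  have hIV : II Q V x ≤ V := Ch.I_le_D.trans inf_le_left
  rw [h4] at hF
  have hF' : Nat.card (FF Q V x) = 16 := by omega
  obtain ⟨c, hc, hxc, hqc⟩ := h.exists_fixed hq
  obtain ⟨c', hc', hxc', hqc'⟩ := h.exists_fixed hq'
  have hcc : c * c' * c⁻¹ * c'⁻¹ ∈ II Q V x := by
    refine h.fixed_F (comm_mem_of_four h.F_le_Q h.Q_F (by rw [hQ, hF']) hc hc') ?_
    have e1 : Commute x c := hxc
    have e2 : Commute x c' := hxc'
    exact (((e1.mul_right e2).mul_right e1.inv_right).mul_right e2.inv_right).eq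
  have h3 := h.comm_FC hqc hqc' (fun f hf => h.comm_of_four h4 hc hxc hf)
    (fun f hf => h.comm_of_four h4 hc' hxc' hf) hcc
  rw [inv_mul_cancel_right, inv_mul_cancel_right] at h3
  exact hIV h3

end Base

/-! ### The case `|Q| = 64` -/

theorem cj_mul (u v : G) (W : Subgroup G) : cj (u * v) W = cj u (cj v W) := by
  ext g
  rw [mem_cj, mem_cj, mem_cj]
  have : (u * v)⁻¹ * g * (u * v) = v⁻¹ * (u⁻¹ * g * u) * v := by group
  rw [this]

theorem cj_inv {u : G} {W W' : Subgroup G} (h : cj u W = W') : cj u⁻¹ W' = W := by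
  rw [← h, ← cj_mul, inv_mul_cancel]
  ext g
  rw [mem_cj]
  simp

/-- `P₁ = V (K₁ × K₂) S`, `V = V₁ × V₂`, `Q ≤ P₁` -/
structure Two (P1 Q V V1 V2 : Subgroup G) (y1 y2 : G) : Prop where
  d1 : Dec P1 V V1 V2 y2
  d2 : Dec P1 V V2 V1 y1
  QP1 : Q ≤ P1
  perm : ∀ q ∈ Q, (cj q V1 = V1 ∧ cj q V2 = V2) ∨ (cj q V1 = V2 ∧ cj q V2 = V1)
  swap : ∃ q ∈ Q, cj q V1 = V2 ∧ cj q V2 = V1

namespace Two

variable {P1 Q V V1 V2 : Subgroup G} {y1 y2 : G}

theorem symm (t : Two P1 Q V V1 V2 y1 y2) : Two P1 Q V V2 V1 y2 y1 where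
  d1 := t.d2
  d2 := t.d1
  QP1 := t.QP1
  perm := fun q hq => (t.perm q hq).imp And.symm And.symm
  swap := by
    obtain ⟨q, hq, h1, h2⟩ := t.swap
    exact ⟨q, hq, h2, h1⟩

theorem uniq (t : Two P1 Q V V1 V2 y1 y2) {u1 w1 u2 w2 : G} (h1 : u1 ∈ V1) (h1' : w1 ∈ V1)
    (h2 : u2 ∈ V2) (h2' : w2 ∈ V2) (h : u1 * u2 = w1 * w2) : u1 = w1 ∧ u2 = w2 := by
  have h3 : w1⁻¹ * u1 = w2 * u2⁻¹ := by
    have h4 : u1 = w1 * w2 * u2⁻¹ := by rw [← h]; group
    calc w1⁻¹ * u1 = w1⁻¹ * (w1 * w2 * u2⁻¹) := by rw [← h4]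
      _ = w2 * u2⁻¹ := by group
  have h4 : w1⁻¹ * u1 = 1 := t.d1.inf _ (mul_mem (inv_mem h1') h1) (by
    rw [h3]; exact mul_mem h2' (inv_mem h2))
  refine ⟨(inv_mul_eq_one.mp h4).symm, ?_⟩
  rw [h4] at h3
  exact (mul_inv_eq_one.mp h3.symm).symm

theorem conj_mem {q : G} {W W' : Subgroup G} (h : cj q W = W') {v : G} (hv : v ∈ W) :
    q * v * q⁻¹ ∈ W' := by
  rw [← h]; exact conj_mem_cj hv

/-- type one elements fix the components of `z` -/
theorem fix1 (t : Two P1 Q V V1 V2 y1 y2) {c1 c2 z q : G} (hc1 : c1 ∈ V1) (hc2 : c2 ∈ V2)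
    (hz : z = c1 * c2) (hq : q * z = z * q) (h1 : cj q V1 = V1) (h2 : cj q V2 = V2) :
    q * c1 * q⁻¹ = c1 ∧ q * c2 * q⁻¹ = c2 := by
  refine t.uniq (conj_mem h1 hc1) hc1 (conj_mem h2 hc2) hc2 ?_
  rw [← hz]
  calc q * c1 * q⁻¹ * (q * c2 * q⁻¹) = q * (c1 * c2) * q⁻¹ := by group
    _ = q * z * q⁻¹ := by rw [hz]
    _ = z := by rw [hq]; group

theorem fix2 (t : Two P1 Q V V1 V2 y1 y2) {c1 c2 z q : G} (hc1 : c1 ∈ V1) (hc2 : c2 ∈ V2)
    (hz : z = c1 * c2) (hq : q * z = z * q) (h1 : cj q V1 = V2) (h2 : cj q V2 = V1) :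
    q * c1 * q⁻¹ = c2 ∧ q * c2 * q⁻¹ = c1 := by
  have h3 := t.uniq (conj_mem h2 hc2) hc1 (conj_mem h1 hc1) hc2 (by
    rw [← hz]
    have h4 : c1 * c2 = c2 * c1 := t.d1.comm c1 (t.d1.le1 hc1) c2 (t.d1.le2 hc2)
    calc q * c2 * q⁻¹ * (q * c1 * q⁻¹) = q * (c2 * c1) * q⁻¹ := by group
      _ = q * z * q⁻¹ := by rw [hz, h4]
      _ = z := by rw [hq]; group)
  exact ⟨h3.2, h3.1⟩

end Two

/-- the action of a 2-element on a group of order four -/
theorem side {W : Subgroup G} (hW : Nat.card W = 4) (hsq : ∀ v ∈ W, v * v = 1) {c w : G}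
    (hc : c ∈ W) (hw : w ∈ W) (hc1 : c ≠ 1) (hw1 : w ≠ 1) (hwc : w ≠ c) {q : G}
    (hqc : q * c * q⁻¹ = c) (hq : q * w * q⁻¹ ∈ W) (hne : q * w * q⁻¹ ≠ w) :
    q * w * q⁻¹ = w * c := by
  have hinj : ∀ v, q * w * q⁻¹ = q * v * q⁻¹ → w = v := fun v h =>
    mul_left_cancel (mul_right_cancel h)
  rcases OneB.four hW hc hw hc1 hw1 hwc hsq _ hq with h | h | h | h
  · exact absurd (hinj 1 (by rw [h]; group)) hw1
  · exact absurd (hinj c (by rw [h, hqc])) hwc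
  · exact absurd h hne
  · exact h

theorem side_triv {W : Subgroup G} (hW : Nat.card W = 4) (hsq : ∀ v ∈ W, v * v = 1) {c w : G}
    (hc : c ∈ W) (hw : w ∈ W) (hc1 : c ≠ 1) (hw1 : w ≠ 1) (hwc : w ≠ c) {q : G}
    (hqc : q * c * q⁻¹ = c) (hqw : q * w * q⁻¹ = w) {v : G} (hv : v ∈ W) :
    q * v = v * q := by
  have h1 : q * v * q⁻¹ = v := by
    rcases OneB.four hW hc hw hc1 hw1 hwc hsq _ hv with h | h | h | h
    · rw [h]; group
    · rw [h, hqc]
    · rw [h, hqw]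
    · rw [h]
      calc q * (w * c) * q⁻¹ = (q * w * q⁻¹) * (q * c * q⁻¹) := by group
        _ = w * c := by rw [hqc, hqw]
  calc q * v = q * v * q⁻¹ * q := by group
    _ = v * q := by rw [h1]

/-- the facts established in the course of the proof -/
structure Facts (P Q V : Subgroup G) (z a r x : G) (P1 V1 V2 : Subgroup G) (y1 y2 : G)
    (c1 c2 v1 v2 : G) : Prop extends Base P Q V z a r x, Two P1 Q V V1 V2 y1 y2 where
  hI : ∀ i ∈ II Q V x, i = 1 ∨ i = z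
  m1 : c1 ∈ V1
  m2 : c2 ∈ V2
  hz : z = c1 * c2
  c1ne : c1 ≠ 1
  c2ne : c2 ≠ 1
  c1Q : c1 ∈ Q
  c2Q : c2 ∈ Q
  w1 : v1 ∈ V1
  w2 : v2 ∈ V2
  v1Q : v1 ∉ Q
  v2Q : v2 ∉ Q

namespace Facts

variable {P Q V : Subgroup G} {z a r x : G} {P1 V1 V2 : Subgroup G} {y1 y2 : G}
  {c1 c2 v1 v2 : G}

theorem symm (h : Facts P Q V z a r x P1 V1 V2 y1 y2 c1 c2 v1 v2) :
    Facts P Q V z a r x P1 V2 V1 y2 y1 c2 c1 v2 v1 where
  toBase := h.toBase
  toTwo := h.toTwo.symm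
  hI := h.hI
  m1 := h.m2
  m2 := h.m1
  hz := by rw [h.hz]; exact h.comm _ (h.d1.le1 h.m1) _ (h.d1.le2 h.m2)
  c1ne := h.c2ne
  c2ne := h.c1ne
  c1Q := h.c2Q
  c2Q := h.c1Q
  w1 := h.w2
  w2 := h.w1
  v1Q := h.v2Q
  v2Q := h.v1Q

theorem v1ne (h : Facts P Q V z a r x P1 V1 V2 y1 y2 c1 c2 v1 v2) : v1 ≠ 1 := fun h1 =>
  h.v1Q (by rw [h1]; exact one_mem _)

theorem v1c (h : Facts P Q V z a r x P1 V1 V2 y1 y2 c1 c2 v1 v2) : v1 ≠ c1 := fun h1 =>
  h.v1Q (by rw [h1]; exact h.c1Q)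

/-- an element of `Q` centralising `V₁` and `V₂` lies in `D` -/
theorem mem_D (h : Facts P Q V z a r x P1 V1 V2 y1 y2 c1 c2 v1 v2) {q : G} (hq : q ∈ Q)
    (h1 : ∀ v ∈ V1, q * v = v * q) (h2 : ∀ v ∈ V2, q * v = v * q) : q ∈ V ⊓ Q := by
  refine mem_inf.mpr ⟨h.d1.cV q (h.QP1 hq) ?_, hq⟩
  intro v hv
  obtain ⟨u1, hu1, u2, hu2, rfl⟩ := h.d1.dec v hv
  rw [← mul_assoc, h1 u1 hu1, mul_assoc, h2 u2 hu2, mul_assoc]

theorem I_of_D {q : G} (hq : q ∈ V ⊓ Q)
    (hxq : x * q = q * x) : q ∈ II Q V x := by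
  refine mem_inf.mpr ⟨hq, mem_cj.mpr ?_⟩
  have h1 : x⁻¹ * q * x = q := by rw [mul_assoc, ← hxq, inv_mul_cancel_left]
  rw [h1]; exact hq

theorem Qz (h : Facts P Q V z a r x P1 V1 V2 y1 y2 c1 c2 v1 v2) {q : G} (hq : q ∈ Q) :
    q * z = z * q := h.zP q (h.QP hq)

/-- the contradiction, `g` centralises `V₂` -/
theorem final [Finite G] (h : Facts P Q V z a r x P1 V1 V2 y1 y2 c1 c2 v1 v2)
    (hL : ∀ U : Subgroup G, IsPGroup 2 U → U ≠ ⊥ → Group.IsSolvable (normalizer (U : Set G)))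
    {g : G} (hg : g ∈ Q) (hxg : x * g = g * x) (hgg : g * g ∈ II Q V x) (hgI : g ∉ II Q V x)
    (hg1 : cj g V1 = V1) (hg2 : ∀ v ∈ V2, g * v = v * g) : False := by
  set f := x * c2 * x⁻¹ with hf
  have hc2D : c2 ∈ V ⊓ Q := mem_inf.mpr ⟨h.d1.le2 h.m2, h.c2Q⟩
  have hfF : f ∈ FF Q V x := Ch.cjD_le_F (conj_mem_cj hc2D)
  have hfQ : f ∈ Q := h.F_le_Q hfF
  have hxz : x * z = z * x := h.zP x h.xP
  have hfD : f ∉ V ⊓ Q := by
    intro h1
    have h2 : f ∈ II Q V x := mem_inf.mpr ⟨h1, conj_mem_cj hc2D⟩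
    rcases h.hI f h2 with h3 | h3
    · apply h.c2ne
      have : c2 = x⁻¹ * f * x := by rw [hf]; group
      rw [this, h3]; group
    · apply h.c1ne
      have h4 : c2 = z := by
        have h5 : c2 = x⁻¹ * f * x := by rw [hf]; group
        rw [h5, h3, mul_assoc, ← hxz, inv_mul_cancel_left]
      have h5 := h.hz
      rw [← h4] at h5
      exact (mul_eq_right.mp h5.symm)
  have hfg : f * g = g * f := by
    have h5 := hg2 c2 h.m2
    have e1 : Commute g x := hxg.symm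
    have e2 : Commute g c2 := h5
    exact (((e1.mul_right e2).mul_right e1.inv_right).eq).symm
  -- the type of `f`
  rcases h.perm f hfQ with ⟨hf1, hf2⟩ | ⟨hf1, hf2⟩
  swap
  · apply hgI
    refine I_of_D (h.mem_D hg ?_ hg2) hxg
    intro u hu
    rw [← hf2] at hu
    obtain ⟨w, hw, rfl⟩ := hu
    show g * (f * w * f⁻¹) = f * w * f⁻¹ * g
    have e1 : Commute g f := hfg.symm
    have e2 : Commute g w := hg2 w hw
    exact ((e1.mul_right e2).mul_right e1.inv_right).eq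
  obtain ⟨hfc1, hfc2⟩ := h.fix1 h.m1 h.m2 h.hz (h.Qz hfQ) hf1 hf2
  -- `f` does not centralise `V₂`
  have hfn : ∃ v ∈ V2, f * v ≠ v * f := by
    by_contra hcon
    push Not at hcon
    apply hfD
    refine h.mem_D hfQ ?_ hcon
    intro v hv
    -- `u = v1 v2 ∈ D`
    have hu : v1 * v2 ∈ V ⊓ Q := by
      have h1 := (h.hVa v1 (h.d1.le1 h.w1)).resolve_left h.v1Q
      have h2 := (h.hVa v2 (h.d1.le2 h.w2)).resolve_left h.v2Q
      refine mem_inf.mpr ⟨mul_mem (h.d1.le1 h.w1) (h.d1.le2 h.w2), ?_⟩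
      have h3 := mul_mem h1 h2
      have h4 : v1 * a * (v2 * a) = v1 * v2 := by
        rw [h.comm v2 (h.d1.le2 h.w2) a h.ha]
        calc v1 * a * (a * v2) = v1 * (a * a) * v2 := by group
          _ = v1 * v2 := by rw [h.mul_self_D h.ha, mul_one]
      rwa [h4] at h3
    have h1 := h.comm_F hfF (Ch.D_le_F hu)
    have h2 : f * (v1 * v2) * f⁻¹ * (v1 * v2)⁻¹ = f * v1 * f⁻¹ * v1⁻¹ := by
      have h3 := hcon v2 h.w2
      calc f * (v1 * v2) * f⁻¹ * (v1 * v2)⁻¹ = f * v1 * (v2 * f⁻¹ * v2⁻¹) * v1⁻¹ := by group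
        _ = f * v1 * (f⁻¹ * (f * v2) * f⁻¹ * v2⁻¹) * v1⁻¹ := by group
        _ = f * v1 * (f⁻¹ * (v2 * f) * f⁻¹ * v2⁻¹) * v1⁻¹ := by rw [h3]
        _ = _ := by group
    rw [h2] at h1
    have h3 : f * v1 * f⁻¹ * v1⁻¹ ∈ V1 := mul_mem (Two.conj_mem hf1 h.w1) (inv_mem h.w1)
    have h4 : f * v1 * f⁻¹ = v1 := by
      rcases h.hI _ h1 with h5 | h5
      · exact mul_inv_eq_one.mp h5
      · exfalso
        rw [h5] at h3
        apply h.c2ne
        refine h.d1.inf c2 ?_ h.m2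
        have h6 : c2 = c1⁻¹ * z := by rw [h.hz]; group
        rw [h6]
        exact mul_mem (inv_mem h.m1) h3
    exact side_triv h.d2.card2 (fun v hv => h.d1.sq v (h.d1.le1 hv)) h.m1 h.w1 h.c1ne h.v1ne h.v1c
      hfc1 h4 hv
  refine h.d1.kill hL (c1 := c1) (c2 := c2) (z := z) (x := x) (g := g) (f := f) h.m1 h.m2 h.c2ne
    h.hz (h.QP1 hg) hg2 (fun v hv => Two.conj_mem hg1 hv) (h.hI _ hgg) ?_ ?_ hxg hxz
    (h.Qz hg).symm hf (h.QP1 hfQ) (fun v hv => Two.conj_mem hf1 hv)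
    (fun v hv => Two.conj_mem hf2 hv) ?_ hfn
  · intro h1; exact hgI (by rw [h1]; exact one_mem _)
  · intro h1; exact hgI (by rw [h1]; exact h.z_mem)
  · calc f * c2 = f * c2 * f⁻¹ * f := by group
      _ = c2 * f := by rw [hfc2]

theorem z_comm (h : Facts P Q V z a r x P1 V1 V2 y1 y2 c1 c2 v1 v2) {v : G} (hv : v ∈ V) :
    v * z = z * v := h.comm v hv z h.zV

theorem mem_one (h : Facts P Q V z a r x P1 V1 V2 y1 y2 c1 c2 v1 v2) {v : G} (hv : v ∈ V1)
    (hvQ : v ∈ Q) : v = 1 ∨ v = c1 := by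
  rcases OneB.four h.d2.card2 h.m1 h.w1 h.c1ne h.v1ne h.v1c
    (fun v hv => h.d1.sq v (h.d1.le1 hv)) v hv with h1 | h1 | h1 | h1
  · exact Or.inl h1
  · exact Or.inr h1
  · exact absurd (h1 ▸ hvQ) h.v1Q
  · exfalso
    rw [h1] at hvQ
    exact h.v1Q ((mul_mem_cancel_right h.c1Q).mp hvQ)

theorem mem_not (h : Facts P Q V z a r x P1 V1 V2 y1 y2 c1 c2 v1 v2) {v w : G} (hv : v ∈ V1)
    (hvQ : v ∉ Q) (hw : w ∈ V1) (hwQ : w ∉ Q) : w = v ∨ w = v * c1 := by
  have hv1 : v ≠ 1 := fun h1 => hvQ (by rw [h1]; exact one_mem _)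
  have hvc : v ≠ c1 := fun h1 => hvQ (by rw [h1]; exact h.c1Q)
  rcases OneB.four h.d2.card2 h.m1 hv h.c1ne hv1 hvc
    (fun v hv => h.d1.sq v (h.d1.le1 hv)) w hw with h1 | h1 | h1 | h1
  · exact absurd (by rw [h1]; exact one_mem _) hwQ
  · exact absurd (by rw [h1]; exact h.c1Q) hwQ
  · exact Or.inl h1
  · exact Or.inr h1

/-- elements of type one: either trivial on `V₁` or `v ↦ v c₁` for `v ∉ D` -/
theorem act1 (h : Facts P Q V z a r x P1 V1 V2 y1 y2 c1 c2 v1 v2) {g : G} (hg : g ∈ Q)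
    (h1 : cj g V1 = V1) (h2 : cj g V2 = V2) :
    (∀ v ∈ V1, g * v = v * g) ∨ (∀ v ∈ V1, v ∉ Q → g * v * g⁻¹ = v * c1) := by
  obtain ⟨hc1, hc2⟩ := h.fix1 h.m1 h.m2 h.hz (h.Qz hg) h1 h2
  by_cases hv : g * v1 * g⁻¹ = v1
  · left
    intro v hv'
    exact side_triv h.d2.card2 (fun v hv => h.d1.sq v (h.d1.le1 hv)) h.m1 h.w1 h.c1ne h.v1ne h.v1c
      hc1 hv hv'
  · right
    have h3 : g * v1 * g⁻¹ = v1 * c1 :=
      side h.d2.card2 (fun v hv => h.d1.sq v (h.d1.le1 hv)) h.m1 h.w1 h.c1ne h.v1ne h.v1c hc1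
        (Two.conj_mem h1 h.w1) hv
    intro v hv' hvQ
    rcases h.mem_not h.w1 h.v1Q hv' hvQ with h4 | h4
    · rw [h4, h3]
    · rw [h4]
      calc g * (v1 * c1) * g⁻¹ = (g * v1 * g⁻¹) * (g * c1 * g⁻¹) := by group
        _ = v1 * c1 * c1 := by rw [h3, hc1]

/-- the crucial step: `g` centralises `V₁` or `V₂` -/
theorem triv_or_triv (h : Facts P Q V z a r x P1 V1 V2 y1 y2 c1 c2 v1 v2) {g : G} (hg : g ∈ Q)
    (hgg : g * g ∈ II Q V x) (hgD : ∃ d ∈ V ⊓ Q, g * d * g⁻¹ * d⁻¹ ∉ II Q V x) :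
    (cj g V1 = V1 ∧ cj g V2 = V2) ∧
      ((∀ v ∈ V2, g * v = v * g) ∨ (∀ v ∈ V1, g * v = v * g)) := by
  obtain ⟨d, hd, hdI⟩ := hgD
  have h1I : (1 : G) ∈ II Q V x := one_mem _
  have hzI := h.z_mem
  have hcV := h.d1.comm
  have hz2 : z * z = 1 := h.mul_self_D h.zV
  obtain ⟨u1, hu1, u2, hu2, rfl⟩ := h.d1.dec d (mem_inf.mp hd).1
  have hu1V := h.d1.le1 hu1
  have hu2V := h.d1.le2 hu2
  have hdQ := (mem_inf.mp hd).2
  have hc1V := h.d1.le1 h.m1
  have hc2V := h.d1.le2 h.m2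
  -- it suffices that `g d g⁻¹` is `d` or `d z`
  have key : ∀ {q : G}, g * (u1 * u2) * g⁻¹ = q → q = u1 * u2 ∨ q = u1 * u2 * z → False := by
    rintro q h1 (rfl | rfl)
    · apply hdI
      rw [h1, mul_inv_cancel]; exact h1I
    · apply hdI
      rw [h1, h.z_comm (mul_mem hu1V hu2V), mul_inv_cancel_right]; exact hzI
  have hggV : ∀ v ∈ V, g * (g * v * g⁻¹) * g⁻¹ = v := by
    intro v hv
    have h1 : g * (g * v * g⁻¹) * g⁻¹ = (g * g) * v * (g * g)⁻¹ := by group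
    rw [h1]
    rcases h.hI _ hgg with h2 | h2
    · rw [h2]; group
    · rw [h2, ← h.z_comm hv, mul_inv_cancel_right]
  have hgQ : ∀ v : G, g * v * g⁻¹ ∈ Q ↔ v ∈ Q := fun v =>
    (mem_normalizer_iff.mp (le_normalizer hg) v).symm
  rcases h.perm g hg with ⟨hg1, hg2⟩ | ⟨hg1, hg2⟩
  · refine ⟨⟨hg1, hg2⟩, ?_⟩
    rcases h.act1 hg hg1 hg2 with h3 | h3
    · exact Or.inr h3
    rcases h.symm.act1 hg hg2 hg1 with h4 | h4
    · exact Or.inl h4
    exfalso
    obtain ⟨hc1, hc2⟩ := h.fix1 h.m1 h.m2 h.hz (h.Qz hg) hg1 hg2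
    by_cases hu1Q : u1 ∈ Q
    · have hu2Q : u2 ∈ Q := (mul_mem_cancel_left hu1Q).mp hdQ
      refine key ?_ (Or.inl rfl)
      have e1 : g * u1 * g⁻¹ = u1 := by
        rcases h.mem_one hu1 hu1Q with h5 | h5
        · rw [h5]; group
        · rw [h5, hc1]
      have e2 : g * u2 * g⁻¹ = u2 := by
        rcases h.symm.mem_one hu2 hu2Q with h5 | h5
        · rw [h5]; group
        · rw [h5, hc2]
      calc g * (u1 * u2) * g⁻¹ = (g * u1 * g⁻¹) * (g * u2 * g⁻¹) := by group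
        _ = u1 * u2 := by rw [e1, e2]
    · have hu2Q : u2 ∉ Q := fun h5 => hu1Q ((mul_mem_cancel_right h5).mp hdQ)
      refine key ?_ (Or.inr rfl)
      calc g * (u1 * u2) * g⁻¹ = (g * u1 * g⁻¹) * (g * u2 * g⁻¹) := by group
        _ = (u1 * c1) * (u2 * c2) := by rw [h3 u1 hu1 hu1Q, h4 u2 hu2 hu2Q]
        _ = u1 * (c1 * u2) * c2 := by group
        _ = u1 * (u2 * c1) * c2 := by rw [hcV c1 hc1V u2 hu2V]
        _ = u1 * u2 * z := by rw [h.hz]; group
  · exfalso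
    obtain ⟨hc1, hc2⟩ := h.fix2 h.m1 h.m2 h.hz (h.Qz hg) hg1 hg2
    have hc12 : c2 * z = c1 := by
      rw [h.hz, hcV c1 hc1V c2 hc2V, ← mul_assoc, h.mul_self_D hc2V, one_mul]
    have hc21 : c1 * z = c2 := by
      rw [h.hz, ← mul_assoc, h.mul_self_D hc1V, one_mul]
    by_cases hu1Q : u1 ∈ Q
    · have hu2Q : u2 ∈ Q := (mul_mem_cancel_left hu1Q).mp hdQ
      rcases h.mem_one hu1 hu1Q with h5 | h5 <;> rcases h.symm.mem_one hu2 hu2Q with h6 | h6
      · refine key (q := 1) ?_ (Or.inl ?_)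
        · rw [h5, h6]; group
        · rw [h5, h6]; group
      · refine key (q := c1) ?_ (Or.inr ?_)
        · rw [h5, h6, one_mul, hc2]
        · rw [h5, h6, one_mul, hc12]
      · refine key (q := c2) ?_ (Or.inr ?_)
        · rw [h5, h6, mul_one, hc1]
        · rw [h5, h6, mul_one, hc21]
      · refine key (q := z) ?_ (Or.inl ?_)
        · rw [h5, h6, ← h.hz, h.Qz hg]; group
        · rw [h5, h6, h.hz]
    · have hu2Q : u2 ∉ Q := fun h5 => hu1Q ((mul_mem_cancel_right h5).mp hdQ)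
      have e1 : g * u1 * g⁻¹ ∈ V2 := Two.conj_mem hg1 hu1
      rcases h.symm.mem_not hu2 hu2Q e1 (fun h5 => hu1Q ((hgQ u1).mp h5)) with h5 | h5
      · have h6 := hggV u1 hu1V
        rw [h5] at h6
        refine key ?_ (Or.inl ?_) (q := u2 * u1)
        · calc g * (u1 * u2) * g⁻¹ = (g * u1 * g⁻¹) * (g * u2 * g⁻¹) := by group
            _ = u2 * u1 := by rw [h5, h6]
        · exact hcV _ hu2V _ hu1V
      · have h6 := hggV u1 hu1V
        rw [h5] at h6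
        have h7 : g * u2 * g⁻¹ = u1 * c1 := by
          have h8 : g * (u2 * c2) * g⁻¹ = (g * u2 * g⁻¹) * (g * c2 * g⁻¹) := by group
          rw [h8, hc2] at h6
          calc g * u2 * g⁻¹ = (g * u2 * g⁻¹) * c1 * c1⁻¹ := by group
            _ = u1 * c1⁻¹ := by rw [h6]
            _ = u1 * c1 := by rw [inv_eq_of_mul_eq_one_left (h.mul_self_D hc1V)]
        refine key ?_ (Or.inr ?_) (q := (u2 * c2) * (u1 * c1))
        · calc g * (u1 * u2) * g⁻¹ = (g * u1 * g⁻¹) * (g * u2 * g⁻¹) := by group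
            _ = (u2 * c2) * (u1 * c1) := by rw [h5, h7]
        · calc (u2 * c2) * (u1 * c1) = (u1 * c1) * (u2 * c2) :=
                hcV _ (mul_mem hu2V hc2V) _ (mul_mem hu1V hc1V)
            _ = u1 * (c1 * u2) * c2 := by group
            _ = u1 * (u2 * c1) * c2 := by rw [hcV c1 hc1V u2 hu2V]
            _ = u1 * u2 * z := by rw [h.hz]; group

end Facts

/-- elements of type one -/
theorem Two.cj_comm {P1 Q V V1 V2 : Subgroup G} {y1 y2 : G} (t : Two P1 Q V V1 V2 y1 y2) {q q' : G}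
    (hq : q ∈ Q) (hq' : q' ∈ Q) :
    cj (q * q' * q⁻¹ * q'⁻¹) V1 = V1 ∧ cj (q * q' * q⁻¹ * q'⁻¹) V2 = V2 := by
  rcases t.perm q hq with ⟨h1, h2⟩ | ⟨h1, h2⟩ <;> rcases t.perm q' hq' with ⟨h3, h4⟩ | ⟨h3, h4⟩ <;>
  · have e1 := cj_inv h1
    have e2 := cj_inv h2
    have e3 := cj_inv h3
    have e4 := cj_inv h4
    simp only [cj_mul, h1, h2, h3, h4, e1, e2, e3, e4, and_self]

theorem Base.exists_facts [Finite G] {P Q V : Subgroup G} {z a r x : G} (h : Base P Q V z a r x)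
    {P1 V1 V2 : Subgroup G} {y1 y2 : G} (t : Two P1 Q V V1 V2 y1 y2)
    (hI : Nat.card (II Q V x) = 2)
    (hnc : ∃ q ∈ Q, ∃ q' ∈ Q, q * q' * q⁻¹ * q'⁻¹ ∉ V) :
    ∃ c1 c2 v1 v2, Facts P Q V z a r x P1 V1 V2 y1 y2 c1 c2 v1 v2 := by
  obtain ⟨c1, hc1, c2, hc2, hz⟩ := t.d1.dec z h.zV
  have hI' : ∀ i ∈ II Q V x, i = 1 ∨ i = z := by
    intro i hi
    obtain ⟨y, hy⟩ := (Nat.card_eq_two_iff' (1 : II Q V x)).mp hI
    by_contra hcon
    push Not at hcon
    have h1 := hy.2 ⟨i, hi⟩ (fun h1 => hcon.1 (congrArg Subtype.val h1))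
    have h2 := hy.2 ⟨z, h.z_mem⟩ (fun h1 => h.z1 (congrArg Subtype.val h1))
    exact hcon.2 (congrArg Subtype.val (h1.trans h2.symm))
  obtain ⟨q0, hq0, hs1, hs2⟩ := t.swap
  have hQz : ∀ q ∈ Q, q * z = z * q := fun q hq => h.zP q (h.QP hq)
  obtain ⟨e1, e2⟩ := t.fix2 hc1 hc2 hz (hQz q0 hq0) hs1 hs2
  have hc1ne : c1 ≠ 1 := by
    intro h1
    have h2 : c2 = 1 := by rw [← e1, h1]; group
    exact h.z1 (by rw [hz, h1, h2, one_mul])
  have hc2ne : c2 ≠ 1 := by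
    intro h1
    have h2 : c1 = 1 := by rw [← e2, h1]; group
    exact hc1ne h2
  -- elements outside `D`
  have hV1 : ∃ v1 ∈ V1, v1 ∉ Q := by
    by_contra hcon
    push Not at hcon
    apply h.a_notMem
    obtain ⟨a1, ha1, a2, ha2, rfl⟩ := t.d1.dec a h.ha
    refine mul_mem (hcon a1 ha1) ?_
    rw [← hs1] at ha2
    obtain ⟨b, hb, rfl⟩ := ha2
    exact mul_mem (mul_mem hq0 (hcon b hb)) (inv_mem hq0)
  have hV2 : ∃ v2 ∈ V2, v2 ∉ Q := by
    obtain ⟨v1, hv1, hv1Q⟩ := hV1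
    refine ⟨q0 * v1 * q0⁻¹, Two.conj_mem hs1 hv1, fun h1 => hv1Q ?_⟩
    exact (mem_normalizer_iff.mp (le_normalizer hq0) v1).mpr h1
  obtain ⟨v1, hv1, hv1Q⟩ := hV1
  obtain ⟨v2, hv2, hv2Q⟩ := hV2
  -- `c1, c2 ∈ Q`
  have hc12 : c1 ∈ Q ∧ c2 ∈ Q := by
    obtain ⟨q, hq, q', hq', hk⟩ := hnc
    obtain ⟨k1, k2⟩ := t.cj_comm hq hq'
    set k := q * q' * q⁻¹ * q'⁻¹ with hkdef
    have hkQ : k ∈ Q := mul_mem (mul_mem (mul_mem hq hq') (inv_mem hq)) (inv_mem hq')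
    obtain ⟨f1, f2⟩ := t.fix1 hc1 hc2 hz (hQz k hkQ) k1 k2
    have hzQ := h.zQ
    by_cases hk2 : ∀ v ∈ V2, k * v = v * k
    · -- nontrivial on `V1`
      have hk1 : ∃ v ∈ V1, k * v ≠ v * k := by
        by_contra hcon
        push Not at hcon
        apply hk
        refine t.d1.cV k (t.QP1 hkQ) ?_
        intro v hv
        obtain ⟨u1, hu1, u2, hu2, rfl⟩ := t.d1.dec v hv
        rw [← mul_assoc, hcon u1 hu1, mul_assoc, hk2 u2 hu2, mul_assoc]
      obtain ⟨v, hv, hvk⟩ := hk1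
      have hne : k * v * k⁻¹ ≠ v := fun h1 => hvk (by
        calc k * v = k * v * k⁻¹ * k := by group
          _ = v * k := by rw [h1])
      have h3 : k * v * k⁻¹ = v * c1 := by
        refine side t.d2.card2 (fun v hv => t.d1.sq v (t.d1.le1 hv)) hc1 hv hc1ne ?_ ?_ f1
          (Two.conj_mem k1 hv) hne
        · rintro rfl; exact hvk (by group)
        · rintro rfl; exact hne f1
      have h4 : c1 ∈ Q := by
        have h5 : v⁻¹ * k * v⁻¹⁻¹ * k⁻¹ ∈ V ⊓ Q := h.comm_V (inv_mem (t.d1.le1 hv)) hkQ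
        have h6 : v⁻¹ * k * v⁻¹⁻¹ * k⁻¹ = v⁻¹ * (k * v * k⁻¹) := by group
        rw [h6, h3, inv_mul_cancel_left] at h5
        exact (mem_inf.mp h5).2
      refine ⟨h4, ?_⟩
      have h5 : c2 = c1⁻¹ * z := by rw [hz]; group
      rw [h5]; exact mul_mem (inv_mem h4) hzQ
    · push Not at hk2
      obtain ⟨v, hv, hvk⟩ := hk2
      have hne : k * v * k⁻¹ ≠ v := fun h1 => hvk (by
        calc k * v = k * v * k⁻¹ * k := by group
          _ = v * k := by rw [h1])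
      have h3 : k * v * k⁻¹ = v * c2 := by
        refine side t.d1.card2 (fun v hv => t.d1.sq v (t.d1.le2 hv)) hc2 hv hc2ne ?_ ?_ f2
          (Two.conj_mem k2 hv) hne
        · rintro rfl; exact hvk (by group)
        · rintro rfl; exact hne f2
      have h4 : c2 ∈ Q := by
        have h5 : v⁻¹ * k * v⁻¹⁻¹ * k⁻¹ ∈ V ⊓ Q := h.comm_V (inv_mem (t.d1.le2 hv)) hkQ
        have h6 : v⁻¹ * k * v⁻¹⁻¹ * k⁻¹ = v⁻¹ * (k * v * k⁻¹) := by group
        rw [h6, h3, inv_mul_cancel_left] at h5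
        exact (mem_inf.mp h5).2
      refine ⟨?_, h4⟩
      have h5 : c1 = z * c2⁻¹ := by rw [hz]; group
      rw [h5]; exact mul_mem hzQ (inv_mem h4)
  refine ⟨c1, c2, v1, v2, ?_⟩
  exact
    { toBase := h
      toTwo := t
      hI := hI'
      m1 := hc1
      m2 := hc2
      hz := hz
      c1ne := hc1ne
      c2ne := hc2ne
      c1Q := hc12.1
      c2Q := hc12.2
      w1 := hv1
      w2 := hv2
      v1Q := hv1Q
      v2Q := hv2Q }

/-- The contradiction in the case `|Q| = 64`. -/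
theorem Base.false_of_64 [Finite G] {P Q V : Subgroup G} {z a r x : G} (h : Base P Q V z a r x)
    {P1 V1 V2 : Subgroup G} {y1 y2 : G} (t : Two P1 Q V V1 V2 y1 y2)
    (hL : ∀ U : Subgroup G, IsPGroup 2 U → U ≠ ⊥ → Group.IsSolvable (normalizer (U : Set G)))
    (hQ : Nat.card Q = 64) (hnc : ∃ q ∈ Q, ∃ q' ∈ Q, q * q' * q⁻¹ * q'⁻¹ ∉ V) : False := by
  have hI2 : Nat.card (II Q V x) = 2 := by
    rcases h.card_I with h2 | h4
    · exact h2
    · exfalso
      obtain ⟨q, hq, q', hq', hk⟩ := hnc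
      exact hk (h.comm_mem hQ h4 hq hq')
  have hF := h.card_F'
  rw [hI2] at hF
  have hF' : Nat.card (FF Q V x) = 32 := by omega
  have hQF : Nat.card Q = 2 * Nat.card (FF Q V x) := by rw [hQ, hF']
  obtain ⟨c1, c2, v1, v2, hf⟩ := h.exists_facts t hI2 hnc
  -- choose `g`
  obtain ⟨q, hq, hqF⟩ : ∃ q ∈ Q, q ∉ FF Q V x := by
    by_contra hcon
    push Not at hcon
    have h1 : Q ≤ FF Q V x := hcon
    have h2 := card_dvd_of_le h1
    have h3 := Nat.le_of_dvd Nat.card_pos h2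
    omega
  obtain ⟨g, hg, hxg, hqg⟩ := h.exists_fixed hq
  have hgF : g ∉ FF Q V x := by
    intro h1
    apply hqF
    have h2 := mul_mem hqg h1
    rwa [inv_mul_cancel_right] at h2
  have hgg : g * g ∈ II Q V x := by
    refine h.fixed_F (mul_self_mem_of_two h.F_le_Q hQF hg) ?_
    rw [← mul_assoc, hxg, mul_assoc, hxg, mul_assoc]
  have hgI : g ∉ II Q V x := fun h1 => hgF (Ch.I_le_F h1)
  have hgD : ∃ d ∈ V ⊓ Q, g * d * g⁻¹ * d⁻¹ ∉ II Q V x := by
    by_contra hcon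
    push Not at hcon
    have h1 : ∀ f ∈ FF Q V x, g * f * g⁻¹ * f⁻¹ ∈ II Q V x := fun f hf =>
      h.comm_F_of_comm_D hxg hcon hf
    have h2 : ∀ f ∈ FF Q V x, (1 : G) * f * 1⁻¹ * f⁻¹ ∈ II Q V x := by
      intro f _
      rw [one_mul, inv_one, mul_one, mul_inv_cancel]; exact one_mem _
    have h3 : ∀ q ∈ Q, ∃ f ∈ FF Q V x, ∃ c, (c = 1 ∨ c = g) ∧ q = f * c := by
      intro q hq
      by_cases hqF : q ∈ FF Q V x
      · exact ⟨q, hqF, 1, Or.inl rfl, (mul_one q).symm⟩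
      · exact ⟨q * g⁻¹, mul_inv_mem_of_two h.F_le_Q hQF hq hg hqF hgF, g, Or.inr rfl, by group⟩
    have h4 : ∀ c, (c = 1 ∨ c = g) → ∀ f ∈ FF Q V x, c * f * c⁻¹ * f⁻¹ ∈ II Q V x := by
      rintro c (rfl | rfl)
      · exact h2
      · exact h1
    obtain ⟨q, hq, q', hq', hk⟩ := hnc
    apply hk
    obtain ⟨f, hf, c, hc, rfl⟩ := h3 q hq
    obtain ⟨f', hf', c', hc', rfl⟩ := h3 q' hq'
    have hIV : II Q V x ≤ V := Ch.I_le_D.trans inf_le_left
    refine hIV (h.comm_FC hf hf' (h4 c hc) (h4 c' hc') ?_)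
    have h5 : c * c' * c⁻¹ * c'⁻¹ = 1 := by
      rcases hc with rfl | rfl <;> rcases hc' with rfl | rfl <;> group
    rw [h5]; exact one_mem _
  obtain ⟨⟨hg1, hg2⟩, h5 | h5⟩ := hf.triv_or_triv hg hgg hgD
  · exact hf.final hL hg hxg hgg hgI hg1 h5
  · exact hf.symm.final hL hg hxg hgg hgI hg2 h5

end Cfsg.Agent.SectRankFour.C2.OneB
end

-- part: SectRankFour/C2/OneBWire
section
prune_inst 0x10000100040000000000000000001c42a2000002004b00012000000004808c408000062080200210000008040030006000000000001000000000000041180080000210021000a000000000008000000000000000000000000000000000000000000000000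
set_option linter.all false
open scoped Cfsg.Agent.FastGrp

/-!
# S0517, section (1b): from the pair of minimal parabolics to the core

* `exists_frat'`: the Frattini section `O₂(P)/B` with the nongenerator property;
* `exists_two`: for `|R| = 9` and `V = O₂(P)` the decomposition `V = V₁ × V₂`;
* `false_of_three`.
-/

set_option autoImplicit false

namespace Cfsg.Agent.SectRankFour.C2.OneBWire

open Subgroup Cfsg Cfsg.Agent.ZN Cfsg.Agent.MinSimple.MinParabolic Cfsg.Agent.MinSimple.VModule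
open Cfsg.Agent.SectRankFour.C2.Defs Cfsg.Agent.SectRankFour.C2.ParFacts
open Cfsg.Agent.SectRankFour.C2.ParIndex Cfsg.Agent.SectRankFour.C2.DA
open Cfsg.Agent.SectRankFour.C2.OneB
open Cfsg.Agent.SectRankFour.C2.Par (Sec)
open scoped commutatorElement

universe u

variable {G : Type u} [Group G]

/-- The Frattini section, with the nongenerator property. -/
theorem exists_frat' [Finite G] {P : Subgroup G} (hc : P ⊓ centralizer (o2 P : Set G) ≤ o2 P) :
    ∃ B : Subgroup G, Sec P (o2 P) B ∧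
      (∀ g ∈ P, (∀ a ∈ o2 P, g * a * g⁻¹ * a⁻¹ ∈ B) → g ∈ o2 P) ∧
      (∀ M ≤ o2 P, (∀ x ∈ o2 P, ∀ y ∈ o2 P, x ∉ M → y ∉ M → x * y ∈ M) → B ≤ M) ∧
      (∀ M ≤ o2 P, M ⊔ B = o2 P → M = o2 P) := by
  classical
  have h2 : Fact (Nat.Prime 2) := ⟨Nat.prime_two⟩
  set Q : Subgroup P := pCore 2 P with hQ
  have hQn : Q.Normal := Lib.Cores.pCore_normal 2
  have hQp : IsPGroup 2 Q := Lib.Cores.pCore_isPGroup 2
  have hQc : centralizer (Q : Set P) ≤ Q := by
    intro x hx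
    have h1 : (x : G) ∈ P ⊓ centralizer (o2 P : Set G) := by
      refine ⟨x.2, ?_⟩
      refine mem_centralizer_iff.mpr ?_
      rintro _ ⟨y, hy, rfl⟩
      exact congrArg Subtype.val (mem_centralizer_iff.mp hx y hy)
    obtain ⟨y, hy, hyx⟩ := hc h1
    rwa [Subtype.ext hyx] at hy
  set F : Subgroup P := (_root_.frattini Q).map Q.subtype with hF
  have hFn : F.Normal := by
    have h1 : (_root_.frattini Q).Characteristic := frattini_characteristic
    exact inferInstance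
  have hFQ : F ≤ Q := map_subtype_le _
  have hker := PLocal.SectionFrattini.isPGroup_sectionKernel_frattini Q hQp hQc
  have hkn : (sectionKernel Q F).Normal := by
    have h1 : (Q.map (QuotientGroup.mk' F)).Normal := hQn.map _ (QuotientGroup.mk'_surjective F)
    have : (centralizer ((Q.map (QuotientGroup.mk' F) : Subgroup (P ⧸ F)) : Set (P ⧸ F))).Normal :=
      inferInstance
    exact this.comap (QuotientGroup.mk' F)
  have hmem : ∀ {x : P}, (x : G) ∈ F.map P.subtype → x ∈ F := by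
    rintro x ⟨y, hy, hyx⟩
    have : y = x := Subtype.ext hyx
    rwa [← this]
  -- the comparison of subgroups of `o2 P` with subgroups of `Q`
  have hQo : ∀ x : P, x ∈ Q ↔ (x : G) ∈ o2 P := by
    intro x
    constructor
    · intro hx
      exact ⟨x, hx, rfl⟩
    · rintro ⟨y, hy, hyx⟩
      have : y = x := Subtype.ext hyx
      rwa [← this]
  refine ⟨F.map P.subtype, ⟨map_mono hFQ, o2_le P, le_normalizer_o2 P,
    le_normalizer_map_of_normal hFn, ?_, ?_⟩, ?_, ?_, ?_⟩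
  · rintro _ ⟨x, hx, rfl⟩ _ ⟨y, hy, rfl⟩
    refine ⟨x * y * x⁻¹ * y⁻¹, ?_, by simp⟩
    exact ⟨_, Lib.FrattiniPGroup.commutator_mem_frattini hQp ⟨x, hx⟩ ⟨y, hy⟩, rfl⟩
  · rintro _ ⟨x, hx, rfl⟩
    refine ⟨x ^ 2, ?_, by simp⟩
    exact ⟨_, Lib.FrattiniPGroup.pow_mem_frattini hQp ⟨x, hx⟩, rfl⟩
  · intro g hg hga
    refine ⟨⟨g, hg⟩, (Lib.Cores.le_pCore hkn hker) ?_, rfl⟩
    rw [PLocal.SectionFrattini.mem_sectionKernel]
    intro k hk
    have h1 := hmem (x := ⟨g, hg⟩ * k * ⟨g, hg⟩⁻¹ * k⁻¹) (hga k ⟨k, hk, rfl⟩)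
    have h3 : ⁅k, (⟨g, hg⟩ : P)⁆ = (⟨g, hg⟩ * k * ⟨g, hg⟩⁻¹ * k⁻¹)⁻¹ := by
      rw [commutatorElement_def]; group
    rw [h3]
    exact inv_mem h1
  · intro M hM hM2
    -- the corresponding subgroup of `Q`
    set M' : Subgroup Q := (M.subgroupOf P).subgroupOf Q with hM'
    have hmemM : ∀ x : Q, x ∈ M' ↔ ((x : P) : G) ∈ M := by
      intro x
      rw [hM', mem_subgroupOf, mem_subgroupOf]
    have hfr : _root_.frattini Q ≤ M' := by
      by_cases htop : M' = ⊤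
      · rw [htop]; exact le_top
      · refine frattini_le_coatom ⟨htop, ?_⟩
        intro K hK
        obtain ⟨k, hkK, hkM⟩ := SetLike.exists_of_lt hK
        rw [eq_top_iff]
        intro q _
        by_cases hq : q ∈ M'
        · exact hK.le hq
        · rw [hmemM] at hq hkM
          have h1 := hM2 _ ((hQo _).mp q.2) _ ((hQo _).mp k.2) hq hkM
          have h3 : q * k ∈ M' := by rw [hmemM]; exact h1
          have h4 := K.mul_mem (hK.le h3) (K.inv_mem hkK)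
          rwa [mul_inv_cancel_right] at h4
    rintro _ ⟨_, ⟨f, hf, rfl⟩, rfl⟩
    exact (hmemM f).mp (hfr hf)
  · intro M hM hM2
    set M' : Subgroup Q := (M.subgroupOf P).subgroupOf Q with hM'
    have hmemM : ∀ x : Q, x ∈ M' ↔ ((x : P) : G) ∈ M := by
      intro x
      rw [hM', mem_subgroupOf, mem_subgroupOf]
    have hMmap : (M'.map Q.subtype).map P.subtype = M := by
      ext g
      constructor
      · rintro ⟨_, ⟨x, hx, rfl⟩, rfl⟩
        exact (hmemM x).mp hx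
      · intro hg
        obtain ⟨y, hy, hyg⟩ := hM hg
        refine ⟨y, ⟨⟨y, hy⟩, ?_, rfl⟩, hyg⟩
        rw [SetLike.mem_coe, hmemM]
        show P.subtype y ∈ M
        rw [hyg]; exact hg
    have hsup : M' ⊔ _root_.frattini Q = ⊤ := by
      have h1 : ((M' ⊔ _root_.frattini Q).map Q.subtype).map P.subtype
          = ((⊤ : Subgroup Q).map Q.subtype).map P.subtype := by
        rw [Subgroup.map_sup, Subgroup.map_sup, hMmap, ← hF, hM2, ← MonoidHom.range_eq_map,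
          range_subtype]
        rfl
      exact map_injective Q.subtype_injective (map_injective P.subtype_injective h1)
    have h3 := frattini_nongenerating hsup
    rw [← hMmap, h3, ← MonoidHom.range_eq_map, range_subtype]
    rfl

/-! ### The decomposition `V = V₁ × V₂` -/

variable [Finite G] {S P R : Subgroup G} {p : ℕ}

omit [Finite G] in
theorem secV (hc : ∀ v ∈ o2 P, ∀ w ∈ o2 P, v * w = w * v)
    (hsq : ∀ v ∈ o2 P, v ^ 2 = 1) : Sec P (o2 P) ⊥ where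
  le := bot_le
  leP := o2_le P
  nA := le_normalizer_o2 P
  nB := fun g _ => by
    rw [mem_normalizer_iff]
    intro x
    rw [Subgroup.mem_bot, Subgroup.mem_bot, conj_eq_one_iff]
  comm := fun a ha b hb => by
    rw [hc a ha b hb, mul_inv_cancel_right, mul_inv_cancel]; exact one_mem _
  sq := fun a ha => by rw [hsq a ha]; exact one_mem _

theorem R_moves (h : Defs.Par S P R p) : ∃ a ∈ o2 P, ∃ x ∈ R, x * a * x⁻¹ * a⁻¹ ∉ (⊥ : Subgroup G) := by
  by_contra hcon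
  push Not at hcon
  have h1 : R ≤ o2 P := by
    intro x hx
    refine h.char2 (mem_inf.mpr ⟨h.R_le hx, mem_centralizer_iff.mpr ?_⟩)
    intro a ha
    have h2 := Subgroup.mem_bot.mp (hcon a ha x hx)
    have h3 : x * a * x⁻¹ = a := mul_inv_eq_one.mp h2
    calc a * x = x * a * x⁻¹ * x := by rw [h3]
      _ = x * a := by group
  have h4 := o2_inf_R h
  rw [inf_eq_right.mpr h1] at h4
  have h5 := one_lt_card_R h
  rw [h4, Subgroup.card_bot] at h5
  exact lt_irrefl _ h5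

theorem zpowers_eq_of_card_three {C : Subgroup G} (hC : Nat.card C = 3) {x : G} (hx : x ∈ C)
    (hx1 : x ≠ 1) : zpowers x = C := by
  refine Subgroup.eq_of_le_of_card_ge (zpowers_le.mpr hx) ?_
  rw [hC, Nat.card_zpowers]
  have h4 : orderOf x ∣ 3 := by
    rw [← hC, ← Nat.card_zpowers]
    exact card_dvd_of_le (zpowers_le.mpr hx)
  rcases (Nat.dvd_prime Nat.prime_three).mp h4 with h5 | h5
  · exact absurd (orderOf_eq_one_iff.mp h5) hx1
  · exact h5.ge

theorem conj_inv_mem {B B' : Subgroup G} (hcard : Nat.card B = Nat.card B') {n : G}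
    (h : ∀ x ∈ B, n * x * n⁻¹ ∈ B') {x : G} (hx : x ∈ B') : n⁻¹ * x * n ∈ B := by
  have h1 : B.map (MulAut.conj n).toMonoidHom = B' := by
    refine Subgroup.eq_of_le_of_card_ge ?_ ?_
    · rintro _ ⟨y, hy, rfl⟩
      exact h y hy
    · rw [Subgroup.card_map_of_injective (MulAut.conj n).injective, hcard]
  rw [← h1] at hx
  obtain ⟨y, hy, rfl⟩ := hx
  have h2 : n⁻¹ * (n * y * n⁻¹) * n = y := by group
  show n⁻¹ * (n * y * n⁻¹) * n ∈ B
  rwa [h2]

theorem cj_cen {A B : Subgroup G} (hs : Sec P A B) {C C' : Subgroup G} (hC : C ≤ P) (hC' : C' ≤ P)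
    (hcard : Nat.card C = Nat.card C') (hcc : Nat.card (hs.cen hC) = Nat.card (hs.cen hC')) {n : G}
    (hn : n ∈ P) (h : ∀ x ∈ C, n * x * n⁻¹ ∈ C') : cj n (hs.cen hC) = hs.cen hC' := by
  refine Subgroup.eq_of_le_of_card_ge ?_ ?_
  · rintro _ ⟨a, ha, rfl⟩
    exact hs.conj_mem_cen hC hC' hn (fun x hx => conj_inv_mem hcard h hx) ha
  · rw [← hcc]
    exact (Nat.card_congr ((hs.cen hC).equivMapOfInjective _
      (MulAut.conj n).injective).toEquiv).le

omit [Finite G] in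
theorem cj_of_comm {V W : Subgroup G} (hc : ∀ v ∈ V, ∀ w ∈ V, v * w = w * v) (hW : W ≤ V) {v : G}
    (hv : v ∈ V) : cj v W = W := by
  ext g
  rw [mem_cj]
  constructor
  · intro h
    have h1 := hc v hv _ (hW h)
    have h2 : g = v * (v⁻¹ * g * v) * v⁻¹ := by group
    rw [h1, mul_inv_cancel_right] at h2
    rw [h2]; exact h
  · intro h
    have h1 := hc v hv _ (hW h)
    rwa [mul_assoc, ← h1, inv_mul_cancel_left]

/-- one half of the decomposition -/
theorem dec_of (h : Defs.Par S P R 3) (hc : ∀ v ∈ o2 P, ∀ w ∈ o2 P, v * w = w * v)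
    (hsq : ∀ v ∈ o2 P, v ^ 2 = 1) (hs : Sec P (o2 P) ⊥) {B1 B2 : Subgroup G} (h1 : B1 ≤ R)
    (h2 : B2 ≤ R) (hc1 : Nat.card B1 = 3)
    (hk2 : Nat.card (hs.cen (h2.trans h.R_le)) = 4)
    (hki : hs.cen (h1.trans h.R_le) ⊓ hs.cen (h2.trans h.R_le) = ⊥)
    (hks : hs.cen (h1.trans h.R_le) ⊔ hs.cen (h2.trans h.R_le) = o2 P) :
    ∃ y, Dec P (o2 P) (hs.cen (h1.trans h.R_le)) (hs.cen (h2.trans h.R_le)) y := by
  obtain ⟨y, hy, hy1⟩ := ActFour.exists_ne_one (B := B1) (by rw [hc1]; norm_num)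
  have hyR := h1 hy
  refine ⟨y, ?_⟩
  exact
    { cV := fun g hg hgv => h.char2 (mem_inf.mpr ⟨hg, mem_centralizer_iff.mpr
        (fun v hv => (hgv v hv).symm)⟩)
      comm := hc
      sq := fun v hv => by rw [← pow_two]; exact hsq v hv
      le1 := hs.cen_le _
      le2 := hs.cen_le _
      dec := by
        intro v hv
        have hn : hs.cen (h2.trans h.R_le) ≤
            normalizer ((hs.cen (h1.trans h.R_le) : Subgroup G) : Set G) := by
          refine le_normalizer_of fun t ht x hx => ?_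
          rw [hc t (hs.cen_le _ ht) x (hs.cen_le _ hx), mul_inv_cancel_right]
          exact hx
        rw [← hks, ← SetLike.mem_coe, coe_mul_of_right_le_normalizer_left _ _ hn] at hv
        obtain ⟨v1, hv1, v2, hv2, rfl⟩ := hv
        exact ⟨v1, hv1, v2, hv2, rfl⟩
      inf := fun v hv1 hv2 => by
        have h3 := mem_inf.mpr ⟨hv1, hv2⟩
        rw [hki] at h3
        exact Subgroup.mem_bot.mp h3
      card2 := hk2
      yP := h.R_le hyR
      y3 := h.pow_R y hyR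
      yV1 := fun v hv => by
        have h3 := Subgroup.mem_bot.mp (hv.2 y hy)
        have h4 : y * v * y⁻¹ = v := mul_inv_eq_one.mp h3
        calc y * v = y * v * y⁻¹ * y := by group
          _ = v * y := by rw [h4]
      yV2 := fun v hv => by
        refine hs.conj_mem_cen _ _ (h.R_le hyR) (fun x hx => ?_) hv
        rw [mul_assoc, h.comm_R x (h2 hx) y hyR, inv_mul_cancel_left]
        exact hx
      fpf := fun v hv hyv => by
        have h3 : v ∈ hs.cen (h1.trans h.R_le) := by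
          refine ⟨hs.cen_le _ hv, fun x hx => ?_⟩
          rw [← zpowers_eq_of_card_three hc1 hy hy1] at hx
          obtain ⟨k, rfl⟩ := hx
          have h4 : Commute (y ^ k) v := (show Commute y v from hyv).zpow_left k
          show y ^ k * v * (y ^ k)⁻¹ * v⁻¹ ∈ (⊥ : Subgroup G)
          rw [h4.eq, mul_inv_cancel_right, mul_inv_cancel]
          exact one_mem _
        have h4 := mem_inf.mpr ⟨h3, hv⟩
        rw [hki] at h4
        exact Subgroup.mem_bot.mp h4 }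

/-- The decomposition for `|R| = 9`. -/
theorem exists_two (hr : SectionalPRankLE 2 4 G) (h : Defs.Par S P R p) (hR : Nat.card R = 9)
    (hc : ∀ v ∈ o2 P, ∀ w ∈ o2 P, v * w = w * v) (hsq : ∀ v ∈ o2 P, v ^ 2 = 1) {Q : Subgroup G}
    (hQS : Q ≤ S) (hSQ : ∀ s ∈ S, ∃ q ∈ Q, ∃ v ∈ o2 P, s = q * v) :
    (∃ V1 V2 y1 y2, Two P Q (o2 P) V1 V2 y1 y2) ∧ ∃ B1 B2, Sw S R B1 B2 := by
  have hp3 : p = 3 := by
    rcases h.card_R with h1 | ⟨h1, -⟩
    · exfalso
      rw [hR] at h1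
      rcases h.p_eq with h2 | h2 <;> omega
    · exact h1
  subst hp3
  have hs := secV (P := P) hc hsq
  obtain ⟨hA, B1, B2, h1, h2, hc1, hc2, hint, hsup, hk1, hk2, hki, hks, hfix, hperm, hswap⟩ :=
    nine hr h hR hs (R_moves h)
  rw [Subgroup.card_bot, mul_one] at hk1 hk2
  obtain ⟨y2, d1⟩ := dec_of h hc hsq hs h1 h2 hc1 hk2 hki hks
  obtain ⟨y1, d2⟩ := dec_of h hc hsq hs h2 h1 hc2 hk1 (by rw [inf_comm]; exact hki)
    (by rw [sup_comm]; exact hks)
  have hC1 := h1.trans h.R_le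
  have hC2 := h2.trans h.R_le
  have hPn : ∀ n ∈ S ⊓ normalizer (R : Set G),
      (cj n (hs.cen hC1) = hs.cen hC1 ∧ cj n (hs.cen hC2) = hs.cen hC2) ∨
      (cj n (hs.cen hC1) = hs.cen hC2 ∧ cj n (hs.cen hC2) = hs.cen hC1) := by
    intro n hn
    have hnP := h.le hn.1
    rcases hperm n hnP hn.2 with ⟨e1, e2⟩ | ⟨e1, e2⟩
    · left
      exact ⟨cj_cen hs hC1 hC1 rfl rfl hnP e1, cj_cen hs hC2 hC2 rfl rfl hnP e2⟩
    · right
      exact ⟨cj_cen hs hC1 hC2 (by rw [hc1, hc2]) (by rw [hk1, hk2]) hnP e1,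
        cj_cen hs hC2 hC1 (by rw [hc1, hc2]) (by rw [hk1, hk2]) hnP e2⟩
  have hV1 : ∀ v ∈ o2 P, cj v (hs.cen hC1) = hs.cen hC1 := fun v hv =>
    cj_of_comm hc (hs.cen_le _) hv
  have hV2 : ∀ v ∈ o2 P, cj v (hs.cen hC2) = hs.cen hC2 := fun v hv =>
    cj_of_comm hc (hs.cen_le _) hv
  refine ⟨⟨hs.cen hC1, hs.cen hC2, y1, y2, ⟨d1, d2, hQS.trans h.le, ?_, ?_⟩⟩, B1, B2,
    h1, h2, hc1, hc2, hint, hsup, fun g hg hgR => hperm g (h.le hg) hgR, hswap⟩
  · intro q hq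
    obtain ⟨v, hv, n, hn, rfl⟩ := exists_mul h (hQS hq)
    rcases hPn n hn with ⟨e1, e2⟩ | ⟨e1, e2⟩
    · left
      exact ⟨by rw [cj_mul, e1, hV1 v hv], by rw [cj_mul, e2, hV2 v hv]⟩
    · right
      exact ⟨by rw [cj_mul, e1, hV2 v hv], by rw [cj_mul, e2, hV1 v hv]⟩
  · obtain ⟨s, hs', e1, e2⟩ := hswap
    obtain ⟨q, hq, v, hv, hqv⟩ := hSQ s hs'.1
    have hsP := h.le hs'.1
    have f1 := cj_cen hs hC1 hC2 (by rw [hc1, hc2]) (by rw [hk1, hk2]) hsP e1
    have f2 := cj_cen hs hC2 hC1 (by rw [hc1, hc2]) (by rw [hk1, hk2]) hsP e2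
    refine ⟨q, hq, ?_, ?_⟩
    · rw [hqv, cj_mul, hV1 v hv] at f1; exact f1
    · rw [hqv, cj_mul, hV2 v hv] at f2; exact f2

/-! ### Index two -/

theorem mul_inv_mem {Q S : Subgroup G} (hQS : Q ≤ S) (h2 : Q.relIndex S = 2) {s t : G} (hs : s ∈ S)
    (ht : t ∈ S) (hs1 : s ∉ Q) (ht1 : t ∉ Q) : s * t⁻¹ ∈ Q := by
  have h3 := Par.card_mul_relIndex hQS
  rw [h2] at h3
  exact mul_inv_mem_of_two hQS (by rw [← h3, mul_comm]) hs ht hs1 ht1

/-- If `s` acts on the elementary abelian group `V` as an involution then `|V| ≤ |C_V(s)|²`. -/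
theorem card_le_sq {V : Subgroup G} (hc : ∀ v ∈ V, ∀ w ∈ V, v * w = w * v)
    (hsq : ∀ v ∈ V, v ^ 2 = 1) {s : G} (hs : ∀ v ∈ V, s * v * s⁻¹ ∈ V)
    (hs2 : ∀ v ∈ V, s * (s * v * s⁻¹) * s⁻¹ = v) {C : Subgroup G}
    (hC : ∀ v ∈ V, s * v = v * s → v ∈ C) : Nat.card V ≤ Nat.card C ^ 2 := by
  have hinv : ∀ v ∈ V, v⁻¹ = v := fun v hv =>
    inv_eq_of_mul_eq_one_left (by rw [← pow_two]; exact hsq v hv)
  let δ : V →* V :=
    { toFun := fun v => ⟨s * v * s⁻¹ * v, mul_mem (hs v v.2) v.2⟩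
      map_one' := Subtype.ext (by
        show s * 1 * s⁻¹ * 1 = (1 : G)
        group)
      map_mul' := fun v w => Subtype.ext (by
        show s * ((v : G) * w) * s⁻¹ * (v * w) = (s * v * s⁻¹ * v) * (s * w * s⁻¹ * w)
        calc s * ((v : G) * w) * s⁻¹ * (v * w) = (s * v * s⁻¹) * ((s * w * s⁻¹) * v) * w := by group
          _ = (s * v * s⁻¹) * (v * (s * w * s⁻¹)) * w := by rw [hc _ (hs w w.2) v v.2]
          _ = _ := by group) }
  have hker : Nat.card δ.ker ≤ Nat.card C := by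
    refine Nat.card_le_card_of_injective (fun v : δ.ker => (⟨((v : V) : G), ?_⟩ : C)) ?_
    · have h1 : s * ((v : V) : G) * s⁻¹ * ((v : V) : G) = 1 := congrArg Subtype.val v.2
      refine hC _ (v : V).2 ?_
      have h2 : s * ((v : V) : G) * s⁻¹ = ((v : V) : G) :=
        (mul_eq_one_iff_eq_inv.mp h1).trans (hinv _ (v : V).2)
      calc s * ((v : V) : G) = s * ((v : V) : G) * s⁻¹ * s := by group
        _ = ((v : V) : G) * s := by rw [h2]
    · intro v w hvw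
      exact Subtype.ext (Subtype.ext (congrArg (fun t : C => (t : G)) hvw))
  have hran : Nat.card δ.range ≤ Nat.card C := by
    have h1 : ∀ w : δ.range, ((w : V) : G) ∈ C := by
      rintro ⟨_, v, rfl⟩
      refine hC _ (δ v).2 ?_
      show s * (s * (v : G) * s⁻¹ * v) = (s * (v : G) * s⁻¹ * v) * s
      have h2 := hs2 v v.2
      calc s * (s * (v : G) * s⁻¹ * v) = (s * (s * (v : G) * s⁻¹) * s⁻¹) * (s * v * s⁻¹) * s := by
            group
        _ = (s * (v : G) * s⁻¹ * v) * s := by rw [h2, hc _ v.2 _ (hs v v.2)]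
    refine Nat.card_le_card_of_injective (fun w : δ.range => (⟨((w : V) : G), h1 w⟩ : C)) ?_
    intro v w hvw
    exact Subtype.ext (Subtype.ext (congrArg (fun t : C => (t : G)) hvw))
  have h1 := Subgroup.card_mul_index δ.ker
  rw [Subgroup.index_ker] at h1
  rw [← h1, pow_two]
  exact Nat.mul_le_mul hker hran

/-- (1b) -/
theorem false_of_three {S P1 P2 : Subgroup G} (h : Pair S P1 P2) (h3 : S.relIndex P2 = 3)
    (hV : Nat.card (zl S P1) = 16) (hZ : Nat.card (zc S) = 2) (hn : ¬ zl S P1 ≤ o2 P2) : False := by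
  obtain ⟨R1, p1, h1⟩ := h.par1
  obtain ⟨R2, p2, h2⟩ := h.par2
  have hr := h.hyp.rank
  set V := zl S P1 with hVdef
  have hVc : ∀ v ∈ V, ∀ w ∈ V, v * w = w * v := zl_comm h1.le h1.two h1.syl h1.char2
  have hVsq : ∀ v ∈ V, v ^ 2 = 1 := zl_sq h1.le h1.two h1.syl h1.char2
  have hVQ1 : V ≤ o2 P1 := (zl_le_zc h1.le h1.two h1.syl h1.char2).trans (zc_le _)
  have hQ1V : ∀ q ∈ o2 P1, ∀ v ∈ V, q * v = v * q := fun q hq v hv =>
    (mem_centralizer_iff.mp (o2_le_centralizer_zl h1.le h1.two h1.syl h1.char2 hq) v hv).symm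
  have hQ1S : o2 P1 ≤ S := o2_le_S h1
  have hQ2S : o2 P2 ≤ S := o2_le_S h2
  have hVS : V ≤ S := hVQ1.trans hQ1S
  have hP1V : P1 ≤ normalizer (V : Set G) := le_normalizer_zl S P1
  have hSV : S ≤ normalizer (V : Set G) := h1.le.trans hP1V
  have hVconj : ∀ s ∈ S, ∀ v ∈ V, s * v * s⁻¹ ∈ V := fun s hs v hv =>
    (mem_normalizer_iff.mp (hSV hs) v).mp hv
  have hR2 : Nat.card R2 = 3 := by rw [← h2.relIndex, h3]
  have hidx2 : (o2 P2).relIndex S = 2 := index_three h2 hR2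
  -- `|S : Q1| ≠ 2`
  have hidx1 : (o2 P1).relIndex S ≠ 2 := by
    intro hi
    obtain ⟨s, hs, hsQ⟩ := SetLike.not_le_iff_exists.mp (S_not_le h1)
    have hss : s * s ∈ o2 P1 := by
      have h4 := mul_inv_mem hQ1S hi hs (inv_mem hs) hsQ (fun h5 => hsQ (by
        have := inv_mem h5
        rwa [inv_inv] at this))
      rwa [inv_inv] at h4
    have h5 : Nat.card V ≤ Nat.card (zc S) ^ 2 := by
      refine card_le_sq hVc hVsq (hVconj s hs) ?_ ?_
      · intro v hv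
        have h6 := hQ1V _ hss v hv
        have h7 : s * (s * v * s⁻¹) * s⁻¹ = s * s * v * (s * s)⁻¹ := by group
        rw [h7, h6, mul_inv_cancel_right]
      · intro v hv hsv
        refine mem_zc.mpr ⟨hVS hv, ?_, hVsq v hv⟩
        intro b hb
        by_cases hbQ : b ∈ o2 P1
        · exact hQ1V b hbQ v hv
        · have h6 := hQ1V _ (mul_inv_mem hQ1S hi hb hs hbQ hsQ) v hv
          calc b * v = b * s⁻¹ * (s * v) := by group
            _ = (b * s⁻¹ * v) * s := by rw [hsv]; group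
            _ = v * b := by rw [h6]; group
    rw [hV, hZ] at h5
    omega
  have hR1 : Nat.card R1 ≠ 3 := fun h4 => hidx1 (index_three h1 h4)
  -- `Q1 = V`
  have hQ1 : o2 P1 = V := by
    obtain ⟨B, hB, hker, hmax, hgen⟩ := exists_frat' h1.char2
    have hn1 : ∃ a ∈ o2 P1, ∃ x ∈ R1, x * a * x⁻¹ * a⁻¹ ∉ B := by
      by_contra hcon
      push Not at hcon
      have h4 : R1 ≤ o2 P1 := fun x hx => hker x (h1.R_le hx) (fun a ha => hcon a ha x hx)
      have h5 := o2_inf_R h1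
      rw [inf_eq_right.mpr h4] at h5
      have h6 := one_lt_card_R h1
      rw [h5, Subgroup.card_bot] at h6
      exact lt_irrefl _ h6
    obtain ⟨-, -, hirr⟩ := irred16 hr h1 hR1 hB hn1
    have hVB : P1 ≤ normalizer ((V ⊔ B : Subgroup G) : Set G) := by
      intro g hg
      rw [mem_normalizer_iff_map_conj_eq, Subgroup.map_sup,
        mem_normalizer_iff_map_conj_eq.mp (hP1V hg), mem_normalizer_iff_map_conj_eq.mp (hB.nB hg)]
    rcases hirr (V ⊔ B) le_sup_right (sup_le hVQ1 hB.le) hVB with h4 | h4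
    · exfalso
      apply hn
      have h5 : B ≤ o2 P1 ⊓ o2 P2 := by
        refine hmax _ inf_le_left ?_
        intro x hx y hy hxM hyM
        have hx2 : x ∉ o2 P2 := fun h6 => hxM (mem_inf.mpr ⟨hx, h6⟩)
        have hy2 : y⁻¹ ∉ o2 P2 := fun h6 => hyM (mem_inf.mpr ⟨hy, by
          have := inv_mem h6
          rwa [inv_inv] at this⟩)
        refine mem_inf.mpr ⟨mul_mem hx hy, ?_⟩
        have h6 := mul_inv_mem hQ2S hidx2 (hQ1S hx) (inv_mem (hQ1S hy)) hx2 hy2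
        rwa [inv_inv] at h6
      have h6 : V ≤ B := by rw [← h4]; exact le_sup_left
      exact h6.trans (h5.trans inf_le_right)
    · exact (hgen V hVQ1 h4).symm
  -- the element `a`
  obtain ⟨a, haV, haQ⟩ := SetLike.not_le_iff_exists.mp hn
  have haS := hVS haV
  have haa : a * a = 1 := by rw [← pow_two]; exact hVsq a haV
  have hainv : a⁻¹ = a := inv_eq_of_mul_eq_one_left haa
  have hSa : ∀ s ∈ S, s ∈ o2 P2 ∨ s * a ∈ o2 P2 := by
    intro s hs
    by_cases hsQ : s ∈ o2 P2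
    · exact Or.inl hsQ
    · right
      have := mul_inv_mem hQ2S hidx2 hs haS hsQ haQ
      rwa [hainv] at this
  have hsup : o2 P2 ⊔ V = S := by
    refine le_antisymm (sup_le hQ2S hVS) ?_
    intro s hs
    rcases hSa s hs with h4 | h4
    · exact mem_sup_left h4
    · have h5 : s = s * a * a := by rw [mul_assoc, haa, mul_one]
      rw [h5]
      exact mul_mem (mem_sup_left h4) (mem_sup_right haV)
  have hSQ : ∀ s ∈ S, ∃ q ∈ o2 P2, ∃ v ∈ V, s = q * v := by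
    intro s hs
    rcases hSa s hs with h4 | h4
    · exact ⟨s, h4, 1, one_mem _, (mul_one s).symm⟩
    · exact ⟨s * a, h4, a, haV, by rw [mul_assoc, haa, mul_one]⟩
  have hVnQ : V ≤ normalizer (o2 P2 : Set G) := (hVS.trans h2.le).trans (le_normalizer_o2 P2)
  -- cardinalities
  have hcS := Par.card_mul_relIndex hQ2S
  rw [hidx2] at hcS
  have hcS1 := Par.card_mul_relIndex hQ1S
  have hcQ1 : Nat.card (o2 P1) = 16 := by rw [hQ1]; exact hV
  rw [hcQ1] at hcS1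
  have hcD : Nat.card (V ⊓ o2 P2 : Subgroup G) = 8 := by
    have h4 := Par.card_sup_mul hVnQ
    rw [hsup, hV, inf_comm, ← hcS] at h4
    have h5 : 0 < Nat.card (o2 P2) := Nat.card_pos
    have h6 : Nat.card (o2 P2) * (2 * Nat.card (V ⊓ o2 P2 : Subgroup G)) =
        Nat.card (o2 P2) * 16 := by rw [← h4]; ring
    have h7 := Nat.eq_of_mul_eq_mul_left h5 h6
    omega
  -- the element `r`
  obtain ⟨r, hrR, hr1⟩ := ActFour.exists_ne_one (B := R2) (by rw [hR2]; norm_num)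
  have hrP := h2.R_le hrR
  have hp2 : p2 = 3 := by
    rcases h2.card_R with h4 | ⟨h4, -⟩
    · rw [← h4, hR2]
    · exact h4
  subst hp2
  have hr3 : r ^ 3 = 1 := h2.pow_R r hrR
  have hrQ : r ∉ o2 P2 := by
    intro h4
    have h5 := mem_inf.mpr ⟨h4, hrR⟩
    rw [o2_inf_R h2] at h5
    exact hr1 (Subgroup.mem_bot.mp h5)
  have hcen : ∀ s ∈ S, a * s * a⁻¹ * s⁻¹ ∈ o2 P2 := by
    intro s hs
    have hSn : S ≤ normalizer (o2 P2 : Set G) := h2.le.trans (le_normalizer_o2 P2)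
    by_cases hsQ : s ∈ o2 P2
    · exact mul_mem ((mem_normalizer_iff.mp (hSn haS) s).mp hsQ) (inv_mem hsQ)
    · refine mul_inv_mem hQ2S hidx2 (mul_mem (mul_mem haS hs) (inv_mem haS)) hs ?_ hsQ
      intro h4
      exact hsQ ((mem_normalizer_iff.mp (hSn haS) s).mpr h4)
  have har := inverts h2 haS haQ (by rw [pow_two, haa]; exact one_mem _) hcen hrR
  have hInp : Inp P2 (o2 P2) V a r 3 :=
    { QP := o2_le P2
      PQ := le_normalizer_o2 P2
      two := o2_isPGroup P2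
      VP := hVS.trans h2.le
      comm := hVc
      sq := hVsq
      QV := hQ2S.trans hSV
      ha := haV
      hVa := fun v hv => hSa v (hVS hv)
      hr := hrP
      odd := by decide
      hrn := by rw [hr3]; exact one_mem _
      har := har }
  obtain ⟨x, hx⟩ := hInp.exists_ch
  -- the element `z`
  obtain ⟨z, hz, hz1⟩ := ActFour.exists_ne_one (B := zc S) (by rw [hZ]; norm_num)
  have hBase : Base P2 (o2 P2) V z a r x :=
    { toCh := hx
      rQ := hrQ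
      cQ := fun g hg hgq => h2.char2 (mem_inf.mpr ⟨hg, mem_centralizer_iff.mpr
        (fun q hq => (hgq q hq).symm)⟩)
      zV := zc_le_zl S P1 hz
      zQ := zc_le _ (zc_le_zc_o2 h2.le h2.two h2.syl h2.char2 hz)
      z1 := hz1
      zP := fun g hg => (mem_centralizer_iff.mp (h.cent hg) z hz).symm
      cardD := hcD }
  -- squares
  have hsqV : Nat.card (o2 P2) = 32 → ∀ s ∈ S, s ^ 2 ∈ o2 P1 := by
    intro h32 s hs
    obtain ⟨q, hq, v, hv, rfl⟩ := hSQ s hs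
    have h4 := hBase.sq_mem h32 hq
    rw [hQ1]
    have h5 : (q * v) ^ 2 = (q * v * q⁻¹) * (q * q) * v := by rw [pow_two]; group
    rw [h5]
    exact mul_mem (mul_mem (hVconj q (hQ2S hq) v hv) h4) hv
  rcases h1.card_R with h5 | ⟨hp1, h9⟩
  · -- `|R1| = 5`
    rcases h1.p_eq with h6 | h6
    · exact hR1 (by rw [h5, h6])
    rcases index_five h1 (by rw [h5, h6]) with h7 | h7
    · exact hidx1 h7
    · have h32 : Nat.card (o2 P2) = 32 := by rw [h7] at hcS1; omega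
      have h8 := hsqV h32
      -- then `|S : Q1| = 2`
      obtain ⟨s, hs, hsQ⟩ := SetLike.not_le_iff_exists.mp (S_not_le h1)
      have h10 : ∀ t ∈ S, t ∉ o2 P1 → t * s ∈ o2 P1 := fun t ht htQ =>
        mul_mem_of_sq h1 h5 ht hs htQ hsQ (h8 t ht) (h8 s hs)
      apply hidx1
      have h11 : ((o2 P1).subgroupOf S).index = 2 := by
        rw [Subgroup.index_eq_two_iff]
        refine ⟨⟨s, hs⟩, ?_⟩
        rintro ⟨t, ht⟩
        rw [mem_subgroupOf, mem_subgroupOf]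
        show Xor (t * s ∈ o2 P1) (t ∈ o2 P1)
        by_cases htQ : t ∈ o2 P1
        · exact Or.inr ⟨htQ, fun h12 => hsQ ((mul_mem_cancel_left htQ).mp h12)⟩
        · exact Or.inl ⟨h10 t ht htQ, htQ⟩
      exact h11
  · -- `|R1| = 9`
    obtain ⟨⟨V1, V2, y1, y2, t⟩, B1, B2, hw⟩ := exists_two hr h1 h9 (by rw [hQ1]; exact hVc)
      (by rw [hQ1]; exact hVsq) hQ2S (by rw [hQ1]; exact hSQ)
    rw [hQ1] at t
    rcases index_nine h1 hw with ⟨h7, s, hs, -, -, -, hs2, -⟩ |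
      ⟨h7, s, hs, t', ht', hs12, hs21, -, htB1, htB2, -⟩
    · have h32 : Nat.card (o2 P2) = 32 := by rw [h7] at hcS1; omega
      exact hs2 (hsqV h32 s hs.1)
    · have h64 : Nat.card (o2 P2) = 64 := by rw [h7] at hcS1; omega
      refine hBase.false_of_64 t ?_ h64 ?_
      · intro U hU hU1
        exact h.hyp.locSolv _ ⟨U, hU, hU1, rfl⟩
      · by_contra hcon
        push Not at hcon
        -- then `[s, t'] ∈ V`
        have hk : s * t' * s⁻¹ * t'⁻¹ ∈ o2 P1 := by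
          rw [hQ1]
          obtain ⟨q, hq, v, hv, hqv⟩ := hSQ s hs.1
          obtain ⟨q', hq', v', hv', hqv'⟩ := hSQ t' ht'.1
          have h5 : s * t' * s⁻¹ * t'⁻¹ =
              (q * (v * (q' * (v' * v⁻¹) * q'⁻¹)) * q⁻¹) * (q * q' * q⁻¹ * q'⁻¹) *
              (q' * v'⁻¹ * q'⁻¹) := by
            rw [hqv, hqv']; group
          rw [h5]
          have hqS := hQ2S hq
          have hqS' := hQ2S hq'
          refine mul_mem (mul_mem (hVconj q hqS _ (mul_mem hv (hVconj q' hqS' _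
            (mul_mem hv' (inv_mem hv))))) (hcon q hq q' hq')) (hVconj q' hqS' _ (inv_mem hv'))
        have hkn : s * t' * s⁻¹ * t'⁻¹ ∈ normalizer (R1 : Set G) :=
          mul_mem (mul_mem (mul_mem hs.2 ht'.2) (inv_mem hs.2)) (inv_mem ht'.2)
        obtain ⟨b, hb, hb1⟩ := ActFour.exists_ne_one (B := B1) (by rw [hw.card1]; norm_num)
        have hbR := hw.le1 hb
        have h5 := comm_of_mem h1 hk hkn hbR
        -- the action of `s t' s⁻¹ t'⁻¹` on `b`
        have hb' : s⁻¹ * b * s ∈ B2 :=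
          conj_inv_mem (by rw [hw.card1, hw.card2]) (fun x hx => hs21 x hx) hb
        have h6 : t'⁻¹ * b * t' = b⁻¹ := by
          have h7 := htB1 b⁻¹ (inv_mem hb)
          rw [inv_inv] at h7
          calc t'⁻¹ * b * t' = t'⁻¹ * (t' * b⁻¹ * t'⁻¹) * t' := by rw [h7]
            _ = b⁻¹ := by group
        have h7 := htB2 (s⁻¹ * b * s)⁻¹ (inv_mem hb')
        have h8 : s * t' * s⁻¹ * t'⁻¹ * b * (s * t' * s⁻¹ * t'⁻¹)⁻¹ = b⁻¹ := by
          calc s * t' * s⁻¹ * t'⁻¹ * b * (s * t' * s⁻¹ * t'⁻¹)⁻¹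
              = s * t' * s⁻¹ * (t'⁻¹ * b * t') * s * t'⁻¹ * s⁻¹ := by group
            _ = s * (t' * (s⁻¹ * b * s)⁻¹ * t'⁻¹) * s⁻¹ := by rw [h6]; group
            _ = b⁻¹ := by rw [h7]; group
        rw [h5] at h8
        have hb3 : b ^ 3 = 1 := by
          have h9 := h1.pow_R b hbR
          rwa [hp1] at h9
        apply hb1
        have hb2 : b * b = 1 := by
          have h9 := congrArg (fun t => t * b) h8
          simpa using h9
        rw [pow_succ, pow_two, hb2, one_mul] at hb3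
        exact hb3

end Cfsg.Agent.SectRankFour.C2.OneBWire
end

-- part: SectRankFour/C2/BOne
section
set_option linter.all false
open scoped Cfsg.Agent.FastGrp

/-!
# S0517, rank 4, section 1: `b > 1`

For a pair of minimal parabolics, `V = zl S P1` lies in `o2 P2`: (1a) is `BOneFour.card_R2`,
(1b) is `OneBWire.false_of_three`.
-/

set_option autoImplicit false

namespace Cfsg.Agent.SectRankFour.C2.BOne

open Subgroup Cfsg Cfsg.Agent.ZN Cfsg.Agent.MinSimple.MinParabolic Cfsg.Agent.MinSimple.VModule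
  Cfsg.Agent.SectRankFour.C2.Defs

universe u

variable {G : Type u} [Group G] [Finite G] {S P1 P2 : Subgroup G}

/-- **`b > 1`.** -/
theorem le_o2 (h : Pair S P1 P2) : zl S P1 ≤ o2 P2 := by
  by_contra hn
  obtain ⟨R, p, hR⟩ := h.par2
  exact OneBWire.false_of_three h (by rw [hR.relIndex]; exact BOneFour.card_R2 h hn hR)
    (BOneA.card_V h hn) (BOneA.card_Z h hn) hn

end Cfsg.Agent.SectRankFour.C2.BOne
end
end
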